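import Cfsg.Agent.Lib.Transfer.Thompson
import Cfsg.Agent.Lib.Transfer.ConjFamily
import Cfsg.Agent.Lib.Glauberman.CyclicCoset
import Mathlib.GroupTheory.Transfer

/-!
# Groups with dihedral Sylow 2-subgroups and one class of involutions: the centralizer of the
central involution

`Data σ τ M₀`: `J = σ ^ M₀` is the central involution of `⟨σ, τ⟩` and `C(J)` is the product of
`⟨σ, τ⟩` and the subgroup `V` of its elements of odd order.
-/

set_option autoImplicit false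
set_option linter.style.haveILetI false
set_option linter.unusedSectionVars false

namespace Cfsg.Agent.DihedralBlock

variable {G : Type*} [Group G] [Finite G]

/-- The data used for the order formula. -/
structure Core (σ τ : G) (M₀ : ℕ) where
  V : Subgroup G
  hord : orderOf σ = 2 * M₀
  two_pow : ∃ k, orderOf σ = 2 ^ k
  hM : Even M₀
  hM0 : 0 < M₀
  tsq : τ * τ = 1
  inv : τ * σ * τ⁻¹ = σ⁻¹
  mem_V : ∀ v, v ∈ V ↔ Commute (σ ^ M₀) v ∧ Odd (orderOf v)
  oddV : Odd (Nat.card V)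
  normV : ∀ c, Commute (σ ^ M₀) c → ∀ v ∈ V, c * v * c⁻¹ ∈ V
  decomp : ∀ c, Commute (σ ^ M₀) c → ∃ v ∈ V, ∃ i : ℕ, c = v * σ ^ i ∨ c = v * (σ ^ i * τ)

/-- The case of a single class of involutions. -/
structure Data (σ τ : G) (M₀ : ℕ) extends Core σ τ M₀ where
  conjAll : ∀ s : G, orderOf s = 2 → IsConj (σ ^ M₀) s

namespace Core

variable {σ τ : G} {M₀ : ℕ} (d : Core σ τ M₀)
include d

theorem tinv : τ⁻¹ = τ := inv_eq_of_mul_eq_one_right d.tsq

theorem conj_pow_eq (i : ℕ) : τ * σ ^ i * τ⁻¹ = (σ ^ i)⁻¹ := by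
  rw [← conj_pow, d.inv, inv_pow]

theorem t_mul_pow (i : ℕ) : τ * σ ^ i = (σ ^ i)⁻¹ * τ := by
  rw [← d.conj_pow_eq i]; group

theorem sigma_pow_two_mul : σ ^ (2 * M₀) = 1 := by rw [← d.hord]; exact pow_orderOf_eq_one σ

theorem J_sq : σ ^ M₀ * σ ^ M₀ = 1 := by rw [← pow_add, ← two_mul]; exact d.sigma_pow_two_mul

theorem J_ne_one : σ ^ M₀ ≠ 1 := fun h => by
  have h1 := Nat.le_of_dvd d.hM0 (orderOf_dvd_of_pow_eq_one h)
  rw [d.hord] at h1
  have := d.hM0
  omega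

theorem orderOf_J : orderOf (σ ^ M₀) = 2 :=
  orderOf_eq_prime (by rw [pow_two]; exact d.J_sq) d.J_ne_one

theorem J_inv : (σ ^ M₀)⁻¹ = σ ^ M₀ := inv_eq_of_mul_eq_one_right d.J_sq

theorem commute_J_pow (i : ℕ) : Commute (σ ^ M₀) (σ ^ i) := Commute.pow_pow_self σ M₀ i

theorem commute_J_t : Commute (σ ^ M₀) τ := by
  have h := d.conj_pow_eq M₀
  rw [d.J_inv, mul_inv_eq_iff_eq_mul] at h
  exact h.symm

theorem odd_of_mem {v : G} (hv : v ∈ d.V) : Odd (orderOf v) := ((d.mem_V v).1 hv).2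

theorem commute_J {v : G} (hv : v ∈ d.V) : Commute (σ ^ M₀) v := ((d.mem_V v).1 hv).1

theorem eq_one_of_pow_two_pow {v : G} (hv : v ∈ d.V) {k : ℕ} (h : v ^ 2 ^ k = 1) : v = 1 :=
  orderOf_eq_one_iff.1 (Nat.eq_one_of_dvd_coprimes
    ((Nat.coprime_two_left.2 (d.odd_of_mem hv)).pow_left k) (orderOf_dvd_of_pow_eq_one h) dvd_rfl)

theorem eq_one_of_sq {v : G} (hv : v ∈ d.V) (h : v * v = 1) : v = 1 :=
  d.eq_one_of_pow_two_pow hv (k := 1) (by rw [pow_one, pow_two, h])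

/-- The exponent of the rotation part is well defined. -/
theorem pow_mem_V {i : ℕ} (h : σ ^ i ∈ d.V) : σ ^ i = 1 := by
  obtain ⟨k, hk⟩ := d.two_pow
  refine d.eq_one_of_pow_two_pow h (k := k) ?_
  rw [← pow_mul, ← hk, mul_comm, pow_mul, pow_orderOf_eq_one, one_pow]

theorem mul_pow_inj {v w : G} (hv : v ∈ d.V) (hw : w ∈ d.V) {i j : ℕ}
    (h : v * σ ^ i = w * σ ^ j) : v = w ∧ σ ^ i = σ ^ j := by
  obtain ⟨k, hk⟩ : ∃ k : ℕ, σ ^ k = σ ^ i * (σ ^ j)⁻¹ := by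
    refine ⟨i + (2 * M₀ - 1) * j, ?_⟩
    rw [pow_add, pow_mul]
    congr 1
    rw [← inv_pow]
    congr 1
    refine eq_inv_of_mul_eq_one_left ?_
    rw [← pow_succ, Nat.sub_add_cancel (by have := d.hM0; omega)]
    exact d.sigma_pow_two_mul
  have h1 : σ ^ i * (σ ^ j)⁻¹ = v⁻¹ * w := by
    calc σ ^ i * (σ ^ j)⁻¹ = v⁻¹ * (v * σ ^ i) * (σ ^ j)⁻¹ := by group
      _ = v⁻¹ * w := by rw [h]; group
  have h2 : σ ^ k ∈ d.V := by rw [hk, h1]; exact mul_mem (inv_mem hv) hw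
  have h3 := d.pow_mem_V h2
  rw [hk, mul_inv_eq_one] at h3
  exact ⟨mul_right_cancel (h.trans (by rw [h3])), h3⟩

theorem mul_pow_ne {v w : G} (hv : v ∈ d.V) (hw : w ∈ d.V) (i j : ℕ) :
    v * σ ^ i ≠ w * (σ ^ j * τ) := by
  intro h
  have ht : τ = (σ ^ j)⁻¹ * (w⁻¹ * v) * σ ^ j * ((σ ^ j)⁻¹ * σ ^ i) := by
    calc τ = (σ ^ j)⁻¹ * w⁻¹ * (w * (σ ^ j * τ)) := by group
      _ = (σ ^ j)⁻¹ * w⁻¹ * (v * σ ^ i) := by rw [h]
      _ = _ := by group
  set a := (σ ^ j)⁻¹ * (w⁻¹ * v) * σ ^ j with ha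
  set b := (σ ^ j)⁻¹ * σ ^ i with hb
  have ha' : a ∈ d.V := by
    have := d.normV (σ ^ j)⁻¹ (d.commute_J_pow j).inv_right _ (mul_mem (inv_mem hw) hv)
    rwa [inv_inv] at this
  have hbc : Commute b σ := ((Commute.self_pow σ j).inv_right.mul_right (Commute.self_pow σ i)).symm
  have h1 : a * σ * a⁻¹ = σ⁻¹ := by
    have h0 := d.inv
    rw [ht] at h0
    rw [← h0]
    calc a * σ * a⁻¹ = a * (b * σ * b⁻¹) * a⁻¹ := by rw [hbc.eq, mul_inv_cancel_right]
      _ = _ := by group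
  have h2 : Commute (a * a) σ := by
    have h3 : a * σ⁻¹ * a⁻¹ = σ := by rw [← conj_inv, h1, inv_inv]
    refine mul_inv_eq_iff_eq_mul.1 ?_
    calc a * a * σ * (a * a)⁻¹ = a * (a * σ * a⁻¹) * a⁻¹ := by group
      _ = σ := by rw [h1, h3]
  obtain ⟨t, ht'⟩ := d.odd_of_mem ha'
  have h4 : Commute a σ := by
    have h5 : (a * a) ^ (t + 1) = a := by
      rw [← pow_two, ← pow_mul, show 2 * (t + 1) = orderOf a + 1 by omega, pow_succ,
        pow_orderOf_eq_one, one_mul]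
    have := h2.pow_left (t + 1)
    rwa [h5] at this
  rw [h4.eq, mul_inv_cancel_right] at h1
  have h6 : σ ^ 2 = 1 := by rw [pow_two]; exact mul_eq_one_iff_eq_inv.2 h1
  have h7 := Nat.le_of_dvd (by norm_num) (orderOf_dvd_of_pow_eq_one h6)
  rw [d.hord] at h7
  obtain ⟨m, hm⟩ := d.hM
  have := d.hM0
  omega

/-- Exchange `τ` and `σ τ`. -/
def shift : Core σ (σ * τ) M₀ where
  V := d.V
  hord := d.hord
  two_pow := d.two_pow
  hM := d.hM
  hM0 := d.hM0
  tsq := by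
    rw [mul_assoc, ← mul_assoc τ, ← pow_one σ, d.t_mul_pow 1, mul_assoc, d.tsq, mul_one,
      mul_inv_cancel]
  inv := by
    calc σ * τ * σ * (σ * τ)⁻¹ = σ * (τ * σ * τ⁻¹) * σ⁻¹ := by group
      _ = σ⁻¹ := by rw [d.inv]; group
  mem_V := d.mem_V
  oddV := d.oddV
  normV := d.normV
  decomp := fun c hc => by
    obtain ⟨v, hv, i, h⟩ := d.decomp c hc
    rcases h with h | h
    · exact ⟨v, hv, i, Or.inl h⟩
    · refine ⟨v, hv, i + (2 * M₀ - 1), Or.inr ?_⟩
      rw [h]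
      congr 1
      rw [← mul_assoc, ← pow_succ, show i + (2 * M₀ - 1) + 1 = i + 2 * M₀ by
        have := d.hM0; omega, pow_add, d.sigma_pow_two_mul, mul_one]

end Core

theorem exists_core {n : ℕ} (hn : 3 ≤ n) (P : Sylow 2 G) {σ τ : G}
    (hσ : σ ∈ (P : Subgroup G)) (hτ : τ ∈ (P : Subgroup G)) (hσo : orderOf σ = 2 ^ (n - 1))
    (hτo : orderOf τ = 2) (hrel : τ * σ * τ⁻¹ = σ⁻¹)
    (hgen : Subgroup.closure ({σ, τ} : Set G) = (P : Subgroup G)) :
    ∃ _ : Core σ τ (2 ^ (n - 2)), ∀ x ∈ (P : Subgroup G), ∃ i : ℕ, x = σ ^ i ∨ x = σ ^ i * τ := by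
  classical
  haveI : Fact (Nat.Prime 2) := ⟨Nat.prime_two⟩
  set M₀ := 2 ^ (n - 2) with hM₀
  set J := σ ^ M₀ with hJ
  have hord : orderOf σ = 2 * M₀ := by
    rw [hσo, hM₀, ← pow_succ']; congr 1; omega
  have hM0 : 0 < M₀ := pow_pos (by norm_num) _
  have hMeven : Even M₀ := by
    rw [hM₀, Nat.even_pow]; exact ⟨even_two, by omega⟩
  have hM2 : 2 ≤ M₀ := by
    obtain ⟨m, hm⟩ := hMeven
    omega
  have hσ1 : σ ^ (2 * M₀) = 1 := by rw [← hord]; exact pow_orderOf_eq_one σ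
  have hJ2 : J * J = 1 := by rw [hJ, ← pow_add, ← two_mul]; exact hσ1
  have htsq : τ * τ = 1 := by rw [← pow_two, ← hτo]; exact pow_orderOf_eq_one τ
  have htpow : ∀ i : ℕ, τ * σ ^ i = (σ ^ i)⁻¹ * τ := fun i => by
    rw [← inv_pow, ← hrel, conj_pow]; group
  have hinvpow : ∀ i : ℕ, ∃ k : ℕ, σ ^ k = (σ ^ i)⁻¹ := fun i => by
    refine ⟨(2 * M₀ - 1) * i, ?_⟩
    rw [pow_mul, ← inv_pow]
    congr 1
    refine eq_inv_of_mul_eq_one_left ?_
    rw [← pow_succ, Nat.sub_add_cancel (by omega)]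
    exact hσ1
  have hform : ∀ x ∈ (P : Subgroup G), ∃ i : ℕ, x = σ ^ i ∨ x = σ ^ i * τ := by
    intro x hx
    rw [← hgen] at hx
    induction hx using Subgroup.closure_induction with
    | mem x hx =>
      rcases hx with rfl | rfl
      · exact ⟨1, Or.inl (pow_one _).symm⟩
      · exact ⟨0, Or.inr (by rw [pow_zero, one_mul])⟩
    | one => exact ⟨0, Or.inl (pow_zero σ).symm⟩
    | mul x y _ _ hx hy =>
      obtain ⟨i, rfl | rfl⟩ := hx <;> obtain ⟨j, rfl | rfl⟩ := hy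
      · exact ⟨i + j, Or.inl (pow_add σ i j).symm⟩
      · exact ⟨i + j, Or.inr (by rw [pow_add, mul_assoc])⟩
      · obtain ⟨k, hk⟩ := hinvpow j
        exact ⟨i + k, Or.inr (by rw [mul_assoc, htpow, ← mul_assoc, pow_add, hk])⟩
      · obtain ⟨k, hk⟩ := hinvpow j
        refine ⟨i + k, Or.inl ?_⟩
        rw [mul_assoc, ← mul_assoc τ, htpow, mul_assoc, htsq, mul_one, pow_add, hk]
    | inv x _ hx =>
      obtain ⟨i, rfl | rfl⟩ := hx
      · obtain ⟨k, hk⟩ := hinvpow i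
        exact ⟨k, Or.inl hk.symm⟩
      · refine ⟨i, Or.inr ?_⟩
        refine inv_eq_of_mul_eq_one_right ?_
        rw [mul_assoc, ← mul_assoc τ, htpow, mul_assoc, htsq, mul_one, mul_inv_cancel]
  have hJσ : ∀ i : ℕ, Commute J (σ ^ i) := fun i => Commute.pow_pow_self σ M₀ i
  have hJτ : Commute J τ := by
    have h := htpow M₀
    rw [inv_eq_of_mul_eq_one_right hJ2] at h
    exact h.symm
  -- the centralizer of `J`
  set H := Subgroup.centralizer ({J} : Set G) with hH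
  have hHmem : ∀ {c : G}, c ∈ H ↔ Commute J c := fun {c} =>
    Subgroup.mem_centralizer_singleton_iff.trans ⟨fun h => h.symm, fun h => h.symm⟩
  have hPH : (P : Subgroup G) ≤ H := by
    intro x hx
    rw [hHmem]
    obtain ⟨i, rfl | rfl⟩ := hform x hx
    · exact hJσ i
    · exact (hJσ i).mul_right hJτ
  let P' : Sylow 2 H := P.subtype hPH
  have hP'mem : ∀ x : H, x ∈ (P' : Subgroup H) ↔ (x : G) ∈ (P : Subgroup G) := fun x => by
    simp [P', Sylow.coe_subtype, Subgroup.mem_subgroupOf]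
  let sH : H := ⟨σ, hPH hσ⟩
  let tH : H := ⟨τ, hPH hτ⟩
  let Q : Subgroup H := Subgroup.zpowers sH
  have hQmem : ∀ {x : H}, x ∈ Q → ∃ i : ℕ, (x : G) = σ ^ i := fun {x} hx => by
    obtain ⟨i, hi⟩ := (mem_powers_iff_mem_zpowers).2 hx
    exact ⟨i, by rw [← hi]; rfl⟩
  have hQP : Q ≤ (P' : Subgroup H) := Subgroup.zpowers_le.2 ((hP'mem sH).2 hσ)
  have hnotQ : ∀ i : ℕ, ∀ c : H, c * (sH ^ i * tH) * c⁻¹ ∉ Q := by
    intro i c hc
    obtain ⟨j, hj⟩ := hQmem hc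
    have hsq : σ ^ i * τ * (σ ^ i * τ) = 1 := by
      rw [mul_assoc, ← mul_assoc τ, htpow, mul_assoc, htsq, mul_one, mul_inv_cancel]
    have hne : σ ^ i * τ ≠ 1 := by
      intro h
      have h1 : τ = (σ ^ i)⁻¹ := eq_inv_of_mul_eq_one_right h
      have h2 := hrel
      rw [h1] at h2
      have h3 : σ = σ⁻¹ := by
        refine Eq.trans ?_ h2
        rw [inv_inv, mul_assoc, (Commute.self_pow σ i).eq, ← mul_assoc, inv_mul_cancel, one_mul]
      have h4 : σ ^ 2 = 1 := by rw [pow_two]; exact mul_eq_one_iff_eq_inv.2 h3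
      have := Nat.le_of_dvd (by norm_num) (orderOf_dvd_of_pow_eq_one h4)
      omega
    have hj' : (c : G) * (σ ^ i * τ) * (c : G)⁻¹ = σ ^ j := by simpa [sH, tH] using hj
    have hd : 2 * M₀ ∣ 2 * j := by
      rw [← hord, orderOf_dvd_iff_pow_eq_one, mul_comm, pow_mul, ← hj', pow_two, conj_mul, hsq,
        mul_one, mul_inv_cancel]
    obtain ⟨e, he⟩ := Nat.dvd_of_mul_dvd_mul_left (by norm_num) hd
    have hjJ : σ ^ j = J ∨ σ ^ j = 1 := by
      rcases Nat.even_or_odd e with ⟨f, hf⟩ | ⟨f, hf⟩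
      · right
        rw [he, hf, show M₀ * (f + f) = 2 * M₀ * f by ring, pow_mul, hσ1, one_pow]
      · left
        rw [he, hf, mul_add, mul_one, pow_add, show M₀ * (2 * f) = 2 * M₀ * f by ring, pow_mul,
          hσ1, one_pow, one_mul]
    rcases hjJ with h | h <;> rw [h] at hj'
    · have h1 : σ ^ i * τ = J := by
        calc σ ^ i * τ = (c : G)⁻¹ * ((c : G) * (σ ^ i * τ) * (c : G)⁻¹) * c := by group
          _ = (c : G)⁻¹ * J * c := by rw [hj']
          _ = J := by rw [mul_assoc, (hHmem.1 c.2).eq, inv_mul_cancel_left]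
      have h2 : Commute τ σ := by
        have h3 : Commute σ (σ ^ i * τ) := h1 ▸ (Commute.self_pow σ M₀)
        have h4 := (Commute.self_pow σ i).inv_right.mul_right h3
        rw [inv_mul_cancel_left] at h4
        exact h4.symm
      have h3 := hrel
      rw [h2.eq, mul_inv_cancel_right] at h3
      have h4 : σ ^ 2 = 1 := by rw [pow_two]; exact mul_eq_one_iff_eq_inv.2 h3
      have := Nat.le_of_dvd (by norm_num) (orderOf_dvd_of_pow_eq_one h4)
      omega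
    · exact hne (conj_eq_one_iff.1 hj')
  have hQi : Q.relIndex (P' : Subgroup H) = 2 := by
    refine Subgroup.relIndex_eq_two_iff.2 ⟨tH, (hP'mem tH).2 hτ, fun b hb => ?_⟩
    obtain ⟨i, hi | hi⟩ := hform b ((hP'mem b).1 hb)
    · have hbQ : b ∈ Q := ⟨(i : ℤ), Subtype.ext (by simp [sH, hi])⟩
      refine Or.inr ⟨hbQ, fun h => ?_⟩
      have h0 := mul_mem (inv_mem hbQ) h
      rw [inv_mul_cancel_left] at h0
      exact hnotQ 0 1 (by simpa using h0)
    · refine Or.inl ⟨⟨(i : ℤ), Subtype.ext ?_⟩, fun hbQ => hnotQ i 1 ?_⟩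
      · simp [sH, tH, hi, mul_assoc, htsq]
      · have e : b = sH ^ i * tH := Subtype.ext (by simp [sH, tH, hi])
        simpa [e] using hbQ
  have hstH : ∀ i : ℕ, sH ^ i * tH ∈ (P' : Subgroup H) := fun i =>
    mul_mem (pow_mem ((hP'mem sH).2 hσ) i) ((hP'mem tH).2 hτ)
  have hsq2 : ∀ i : ℕ, (sH ^ i * tH) ^ 2 = 1 := fun i => Subtype.ext (by
    push_cast
    show (σ ^ i * τ) ^ 2 = 1
    rw [pow_two, mul_assoc, ← mul_assoc τ, htpow, mul_assoc, htsq, mul_one, mul_inv_cancel])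
  obtain ⟨L₀, hL₀n, hL₀i, hL₀⟩ := Transfer.exists_index_two_of_involution P' Q hQP hQi (sH ^ 0 * tH)
    (hsq2 0) (hstH 0) (fun h => hnotQ 0 1 (by simpa using h)) fun c => hnotQ 0 c
  obtain ⟨L₁, hL₁n, hL₁i, hL₁⟩ := Transfer.exists_index_two_of_involution P' Q hQP hQi (sH ^ 1 * tH)
    (hsq2 1) (hstH 1) (fun h => hnotQ 1 1 (by simpa using h)) fun c => hnotQ 1 c
  haveI := hL₀n
  haveI := hL₁n
  have hsqmem : ∀ (L : Subgroup H), L.index = 2 → ∀ (x : H), x * x ∈ L := fun L hL x =>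
    Subgroup.mul_self_mem_of_index_two hL x
  set L := L₀ ⊓ L₁ with hL
  have hR : (P' : Subgroup H).subgroupOf L ≤ Q.subgroupOf L := by
    intro x hx
    rw [Subgroup.mem_subgroupOf] at hx ⊢
    obtain ⟨i, hi | hi⟩ := hform _ ((hP'mem _).1 hx)
    · exact ⟨(i : ℤ), Subtype.ext (by simp [sH, hi])⟩
    · exfalso
      obtain ⟨m, hm | hm⟩ : ∃ m : ℕ, i = 2 * m ∨ i = 2 * m + 1 := ⟨i / 2, by omega⟩
      · refine hL₀ ?_
        have e : ((x : L) : H) = (sH ^ m * sH ^ m) * (sH ^ 0 * tH) := Subtype.ext (by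
          simp [sH, tH, hi, hm, ← pow_add, two_mul])
        have := (L₀.mul_mem_cancel_left (hsqmem L₀ hL₀i (sH ^ m))).1 (e ▸ (x.2).1)
        exact this
      · refine hL₁ ?_
        have e : ((x : L) : H) = (sH ^ m * sH ^ m) * (sH ^ 1 * tH) := Subtype.ext (by
          simp [sH, tH, hi, hm, ← pow_succ, ← pow_add, ← mul_assoc, two_mul, pow_one])
        exact (L₁.mul_mem_cancel_left (hsqmem L₁ hL₁i (sH ^ m))).1 (e ▸ (x.2).2)
  set R : Subgroup L := (P' : Subgroup H).subgroupOf L with hRdef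
  have hRp : IsPGroup 2 R := P'.isPGroup'.comap_of_injective _ L.subtype_injective
  let Rs : Sylow 2 L := hRp.toSylow (Transfer.not_dvd_index_subgroupOf_of_normal P' L)
  haveI hRcyc : IsCyclic (Rs : Subgroup L) := by
    haveI : IsCyclic Q := Subgroup.isCyclic_zpowers sH
    refine isCyclic_of_injective
      ((L.subtype.comp (Rs : Subgroup L).subtype).codRestrict Q fun y => ?_)
      fun a b h => Subtype.ext (Subtype.ext (congrArg Subtype.val h :))
    exact Subgroup.mem_subgroupOf.1 (hR y.2)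
  have hJL : (sH ^ M₀ : H) ∈ L := by
    obtain ⟨m, hm⟩ := hMeven
    rw [hm, pow_add]
    exact ⟨hsqmem L₀ hL₀i _, hsqmem L₁ hL₁i _⟩
  have hJH : ((sH ^ M₀ : H) : G) = J := by simp [sH, hJ]
  have heven : 2 ∣ Nat.card L := by
    have h1 : orderOf (⟨sH ^ M₀, hJL⟩ : L) = 2 := by
      rw [← Subgroup.orderOf_coe, ← Subgroup.orderOf_coe, hJH]
      refine orderOf_eq_prime (by rw [pow_two]; exact hJ2) fun h => ?_
      have := Nat.le_of_dvd hM0 (orderOf_dvd_of_pow_eq_one h)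
      omega
    exact h1 ▸ orderOf_dvd_natCard _
  have hmin : (Nat.card L).minFac = 2 := (Nat.minFac_eq_two_iff _).2 heven
  have hKc := IsCyclic.isComplement' (P := Rs) hmin inferInstance
  set K := (MonoidHom.transferSylow Rs (hRcyc.normalizer_le_centralizer hmin)).ker
  have hK2 : ∃ k, K.index = 2 ^ k := by
    obtain ⟨k, hk⟩ := IsPGroup.iff_card.1 Rs.isPGroup'
    exact ⟨k, by rw [hKc.symm.index_eq_card, hk]⟩
  have hKodd : Odd (Nat.card K) := by
    rw [← Nat.not_even_iff_odd, even_iff_two_dvd]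
    exact MonoidHom.not_dvd_card_ker_transferSylow Rs _
  let V₀ : Subgroup H := K.map L.subtype
  have hV₀odd : Odd (Nat.card V₀) := by
    rwa [Subgroup.card_map_of_injective L.subtype_injective]
  have hLi : ∃ k, L.index = 2 ^ k := by
    have h := Subgroup.relIndex_mul_index (inf_le_left : L₀ ⊓ L₁ ≤ L₀)
    have h' : (L₀ ⊓ L₁).relIndex L₀ ∣ 2 := by
      rw [Subgroup.inf_relIndex_left, ← hL₁i]
      exact Subgroup.relIndex_dvd_index_of_normal L₁ L₀
    rcases (Nat.dvd_prime Nat.prime_two).1 h' with e | e <;> rw [e, hL₀i] at h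
    · exact ⟨1, by rw [hL, ← h]; rfl⟩
    · exact ⟨2, by rw [hL, ← h]; rfl⟩
  have hVi : ∃ k, V₀.index = 2 ^ k := by
    obtain ⟨a, ha⟩ := hK2
    obtain ⟨b, hb⟩ := hLi
    refine ⟨a + b, ?_⟩
    rw [pow_add, ← ha, ← hb]
    exact Subgroup.index_map_subtype K
  have hV₀mem : ∀ x : H, x ∈ V₀ ↔ Odd (orderOf x) := by
    intro x
    constructor
    · exact fun hx => hV₀odd.of_dvd_nat (Subgroup.orderOf_dvd_natCard _ hx)
    · intro hx
      obtain ⟨b, hb⟩ := hLi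
      obtain ⟨a, ha⟩ := hK2
      have hxL : x ∈ L := by
        have h1 : (QuotientGroup.mk x : H ⧸ L) = 1 := by
          refine orderOf_eq_one_iff.1 (Nat.eq_one_of_dvd_coprimes (a := orderOf x) (b := L.index)
            ?_ (orderOf_map_dvd (QuotientGroup.mk' L) x) ?_)
          · rw [hb]; exact (Nat.coprime_two_right.2 hx).pow_right b
          · rw [Subgroup.index_eq_card]; exact orderOf_dvd_natCard _
        exact (QuotientGroup.eq_one_iff x).1 h1
      refine ⟨⟨x, hxL⟩, ?_, rfl⟩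
      have h1 : (QuotientGroup.mk (⟨x, hxL⟩ : L) : L ⧸ K) = 1 := by
        refine orderOf_eq_one_iff.1 (Nat.eq_one_of_dvd_coprimes (a := orderOf (⟨x, hxL⟩ : L))
          (b := K.index) ?_ (orderOf_map_dvd (QuotientGroup.mk' K) _) ?_)
        · rw [← Subgroup.orderOf_coe, ha]; exact (Nat.coprime_two_right.2 hx).pow_right a
        · rw [Subgroup.index_eq_card]; exact orderOf_dvd_natCard _
      exact (QuotientGroup.eq_one_iff _).1 h1
  haveI hV₀n : V₀.Normal := ⟨fun v hv c => by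
    rw [hV₀mem] at hv ⊢
    rwa [← MulAut.conj_apply, MulEquiv.orderOf_eq]⟩
  have hPV : Subgroup.IsComplement' V₀ (P' : Subgroup H) := by
    have hcop : (Nat.card V₀).Coprime (Nat.card (P' : Subgroup H)) := by
      obtain ⟨k, hk⟩ := IsPGroup.iff_card.1 P'.isPGroup'
      rw [hk]; exact (Nat.coprime_two_right.2 hV₀odd).pow_right k
    refine Subgroup.isComplement'_of_coprime ?_ hcop
    obtain ⟨k, hk⟩ := IsPGroup.iff_card.1 P'.isPGroup'
    obtain ⟨a, ha⟩ := hVi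
    have h1 := Subgroup.card_mul_index V₀
    rw [ha] at h1
    have h2 : (Nat.card H).factorization 2 = k := by
      have := Sylow.card_eq_multiplicity P'
      rw [hk] at this
      exact ((Nat.pow_right_injective le_rfl) this).symm
    have h3 : (Nat.card V₀ * 2 ^ a).factorization 2 = a := by
      rw [Nat.factorization_mul Nat.card_pos.ne' (by positivity), Finsupp.add_apply,
        Nat.prime_two.factorization_pow, Finsupp.single_eq_same,
        Nat.factorization_eq_zero_of_not_dvd fun h =>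
          Nat.not_even_iff_odd.2 hV₀odd (even_iff_two_dvd.2 h), zero_add]
    rw [h1, h2] at h3
    rw [hk, ← h1, h3]
  refine ⟨{ V := V₀.map H.subtype, hord := hord, two_pow := ⟨_, hσo⟩, hM := hMeven, hM0 := hM0,
            tsq := htsq, inv := hrel, mem_V := ?_, oddV := ?_, normV := ?_, decomp := ?_ }, hform⟩
  · intro v
    constructor
    · rintro ⟨w, hw, rfl⟩
      exact ⟨hHmem.1 w.2, by rw [Subgroup.coe_subtype, Subgroup.orderOf_coe]; exact (hV₀mem w).1 hw⟩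
    · rintro ⟨hc, ho⟩
      exact ⟨⟨v, hHmem.2 hc⟩, (hV₀mem _).2 (by rwa [← Subgroup.orderOf_coe]), rfl⟩
  · rwa [Subgroup.card_map_of_injective H.subtype_injective]
  · rintro c hc _ ⟨w, hw, rfl⟩
    exact ⟨_, hV₀n.conj_mem w hw ⟨c, hHmem.2 hc⟩, rfl⟩
  · intro c hc
    obtain ⟨⟨v, q⟩, hvq⟩ := hPV.surjective ⟨c, hHmem.2 hc⟩
    refine ⟨(v : H), ⟨_, v.2, rfl⟩, ?_⟩
    obtain ⟨i, hi⟩ := hform _ ((hP'mem _).1 q.2)
    have h1 : ((v : H) : G) * ((q : H) : G) = c := congrArg Subtype.val hvq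
    rcases hi with hi | hi <;> rw [hi] at h1
    · exact ⟨i, Or.inl h1.symm⟩
    · exact ⟨i, Or.inr h1.symm⟩


theorem exists_data {n : ℕ} (hn : 3 ≤ n) (P : Sylow 2 G) {σ τ : G}
    (hσ : σ ∈ (P : Subgroup G)) (hτ : τ ∈ (P : Subgroup G)) (hσo : orderOf σ = 2 ^ (n - 1))
    (hτo : orderOf τ = 2) (hrel : τ * σ * τ⁻¹ = σ⁻¹)
    (hgen : Subgroup.closure ({σ, τ} : Set G) = (P : Subgroup G))
    (hconj : IsConj (σ ^ (2 ^ (n - 2))) τ ∧ IsConj (σ ^ (2 ^ (n - 2))) (σ * τ)) :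
    ∃ d : Data σ τ (2 ^ (n - 2)), ∀ x ∈ (P : Subgroup G), ∃ i : ℕ, x = σ ^ i ∨ x = σ ^ i * τ := by
  classical
  haveI : Fact (Nat.Prime 2) := ⟨Nat.prime_two⟩
  obtain ⟨d₀, hform⟩ := exists_core hn P hσ hτ hσo hτo hrel hgen
  set M₀ := 2 ^ (n - 2)
  set J := σ ^ M₀
  have hord : orderOf σ = 2 * M₀ := d₀.hord
  have hσ1 : σ ^ (2 * M₀) = 1 := d₀.sigma_pow_two_mul
  have hinvpow : ∀ i : ℕ, ∃ k : ℕ, σ ^ k = (σ ^ i)⁻¹ := fun i => by
    refine ⟨(2 * M₀ - 1) * i, ?_⟩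
    rw [pow_mul, ← inv_pow]
    congr 1
    refine eq_inv_of_mul_eq_one_left ?_
    rw [← pow_succ, Nat.sub_add_cancel (by have := d₀.hM0; omega)]
    exact hσ1
  have htpow : ∀ i : ℕ, τ * σ ^ i = (σ ^ i)⁻¹ * τ := d₀.t_mul_pow
  -- all involutions are conjugate
  have hallconj : ∀ s : G, orderOf s = 2 → IsConj J s := by
    intro s hs
    have h2 : IsPGroup 2 (Subgroup.zpowers s) :=
      IsPGroup.of_card (n := 1) (by rw [Nat.card_zpowers, hs, pow_one])
    obtain ⟨R, hR⟩ := h2.exists_le_sylow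
    obtain ⟨g, rfl⟩ := MulAction.exists_smul_eq G P R
    have hg := hR (Subgroup.mem_zpowers s)
    rw [Sylow.coe_subgroup_smul, Subgroup.mem_pointwise_smul_iff_inv_smul_mem, MulAut.smul_def,
      MulAut.conj_inv_apply] at hg
    have hc : IsConj (g⁻¹ * s * g) s := isConj_iff.2 ⟨g, by group⟩
    refine IsConj.trans ?_ hc
    have ho : orderOf (g⁻¹ * s * g) = 2 := by
      rw [← hs]
      simpa using (MulAut.conj g⁻¹).orderOf_eq s
    obtain ⟨i, hi | hi⟩ := hform _ hg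
    · rw [hi] at ho ⊢
      have hdvd : 2 * M₀ ∣ 2 * i := by
        rw [← hord, orderOf_dvd_iff_pow_eq_one, mul_comm, pow_mul]
        exact ho ▸ pow_orderOf_eq_one (σ ^ i)
      obtain ⟨c, hc'⟩ := Nat.dvd_of_mul_dvd_mul_left (by norm_num) hdvd
      rcases Nat.even_or_odd c with ⟨e, he⟩ | ⟨e, he⟩
      · exfalso
        have h1 : σ ^ i = 1 := by
          rw [hc', he, show M₀ * (e + e) = 2 * M₀ * e by ring, pow_mul, hσ1, one_pow]
        rw [h1, orderOf_one] at ho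
        exact absurd ho (by norm_num)
      · have : σ ^ i = J := by
          rw [hc', he, mul_add, mul_one, pow_add, show M₀ * (2 * e) = 2 * M₀ * e by ring, pow_mul,
            hσ1, one_pow, one_mul]
        rw [this]
    · rw [hi]
      obtain ⟨m, hm | hm⟩ : ∃ m : ℕ, i = 2 * m ∨ i = 2 * m + 1 := ⟨i / 2, by omega⟩
      · refine hconj.1.trans (isConj_iff.2 ⟨σ ^ m, ?_⟩)
        obtain ⟨k, hk⟩ := hinvpow m
        rw [mul_assoc, ← hk, htpow, hk, inv_inv, ← mul_assoc, ← pow_add, ← two_mul, hm]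
      · refine hconj.2.trans (isConj_iff.2 ⟨σ ^ m, ?_⟩)
        obtain ⟨k, hk⟩ := hinvpow m
        rw [← mul_assoc, mul_assoc, ← hk, htpow, hk, inv_inv, ← mul_assoc, ← pow_succ, ← pow_add,
          hm, show m + 1 + m = 2 * m + 1 by ring]
  exact ⟨{ d₀ with conjAll := hallconj }, hform⟩

end Cfsg.Agent.DihedralBlock
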