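import Cfsg.Agent.Lib.Char.KernelSum
import Cfsg.Agent.Lib.Char.RationalBound
import Cfsg.Agent.Lib.ZStar.PrincipalConst
import Mathlib.GroupTheory.NoncommCoprod
import Mathlib.GroupTheory.FixedPointFree

/-!
# Averages of characters over a centralised subgroup

If the images of `f : A →* G` and `i : H →* G` commute, the mean of `χ (f a * i h)` over `a` is a
character of `H`.  Also: characters of the principal block are constant on `u N` when the elements
of odd order centralising the 2-element `u` form the subgroup `N`.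
-/

set_option autoImplicit false
set_option linter.style.haveILetI false
set_option linter.unusedSectionVars false

namespace Cfsg.Agent.DihedralBlock.Seven

open Cfsg

universe u

section Average

variable {G A H : Type u} [Group G] [Group A] [Group H] [Finite G] [Fintype A] [Finite H]

/-- The mean of a character over a centralised subgroup is a character. -/
theorem isCharacter_average {χ : G → ℂ} (hχ : IsCharacter G χ) (f : A →* G) (i : H →* G)
    (hc : ∀ a h, Commute (f a) (i h)) :
    IsCharacter H fun h => (Nat.card A : ℂ)⁻¹ * ∑ a : A, χ (f a * i h) := by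
  classical
  haveI : Fintype H := Fintype.ofFinite H
  set φ : A × H →* G := f.noncommCoprod i hc
  obtain ⟨m, hm, -⟩ := Char.IsCharacter.exists_decomp (Char.IsCharacter.comp hχ φ)
  set K : Subgroup (A × H) := (⊤ : Subgroup A).prod ⊥
  haveI : K.Normal := Subgroup.prod_normal ⊤ ⊥
  haveI : Fintype K := Fintype.ofFinite K
  have hval : ∀ (θ : IrrCharacter (A × H)) (h : H), (Nat.card A : ℂ)⁻¹ * ∑ a : A, θ.1 (a, h) =
      if Char.TrivOn K θ.1 then θ.1 (1, h) else 0 := by
    intro θ h
    let e : A ≃ K :=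
      { toFun := fun a => ⟨(a, 1), Subgroup.mem_prod.2 ⟨Subgroup.mem_top a, Subgroup.mem_bot.2 rfl⟩⟩
        invFun := fun k => k.1.1
        left_inv := fun a => rfl
        right_inv := fun k => Subtype.ext (Prod.ext rfl (Subgroup.mem_bot.1 (Subgroup.mem_prod.1 k.2).2).symm) }
    have hsum : ∑ a : A, θ.1 (a, h) = ∑ k : K, θ.1 ((1, h) * (k : A × H)) :=
      Fintype.sum_equiv e _ _ fun a => by
        show θ.1 (a, h) = θ.1 ((1, h) * (a, 1))
        rw [Prod.mk_mul_mk, one_mul, mul_one]
    rw [hsum]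
    split_ifs with hK
    · rw [Finset.sum_congr rfl fun k _ => Char.apply_mul_of_trivOn hK _ k.2, Finset.sum_const,
        Finset.card_univ, ← Fintype.card_congr e, nsmul_eq_mul, ← Nat.card_eq_fintype_card,
        ← mul_assoc, inv_mul_cancel₀ Char.card_ne_zero, one_mul]
    · rw [Char.sum_coset_eq_zero_of_not_trivOn K θ hK, mul_zero]
  have hfun : (fun h => (Nat.card A : ℂ)⁻¹ * ∑ a : A, χ (f a * i h)) =
      ∑ θ ∈ Finset.univ.filter (fun θ : IrrCharacter (A × H) => Char.TrivOn K θ.1),
        (m θ : ℂ) • fun h => θ.1 (MonoidHom.inr A H h) := by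
    funext h
    have hstep : ∀ a : A, χ (f a * i h) = ∑ θ : IrrCharacter (A × H), (m θ : ℂ) * θ.1 (a, h) := by
      intro a
      have := congrFun hm (a, h)
      simp only [Finset.sum_apply, Pi.smul_apply, smul_eq_mul] at this
      exact this
    simp only [hstep, Finset.sum_apply, Pi.smul_apply, smul_eq_mul, MonoidHom.inr_apply]
    rw [Finset.sum_comm, Finset.mul_sum, Finset.sum_filter]
    refine Finset.sum_congr rfl fun θ _ => ?_
    rw [← Finset.mul_sum, mul_left_comm, hval]
    split_ifs <;> simp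
  rw [hfun]
  exact Char.IsCharacter.sum _ fun θ _ =>
    Char.IsCharacter.natCast_smul (Char.IsCharacter.comp (Char.irr_isCharacter θ) _) _

end Average

/-- A sum over a cyclic subgroup. -/
theorem sum_zpowers {G : Type u} [Group G] [Finite G] {x : G} [Fintype (Subgroup.zpowers x)] {n : ℕ}
    (hn : orderOf x = n) (f : G → ℂ) :
    ∑ a : Subgroup.zpowers x, f a = ∑ i ∈ Finset.range n, f (x ^ i) := by
  subst hn
  rw [← Fin.sum_univ_eq_sum_range fun i => f (x ^ i)]
  exact (Fintype.sum_equiv (finEquivZPowers (isOfFinOrder_of_finite x)) _ _ fun i => by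
    rw [finEquivZPowers_apply]).symm

/-- Constancy on `u N` when `N` is the set of elements of odd order centralising `u`. -/
theorem apply_mul_of_complement {G : Type u} [Group G] [Finite G] {M : Ideal AlgInt}
    (hM : IsPModular 2 M) {u : G} (hu : ∃ k : ℕ, orderOf u = 2 ^ k) {N : Subgroup G}
    (hN : ∀ v, v ∈ N ↔ Commute u v ∧ Odd (orderOf v)) {χ : IrrCharacter G}
    (hχ : χ ∈ principalBlock M G) {v : G} (hv : v ∈ N) : χ.1 (u * v) = χ.1 u := by
  haveI : Fact (Nat.Prime 2) := ⟨Nat.prime_two⟩
  set K := Subgroup.centralizer ({u} : Set G) with hK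
  have hle : N ≤ K := fun v hv =>
    Subgroup.mem_centralizer_singleton_iff.mpr ((hN v).mp hv).1.symm.eq
  haveI : (N.subgroupOf K).Normal := ⟨fun n hn c => by
    rw [Subgroup.mem_subgroupOf, hN] at hn ⊢
    have hc : Commute u (c : G) := (Subgroup.mem_centralizer_singleton_iff.mp c.2).symm
    simp only [Subgroup.coe_mul, Subgroup.coe_inv]
    refine ⟨(hc.mul_right hn.1).mul_right hc.inv_right, ?_⟩
    rw [← MulAut.conj_apply, MulEquiv.orderOf_eq]
    exact hn.2⟩
  have hodd : Odd (Nat.card (N.subgroupOf K)) := by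
    rw [Nat.card_congr (Subgroup.subgroupOfEquivOfLe hle).toEquiv]
    by_contra h
    obtain ⟨x, hx⟩ := exists_prime_orderOf_dvd_card' (G := N) 2
      (even_iff_two_dvd.mp (Nat.not_odd_iff_even.mp h))
    have := ((hN x).mp x.2).2
    rw [Subgroup.orderOf_coe, hx] at this
    exact absurd this (by decide)
  refine ZStar.apply_mul_pPrimeCore hM hu ?_ hχ
  exact Subgroup.mem_map.2 ⟨⟨v, hle hv⟩,
    PCore.le_pPrimeCore (Nat.coprime_two_right.2 hodd) (Subgroup.mem_subgroupOf.2 hv), rfl⟩

/-- A fixed-point-free involution on a subgroup of finite order inverts it. -/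
theorem conj_eq_inv {G : Type u} [Group G] [Finite G] {X : Subgroup G} {u : G} (hu : u * u = 1)
    (hX : ∀ x ∈ X, u * x * u⁻¹ ∈ X) (hfix : ∀ x ∈ X, Commute u x → x = 1) :
    ∀ x ∈ X, u * x * u⁻¹ = x⁻¹ := by
  have hu' : u⁻¹ = u := inv_eq_of_mul_eq_one_right hu
  let φ : X →* X :=
    { toFun := fun x => ⟨u * x * u⁻¹, hX x x.2⟩
      map_one' := Subtype.ext (by simp)
      map_mul' := fun a b => Subtype.ext (by simp [mul_assoc]) }
  have hfpf : MonoidHom.FixedPointFree φ := fun x hx =>
    Subtype.ext (hfix x x.2 (mul_inv_eq_iff_eq_mul.1 (congrArg Subtype.val hx)))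
  have hinv : Function.Involutive φ := fun x => Subtype.ext (by
    show u * (u * x * u⁻¹) * u⁻¹ = x
    rw [hu', show u * (u * (x : G) * u) * u = (u * u) * x * (u * u) by group, hu, one_mul, mul_one])
  intro x hx
  exact congrArg Subtype.val (congrFun (hfpf.coe_eq_inv_of_involutive hinv) ⟨x, hx⟩)

/-- In a group of odd order only the identity is conjugate to its inverse. -/
theorem eq_one_of_conj_inv {G : Type u} [Group G] [Finite G] {a x : G} (ha : Odd (orderOf a))
    (hx : Odd (orderOf x)) (h : a * x * a⁻¹ = x⁻¹) : x = 1 := by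
  obtain ⟨k, hk⟩ := ha
  have h2 : Commute (a * a) x := by
    refine mul_inv_eq_iff_eq_mul.1 ?_
    calc a * a * x * (a * a)⁻¹ = a * (a * x * a⁻¹) * a⁻¹ := by group
      _ = a * x⁻¹ * a⁻¹ := by rw [h]
      _ = (a * x * a⁻¹)⁻¹ := by group
      _ = x := by rw [h, inv_inv]
  have h3 : Commute a x := by
    have := h2.pow_left (k + 1)
    rwa [← pow_two, ← pow_mul, show 2 * (k + 1) = orderOf a + 1 by omega, pow_succ,
      pow_orderOf_eq_one, one_mul] at this
  rw [h3.eq, mul_inv_cancel_right] at h
  have h4 : x ^ 2 = 1 := by rw [pow_two]; exact mul_eq_one_iff_eq_inv.2 h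
  rcases (Nat.dvd_prime Nat.prime_two).1 (orderOf_dvd_of_pow_eq_one h4) with e | e
  · exact orderOf_eq_one_iff.1 e
  · rw [e] at hx; exact absurd hx (by decide)

/-- A nontrivial irreducible character of a simple group is faithful. -/
theorem eq_one_of_apply_eq {G : Type u} [Group G] [Fintype G] [IsSimpleGroup G] {χ : IrrCharacter G}
    (h1 : χ.1 1 ≠ 1) {g : G} (hg : χ.1 g = χ.1 1) : g = 1 := by
  have hc := Char.irr_isCharacter χ
  rcases (CharInt.charKernel_normal hc).eq_bot_or_eq_top with h | h
  · have : g ∈ CharInt.charKernel hc := hg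
    rwa [h, Subgroup.mem_bot] at this
  · exfalso
    have hne : χ ≠ Char.trivialChar G := fun e => h1 (by rw [e, Char.trivialChar_apply])
    have h0 := Char.sum_apply_eq_zero hne
    rw [Finset.sum_congr rfl (g := fun _ => χ.1 1) fun x _ =>
      (CharInt.mem_charKernel hc).1 (h ▸ Subgroup.mem_top x), Finset.sum_const, nsmul_eq_mul] at h0
    rcases mul_eq_zero.1 h0 with e | e
    · exact Finset.univ_nonempty.card_pos.ne' (Nat.cast_eq_zero.1 e)
    · exact Char.IsIrrCharacter.apply_one_ne_zero χ.2 e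

/-- A rational character of degree three of a `3`-group takes the values `3` and `0`. -/
theorem apply_eq_zero_of_degree_three {H : Type u} [Group H] [Finite H] (hH : IsPGroup 3 H)
    {Ψ : H → ℂ} (h : IsCharacter H Ψ) (h1 : Ψ 1 = 3) {g : H} (hg : Ψ g ≠ Ψ 1)
    (hfix : ∀ k : ℕ, k.Coprime (orderOf g) → Ψ (g ^ k) = Ψ g) : Ψ g = 0 := by
  obtain ⟨z, hz⟩ := Char.exists_int_of_forall_pow h g hfix
  obtain ⟨j, hj1, hj2, hj⟩ := Char.exists_sub_eq_mul Nat.prime_three hH h (d := 3)
    (by rw [h1]; norm_num) hg hz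
  obtain rfl : j = 1 := by omega
  obtain rfl : z = 0 := by push_cast at hj; omega
  rw [hz, Int.cast_zero]

end Cfsg.Agent.DihedralBlock.Seven
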