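import Mathlib.Algebra.Order.BigOperators.Ring.Finset
import Mathlib.Algebra.Ring.Parity
import Mathlib.Tactic.Ring
import Mathlib.Tactic.Linarith

/-!
# Integer vectors with the inner products of the dihedral family

Vectors `m j`, `1 ≤ j ≤ M`, of squared length `2` (for `j < M`) and `3` (for `j = M`), with pairwise
inner product `1` and weighted sum `-1`, share one coordinate.
-/

set_option autoImplicit false

namespace Cfsg.Agent.DihedralBlock

variable {ι : Type*} [Fintype ι] [DecidableEq ι]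

/-- The coordinates where a vector does not vanish. -/
def supp (m : ι → ℤ) : Finset ι := Finset.univ.filter fun x => m x ≠ 0

theorem mem_supp {m : ι → ℤ} {x : ι} : x ∈ supp m ↔ m x ≠ 0 := by simp [supp]

theorem sum_mul_eq_sum_inter (m m' : ι → ℤ) :
    ∑ x, m x * m' x = ∑ x ∈ supp m ∩ supp m', m x * m' x := by
  refine (Finset.sum_subset (Finset.subset_univ _) fun x _ hx => ?_).symm
  simp only [Finset.mem_inter, mem_supp, not_and_or, not_not] at hx
  rcases hx with h | h <;> simp [h]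

theorem entry_eq_one_or_neg_one {m : ι → ℤ} (h : ∑ x, m x ^ 2 ≤ 3) {x : ι} (hx : m x ≠ 0) :
    m x = 1 ∨ m x = -1 := by
  have h1 : m x ^ 2 ≤ ∑ y, m y ^ 2 :=
    Finset.single_le_sum (f := fun y => m y ^ 2) (fun y _ => sq_nonneg _) (Finset.mem_univ x)
  have h2 : m x < 2 := by nlinarith
  have h3 : -2 < m x := by nlinarith
  omega

theorem card_supp {m : ι → ℤ} (h : ∑ x, m x ^ 2 ≤ 3) : ((supp m).card : ℤ) = ∑ x, m x ^ 2 := by
  rw [← Finset.sum_subset (Finset.subset_univ (supp m)) fun x _ hx => by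
    rw [mem_supp, not_not] at hx; rw [hx]; ring]
  rw [Finset.sum_congr rfl fun x hx => ?_, Finset.sum_const, nsmul_eq_mul, mul_one]
  rcases entry_eq_one_or_neg_one h (mem_supp.1 hx) with e | e <;> rw [e] <;> norm_num

/-- Two vectors, one of squared length `2`, with inner product one share one coordinate. -/
theorem exists_common {m m' : ι → ℤ} (h : ∑ x, m x ^ 2 = 2) (h' : ∑ x, m' x ^ 2 ≤ 3)
    (hi : ∑ x, m x * m' x = 1) :
    ∃ p, supp m ∩ supp m' = {p} ∧ m' p = m p := by
  rw [sum_mul_eq_sum_inter] at hi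
  have hle : (supp m ∩ supp m').card ≤ 2 := by
    have h1 := Finset.card_le_card (Finset.inter_subset_left : supp m ∩ supp m' ⊆ supp m)
    have h2 := card_supp (m := m) (by omega)
    omega
  have hval : ∀ x ∈ supp m ∩ supp m', m x * m' x = 1 ∨ m x * m' x = -1 := by
    intro x hx
    obtain ⟨ha, hb⟩ := Finset.mem_inter.1 hx
    rcases entry_eq_one_or_neg_one (by omega) (mem_supp.1 ha) with e | e <;>
      rcases entry_eq_one_or_neg_one h' (mem_supp.1 hb) with e' | e' <;> simp [e, e']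
  obtain h0 | h1 | h2 : (supp m ∩ supp m').card = 0 ∨ (supp m ∩ supp m').card = 1 ∨
      (supp m ∩ supp m').card = 2 := by omega
  · rw [Finset.card_eq_zero.1 h0, Finset.sum_empty] at hi
    exact absurd hi (by norm_num)
  · obtain ⟨p, hp⟩ := Finset.card_eq_one.1 h1
    refine ⟨p, hp, ?_⟩
    rw [hp, Finset.sum_singleton] at hi
    have hp' : p ∈ supp m ∩ supp m' := hp ▸ Finset.mem_singleton_self p
    rcases entry_eq_one_or_neg_one (by omega) (mem_supp.1 (Finset.mem_inter.1 hp').1) with e | e <;>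
      rw [e] at hi ⊢ <;> linarith
  · exfalso
    obtain ⟨p, q, hpq, he⟩ := Finset.card_eq_two.1 h2
    rw [he, Finset.sum_pair hpq] at hi
    have hp' := hval p (by simp [he])
    have hq' := hval q (by simp [he])
    omega

theorem eq_zero_of_supp_pair {m : ι → ℤ} {p q : ι} (h : supp m = {p, q}) {x : ι} (hp : x ≠ p)
    (hq : x ≠ q) : m x = 0 := by
  by_contra hx
  have := mem_supp.2 hx
  rw [h] at this
  simp [hp, hq] at this

theorem sum_mul_of_supp_pair {m : ι → ℤ} {p q : ι} (hpq : p ≠ q) (h : supp m = {p, q})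
    (w : ι → ℤ) : ∑ x, m x * w x = m p * w p + m q * w q := by
  rw [← Finset.sum_subset (Finset.subset_univ (supp m)) fun x _ hx => by
    rw [mem_supp, not_not] at hx; rw [hx, zero_mul], h, Finset.sum_pair hpq]

theorem exists_pair {m : ι → ℤ} (h : ∑ x, m x ^ 2 = 2) {p : ι} (hp : p ∈ supp m) :
    ∃ q, q ≠ p ∧ supp m = {p, q} := by
  have h2 := card_supp (m := m) (by omega)
  have hc : ((supp m).erase p).card = 1 := by
    rw [Finset.card_erase_of_mem hp]; omega
  obtain ⟨q, hq⟩ := Finset.card_eq_one.1 hc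
  refine ⟨q, (Finset.mem_erase.1 (hq ▸ Finset.mem_singleton_self q)).1, ?_⟩
  rw [← Finset.insert_erase hp, hq]

/-- The shape of the family. -/
theorem family_shape {M : ℕ} (hM : Even M) (hM0 : 0 < M) (m : ℕ → ι → ℤ) (w : ι → ℤ)
    (hw : ∀ x, 0 < w x) (h2 : ∀ j, 1 ≤ j → j < M → ∑ x, m j x ^ 2 = 2)
    (h3 : ∑ x, m M x ^ 2 = 3)
    (hi : ∀ a b, 1 ≤ a → a ≤ M → 1 ≤ b → b ≤ M → a ≠ b → ∑ x, m a x * m b x = 1)
    (hdeg : ∀ j, 1 ≤ j → j ≤ M → ∑ x, m j x * w x = -1) :
    ∃ (p : ι) (q : ℕ → ι) (c₂ c₃ : ι) (δ δ₂ δ₃ : ℤ),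
      (δ = 1 ∨ δ = -1) ∧ (δ₂ = 1 ∨ δ₂ = -1) ∧ (δ₃ = 1 ∨ δ₃ = -1) ∧
      p ≠ c₂ ∧ p ≠ c₃ ∧ c₂ ≠ c₃ ∧
      (∀ j, 1 ≤ j → j < M → q j ≠ p ∧ q j ≠ c₂ ∧ q j ≠ c₃) ∧
      (∀ a b, 1 ≤ a → a < M → 1 ≤ b → b < M → q a = q b → a = b) ∧
      (∀ j, 1 ≤ j → j < M → ∀ x, m j x = if x = p then δ else if x = q j then -δ else 0) ∧
      ∀ x, m M x = if x = p then δ else if x = c₂ then δ₂ else if x = c₃ then δ₃ else 0 := by
  have hM2 : 2 ≤ M := by
    obtain ⟨k, hk⟩ := hM
    omega
  have hle : ∀ j, 1 ≤ j → j ≤ M → ∑ x, m j x ^ 2 ≤ 3 := fun j h h' => by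
    rcases lt_or_eq_of_le h' with e | e
    · have := h2 j h e; omega
    · rw [e]; omega
  obtain ⟨p, hp, hpv⟩ := exists_common (h2 1 le_rfl (by omega)) (le_of_eq h3)
    (hi 1 M le_rfl (by omega) (by omega) le_rfl (by omega))
  have hpm : p ∈ supp (m 1) ∩ supp (m M) := hp ▸ Finset.mem_singleton_self p
  obtain ⟨hp1, hpM⟩ := Finset.mem_inter.1 hpm
  obtain ⟨q₁, hq₁, hS1⟩ := exists_pair (h2 1 le_rfl (by omega)) hp1
  have hq₁M : q₁ ∉ supp (m M) := fun h => hq₁ (by
    have : q₁ ∈ supp (m 1) ∩ supp (m M) := Finset.mem_inter.2 ⟨by simp [hS1], h⟩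
    rw [hp] at this
    exact Finset.mem_singleton.1 this)
  -- every vector of length two has the coordinate `p`
  have hpj : ∀ j, 1 ≤ j → j < M → p ∈ supp (m j) ∧ m j p = m 1 p := by
    intro j hj hj'
    rcases eq_or_ne j 1 with rfl | hj1
    · exact ⟨hp1, rfl⟩
    have hcase : ∀ k, 1 ≤ k → k < M → k ≠ 1 → (p ∈ supp (m k) ∧ m k p = m 1 p) ∨
        (p ∉ supp (m k) ∧ q₁ ∈ supp (m k) ∧ m k q₁ = m 1 q₁) := by
      intro k hk hk' hk1
      obtain ⟨t, ht, htv⟩ := exists_common (h2 1 le_rfl (by omega)) (hle k hk hk'.le)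
        (hi 1 k le_rfl (by omega) hk hk'.le (Ne.symm hk1))
      have htm : t ∈ supp (m 1) ∩ supp (m k) := ht ▸ Finset.mem_singleton_self t
      obtain ⟨ht1, htk⟩ := Finset.mem_inter.1 htm
      rw [hS1, Finset.mem_insert, Finset.mem_singleton] at ht1
      rcases ht1 with rfl | rfl
      · exact Or.inl ⟨htk, htv⟩
      · refine Or.inr ⟨fun h => hq₁ ?_, htk, htv⟩
        have : p ∈ supp (m 1) ∩ supp (m k) := Finset.mem_inter.2 ⟨hp1, h⟩
        rw [ht] at this
        exact (Finset.mem_singleton.1 this).symm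
    rcases hcase j hj hj' hj1 with h | ⟨hpn, hqj, hqv⟩
    · exact h
    exfalso
    obtain ⟨r, hr, hSj⟩ := exists_pair (h2 j hj hj') hqj
    -- `r` is the coordinate shared with `m M`
    have hrM : r ∈ supp (m M) ∧ m M r = m j r := by
      obtain ⟨t, ht, htv⟩ := exists_common (h2 j hj hj') (le_of_eq h3)
        (hi j M hj hj'.le (by omega) le_rfl (by omega))
      have htm : t ∈ supp (m j) ∩ supp (m M) := ht ▸ Finset.mem_singleton_self t
      obtain ⟨htj, htM⟩ := Finset.mem_inter.1 htm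
      rw [hSj, Finset.mem_insert, Finset.mem_singleton] at htj
      rcases htj with rfl | rfl
      · exact absurd htM hq₁M
      · exact ⟨htM, htv⟩
    obtain ⟨k, hk, hk', hk1, hkj⟩ : ∃ k, 1 ≤ k ∧ k < M ∧ k ≠ 1 ∧ k ≠ j := by
      obtain ⟨e, he⟩ := hM
      by_cases h : j = 2
      · exact ⟨3, by omega, by omega, by omega, by omega⟩
      · exact ⟨2, by omega, by omega, by omega, Ne.symm h⟩
    obtain ⟨t, ht, htv⟩ := exists_common (h2 k hk hk') (le_of_eq h3)
      (hi k M hk hk'.le (by omega) le_rfl (by omega))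
    have htm : t ∈ supp (m k) ∩ supp (m M) := ht ▸ Finset.mem_singleton_self t
    obtain ⟨htk, htM⟩ := Finset.mem_inter.1 htm
    obtain ⟨u, hu, -⟩ := exists_common (h2 j hj hj') (hle k hk hk'.le)
      (hi j k hj hj'.le hk hk'.le (Ne.symm hkj))
    rcases hcase k hk hk' hk1 with ⟨hpk, -⟩ | ⟨hpk, hqk, hqkv⟩
    · obtain ⟨s, hs, hSk⟩ := exists_pair (h2 k hk hk') hpk
      have hum : u ∈ supp (m j) ∩ supp (m k) := hu ▸ Finset.mem_singleton_self u
      obtain ⟨huj, huk⟩ := Finset.mem_inter.1 hum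
      have hup : u ≠ p := fun h => hpn (h ▸ huj)
      rw [hSk, Finset.mem_insert, Finset.mem_singleton] at huk
      have hus : u = s := huk.resolve_left hup
      rw [hSj, Finset.mem_insert, Finset.mem_singleton] at huj
      rcases huj with h | h
      · -- then `m k` has both coordinates of `m 1`
        obtain ⟨t', ht', -⟩ := exists_common (h2 1 le_rfl (by omega)) (hle k hk hk'.le)
          (hi 1 k le_rfl (by omega) hk hk'.le (Ne.symm hk1))
        have a1 : p ∈ supp (m 1) ∩ supp (m k) := Finset.mem_inter.2 ⟨hp1, by simp [hSk]⟩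
        have a2 : q₁ ∈ supp (m 1) ∩ supp (m k) :=
          Finset.mem_inter.2 ⟨by simp [hS1], by simp [hSk, ← hus, h]⟩
        rw [ht', Finset.mem_singleton] at a1 a2
        exact hq₁ (a2.trans a1.symm)
      · have a1 : p ∈ supp (m k) ∩ supp (m M) := Finset.mem_inter.2 ⟨hpk, hpM⟩
        have a2 : r ∈ supp (m k) ∩ supp (m M) :=
          Finset.mem_inter.2 ⟨by simp [hSk, ← hus, h], hrM.1⟩
        rw [ht, Finset.mem_singleton] at a1 a2
        have hrp : r = p := a2.trans a1.symm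
        exact hpn (by simp [hSj, hrp])
    · obtain ⟨s, hs, hSk⟩ := exists_pair (h2 k hk hk') hqk
      have hts : t = s := by
        rw [hSk, Finset.mem_insert, Finset.mem_singleton] at htk
        exact htk.resolve_left fun h => hq₁M (h ▸ htM)
      have hsp : t ≠ p := fun h => hpk (h ▸ htk)
      have hsr : t ≠ r := by
        intro h
        have a1 : q₁ ∈ supp (m j) ∩ supp (m k) :=
          Finset.mem_inter.2 ⟨by simp [hSj], by simp [hSk]⟩
        have a2 : r ∈ supp (m j) ∩ supp (m k) :=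
          Finset.mem_inter.2 ⟨by simp [hSj], by rw [← h]; exact htk⟩
        rw [hu, Finset.mem_singleton] at a1 a2
        exact hr (a2.trans a1.symm)
      have hrp : r ≠ p := fun h => hpn (by simp [hSj, h])
      have hSM : supp (m M) = {p, r, t} := by
        refine (Finset.eq_of_subset_of_card_le ?_ ?_).symm
        · intro x hx
          simp only [Finset.mem_insert, Finset.mem_singleton] at hx
          rcases hx with rfl | rfl | rfl
          exacts [hpM, hrM.1, htM]
        · have := card_supp (m := m M) (le_of_eq h3)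
          rw [Finset.card_insert_of_notMem (by simp [Ne.symm hrp, Ne.symm hsp]),
            Finset.card_pair (Ne.symm hsr)]
          omega
      have d1 := hdeg 1 le_rfl (by omega)
      rw [sum_mul_of_supp_pair hq₁.symm hS1] at d1
      have dj := hdeg j hj hj'.le
      rw [sum_mul_of_supp_pair (Ne.symm hr) hSj, hqv] at dj
      have dk := hdeg k hk hk'.le
      rw [sum_mul_of_supp_pair (Ne.symm hs) hSk, hqkv, ← hts] at dk
      have dM := hdeg M (by omega) le_rfl
      rw [← Finset.sum_subset (Finset.subset_univ (supp (m M))) fun x _ hx => by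
          rw [mem_supp, not_not] at hx; rw [hx, zero_mul], hSM,
        Finset.sum_insert (by simp [Ne.symm hrp, Ne.symm hsp]), Finset.sum_pair (Ne.symm hsr),
        hpv, hrM.2, htv] at dM
      omega
  set δ := m 1 p
  have hδ : δ = 1 ∨ δ = -1 :=
    entry_eq_one_or_neg_one (hle 1 le_rfl (by omega)) (mem_supp.1 hp1)
  have hq : ∀ j, ∃ q : ι, 1 ≤ j → j < M → q ≠ p ∧ supp (m j) = {p, q} ∧ m j q = -δ := by
    intro j
    by_cases h : 1 ≤ j ∧ j < M
    · obtain ⟨q, hqp, hS⟩ := exists_pair (h2 j h.1 h.2) (hpj j h.1 h.2).1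
      refine ⟨q, fun _ _ => ⟨hqp, hS, ?_⟩⟩
      have d := hdeg j h.1 h.2.le
      rw [sum_mul_of_supp_pair hqp.symm hS, (hpj j h.1 h.2).2] at d
      have hwp := hw p
      have hwq := hw q
      rcases entry_eq_one_or_neg_one (hle j h.1 h.2.le)
        (mem_supp.1 (show q ∈ supp (m j) by simp [hS])) with e | e <;>
        rcases hδ with e' | e' <;> rw [e, e'] at d <;> omega
    · exact ⟨p, fun a b => absurd ⟨a, b⟩ h⟩
  choose q hq using hq
  obtain ⟨c₂, c₃, hc, hcS⟩ : ∃ c₂ c₃, c₂ ≠ c₃ ∧ (supp (m M)).erase p = {c₂, c₃} := by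
    refine Finset.card_eq_two.1 ?_
    have := card_supp (m := m M) (le_of_eq h3)
    rw [Finset.card_erase_of_mem hpM]
    omega
  have hc2 : c₂ ∈ (supp (m M)).erase p := by simp [hcS]
  have hc3 : c₃ ∈ (supp (m M)).erase p := by simp [hcS]
  refine ⟨p, q, c₂, c₃, δ, m M c₂, m M c₃, hδ,
    entry_eq_one_or_neg_one (le_of_eq h3) (mem_supp.1 (Finset.mem_erase.1 hc2).2),
    entry_eq_one_or_neg_one (le_of_eq h3) (mem_supp.1 (Finset.mem_erase.1 hc3).2),
    (Finset.mem_erase.1 hc2).1.symm, (Finset.mem_erase.1 hc3).1.symm, hc, ?_, ?_, ?_, ?_⟩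
  · intro j hj hj'
    obtain ⟨hqp, hS, -⟩ := hq j hj hj'
    obtain ⟨t, ht, -⟩ := exists_common (h2 j hj hj') (le_of_eq h3)
      (hi j M hj hj'.le (by omega) le_rfl (by omega))
    have hnot : q j ∉ supp (m M) := by
      intro h
      have a1 : p ∈ supp (m j) ∩ supp (m M) := Finset.mem_inter.2 ⟨by simp [hS], hpM⟩
      have a2 : q j ∈ supp (m j) ∩ supp (m M) := Finset.mem_inter.2 ⟨by simp [hS], h⟩
      rw [ht, Finset.mem_singleton] at a1 a2
      exact hqp (a2.trans a1.symm)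
    exact ⟨hqp, fun h => hnot (h ▸ (Finset.mem_erase.1 hc2).2),
      fun h => hnot (h ▸ (Finset.mem_erase.1 hc3).2)⟩
  · intro a b ha ha' hb hb' hab
    by_contra hne
    obtain ⟨t, ht, -⟩ := exists_common (h2 a ha ha') (hle b hb hb'.le)
      (hi a b ha ha'.le hb hb'.le hne)
    obtain ⟨hqp, hSa, -⟩ := hq a ha ha'
    obtain ⟨-, hSb, -⟩ := hq b hb hb'
    have a1 : p ∈ supp (m a) ∩ supp (m b) := Finset.mem_inter.2 ⟨by simp [hSa], by simp [hSb]⟩
    have a2 : q a ∈ supp (m a) ∩ supp (m b) :=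
      Finset.mem_inter.2 ⟨by simp [hSa], by simp [hSb, hab]⟩
    rw [ht, Finset.mem_singleton] at a1 a2
    exact hqp (a2.trans a1.symm)
  · intro j hj hj' x
    obtain ⟨hqp, hS, hv⟩ := hq j hj hj'
    split_ifs with e1 e2
    · rw [e1]; exact (hpj j hj hj').2
    · rw [e2]; exact hv
    · exact eq_zero_of_supp_pair hS e1 e2
  · intro x
    split_ifs with e1 e2 e3
    · rw [e1]; exact hpv
    · rw [e2]
    · rw [e3]
    · by_contra h
      have : x ∈ (supp (m M)).erase p := Finset.mem_erase.2 ⟨e1, mem_supp.2 h⟩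
      rw [hcS] at this
      simp [e2, e3] at this

end Cfsg.Agent.DihedralBlock
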