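import Cfsg.Agent.Lib.DihedralBlock.Induced
import Cfsg.Agent.Lib.KleinBlock.Shape
import Cfsg.Agent.Lib.BlockCount.Criterion
import Cfsg.Agent.Lib.Blocks.PPart

/-!
# Two-elements outside the rotations: their sections in the principal block
-/

set_option autoImplicit false
set_option linter.style.haveILetI false
set_option linter.unusedSectionVars false

namespace Cfsg.Agent.DihedralBlock

open Cfsg
open scoped ComplexConjugate

universe u

variable {G : Type u} [Group G] [Fintype G]

theorem sum_oddCentralizing_conj {χ : G → ℂ} (hχ : IsClassFunction G χ) (c u : G) :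
    ∑ v ∈ ZStar.oddCentralizing (c * u * c⁻¹), χ (c * u * c⁻¹ * v) =
      ∑ v ∈ ZStar.oddCentralizing u, χ (u * v) := by
  refine (Finset.sum_equiv (MulAut.conj c).toEquiv (fun v => ?_) fun v _ => ?_).symm
  · simp only [ZStar.mem_oddCentralizing, MulEquiv.toEquiv_eq_coe, EquivLike.coe_coe,
      MulAut.conj_apply]
    rw [show orderOf (c * v * c⁻¹) = orderOf v from MulEquiv.orderOf_eq (MulAut.conj c) v]
    refine and_congr_left fun _ => ⟨fun h => ?_, fun h => ?_⟩
    · exact (h.map (MulAut.conj c).toMonoidHom)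
    · have h2 := h.map (MulAut.conj c⁻¹).toMonoidHom
      simp only [MulEquiv.coe_toMonoidHom, MulAut.conj_apply, inv_inv] at h2
      simpa [mul_assoc] using h2
  · simp only [MulEquiv.toEquiv_eq_coe, EquivLike.coe_coe, MulAut.conj_apply]
    rw [← hχ (u * v) c]
    congr 1
    group

/-- A character whose sums over all nontrivial 2-sections vanish sums to `|G|⟨χ,1⟩` over the
2-regular elements. -/
theorem pregSum_eq_classInner (χ : G → ℂ)
    (h : ∀ u : G, u ≠ 1 → (∃ k, orderOf u = 2 ^ k) →
      ∑ v ∈ ZStar.oddCentralizing u, χ (u * v) = 0) :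
    BlockCount.pregSum 2 χ = (Nat.card G : ℂ) * classInner χ (fun _ => 1) := by
  classical
  haveI : Fact (Nat.Prime 2) := ⟨Nat.prime_two⟩
  choose x hx using fun g : G => Blocks.exists_isPPart (p := 2) g
  have hsing : ∀ g : G, x g = 1 ↔ ¬ 2 ∣ orderOf g := by
    intro g
    obtain ⟨y, hy, hc, ⟨k, hk⟩, hreg⟩ := hx g
    constructor
    · intro h1
      rw [h1, one_mul] at hy
      rw [← hy]; exact hreg
    · intro hg
      refine Blocks.IsPPart.unique (hx g) ⟨g, one_mul g, Commute.one_left g, ⟨0, ?_⟩, hg⟩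
      rw [orderOf_one, pow_zero]
  rw [classInner, mul_inv_cancel_left₀ Char.card_ne_zero]
  simp only [map_one, mul_one]
  rw [← Finset.sum_fiberwise Finset.univ x χ, BlockCount.pregSum,
    ← Finset.add_sum_erase _ _ (Finset.mem_univ (1 : G))]
  rw [Finset.sum_eq_zero (s := Finset.univ.erase 1) fun u hu => ?_, add_zero]
  · exact Finset.sum_congr (Finset.filter_congr fun g _ => (hsing g).symm) fun _ _ => rfl
  have hu1 := (Finset.mem_erase.1 hu).1
  by_cases hex : ∃ g, x g = u
  · obtain ⟨g, rfl⟩ := hex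
    obtain ⟨y, hy, hc, hk, hreg⟩ := hx g
    refine Eq.trans ?_ (h (x g) hu1 hk)
    refine Finset.sum_bij (fun g' _ => (x g)⁻¹ * g') (fun g' hg' => ?_)
      (fun a _ b _ e => mul_left_cancel e) (fun v hv => ?_) fun g' _ => ?_
    · obtain ⟨y', hy', hc', -, hreg'⟩ := hx g'
      rw [(Finset.mem_filter.1 hg').2] at hy' hc'
      rw [ZStar.mem_oddCentralizing, ← hy', inv_mul_cancel_left]
      exact ⟨hc', Nat.not_even_iff_odd.1 fun he => hreg' (even_iff_two_dvd.1 he)⟩
    · rw [ZStar.mem_oddCentralizing] at hv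
      refine ⟨x g * v, Finset.mem_filter.2 ⟨Finset.mem_univ _, ?_⟩, inv_mul_cancel_left _ _⟩
      exact Blocks.IsPPart.unique (hx _) (Blocks.isPPart_mul hv.1 hk
        fun hd => Nat.not_even_iff_odd.2 hv.2 (even_iff_two_dvd.2 hd))
    · rw [mul_inv_cancel_left]
  · exact Finset.sum_eq_zero fun g hg => absurd ⟨g, (Finset.mem_filter.1 hg).2⟩ hex

/-- The value at an involution of a character of odd degree is an odd integer. -/
theorem odd_value {χ : IrrCharacter G} (hodd : Odd (charDegree χ.1)) {u : G} (hu : u * u = 1) :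
    ∃ z : ℤ, z ≠ 0 ∧ χ.1 u = z := by
  classical
  obtain ⟨n, μ, h1, hμ, hpow⟩ := CharInt.exists_roots (Char.irr_isCharacter χ) u
  have hn : charDegree χ.1 = n := by
    have h : (charDegree χ.1 : ℂ) = n := by rw [Char.charDegree_cast, h1]
    exact_mod_cast h
  have hsum := hpow 1
  simp only [pow_one] at hsum
  have hord : orderOf u ∣ 2 := orderOf_dvd_of_pow_eq_one (by rw [pow_two, hu])
  have hterm : ∀ i, μ i = (((1 : ℤ) - 2 * (if μ i = -1 then 1 else 0) : ℤ) : ℂ) := fun i => by
    obtain ⟨c, hc⟩ := hord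
    have h2 : μ i ^ 2 = 1 := by rw [hc, pow_mul, hμ i, one_pow]
    rw [sq_eq_one_iff] at h2
    rcases h2 with h | h <;> rw [h] <;> norm_num
  refine ⟨∑ i : Fin n, ((1 : ℤ) - 2 * (if μ i = -1 then 1 else 0)), fun h0 => ?_, ?_⟩
  · rw [Finset.sum_sub_distrib, ← Finset.mul_sum] at h0
    simp only [Finset.sum_const, Finset.card_univ, Fintype.card_fin, nsmul_eq_mul, mul_one] at h0
    rw [hn, Nat.odd_iff] at hodd
    omega
  · rw [hsum, Int.cast_sum]
    exact Finset.sum_congr rfl fun i _ => hterm i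

namespace Core

variable {σ τ : G} {M₀ : ℕ} (d : Core σ τ M₀) (P : Sylow 2 G)
  (hσ : σ ∈ (P : Subgroup G)) (hτ : τ ∈ (P : Subgroup G))
  (hform : ∀ x ∈ (P : Subgroup G), ∃ i : ℕ, x = σ ^ i ∨ x = σ ^ i * τ)
include d hσ hτ hform

theorem exists_conj_form {u : G} (hu : ∃ k, orderOf u = 2 ^ k) :
    ∃ c : G, ∃ i : ℕ, c * u * c⁻¹ = σ ^ i ∨ c * u * c⁻¹ = σ ^ i * τ := by
  haveI : Fact (Nat.Prime 2) := ⟨Nat.prime_two⟩
  obtain ⟨k, hk⟩ := hu
  have h2 : IsPGroup 2 (Subgroup.zpowers u) :=
    IsPGroup.of_card (n := k) (by rw [Nat.card_zpowers, hk])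
  obtain ⟨R, hR⟩ := h2.exists_le_sylow
  obtain ⟨g, rfl⟩ := MulAction.exists_smul_eq G P R
  have hg := hR (Subgroup.mem_zpowers u)
  rw [Sylow.coe_subgroup_smul, Subgroup.mem_pointwise_smul_iff_inv_smul_mem, MulAut.smul_def,
    MulAut.conj_inv_apply] at hg
  exact ⟨g⁻¹, by simpa using hform _ hg⟩

/-- The centralizer of an involution not conjugate to `J`. -/
theorem centralizer_outer {u : G} {k : ℕ} (hu : u = σ ^ k * τ)
    (hne : ¬ IsConj (σ ^ M₀) u) :
    ∃ N : Subgroup G, (∀ v, v ∈ N ↔ Commute u v ∧ Odd (orderOf v)) ∧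
      Nat.card (Subgroup.centralizer ({u} : Set G)) = 4 * Nat.card N := by
  classical
  haveI : Fact (Nat.Prime 2) := ⟨Nat.prime_two⟩
  set J := σ ^ M₀ with hJ
  have hu2 : u * u = 1 := by
    rw [hu, mul_assoc, ← mul_assoc τ, d.t_mul_pow, mul_assoc, d.tsq, mul_one, mul_inv_cancel]
  have hu1 : u ≠ 1 := by
    intro h
    refine d.tau_notin_K ?_
    obtain ⟨m, hm⟩ := d.exists_pow_inv k
    have e : 1 * σ ^ m = τ := by rw [one_mul, hm, ← mul_one (σ ^ k)⁻¹, ← h, hu, inv_mul_cancel_left]
    exact (congrArg (· ∈ d.K) e).mp (d.mul_pow_mem_K d.V.one_mem m)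
  have huJ : Commute J u := by rw [hu]; exact (d.commute_J_pow k).mul_right d.commute_J_t
  have hJu : J ≠ u := fun h => hne (h ▸ IsConj.refl J)
  have hJ2 : J * J = 1 := d.J_sq
  have hJ1 : J ≠ 1 := d.J_ne_one
  -- the four group
  let T : Subgroup G :=
    { carrier := {x | x = 1 ∨ x = u ∨ x = J ∨ x = u * J}
      one_mem' := Or.inl rfl
      inv_mem' := by
        rintro x (rfl | rfl | rfl | rfl)
        · exact Or.inl inv_one
        · exact Or.inr (Or.inl (inv_eq_of_mul_eq_one_right hu2))
        · exact Or.inr (Or.inr (Or.inl (inv_eq_of_mul_eq_one_right hJ2)))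
        · refine Or.inr (Or.inr (Or.inr ?_))
          rw [mul_inv_rev, inv_eq_of_mul_eq_one_right hu2, inv_eq_of_mul_eq_one_right hJ2, huJ.eq]
      mul_mem' := by
        have e1 : u * (u * J) = J := by rw [← mul_assoc, hu2, one_mul]
        have e2 : J * (u * J) = u := by rw [← mul_assoc, huJ.eq, mul_assoc, hJ2, mul_one]
        have e3 : u * J * u = J := by rw [mul_assoc, huJ.eq, ← mul_assoc, hu2, one_mul]
        have e4 : u * J * J = u := by rw [mul_assoc, hJ2, mul_one]
        rintro x y (rfl | rfl | rfl | rfl) (rfl | rfl | rfl | rfl) <;>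
          simp [hu2, hJ2, e1, e2, e3, e4, huJ.eq, mul_assoc] <;> simp [← mul_assoc, hu2, hJ2] }
  have hTmem : ∀ {x : G}, x ∈ T ↔ x = 1 ∨ x = u ∨ x = J ∨ x = u * J := Iff.rfl
  have hTcard : Nat.card T = 4 := by
    have e : (T : Set G) = (({1, u, J, u * J} : Finset G) : Set G) := by
      ext x; simp [hTmem]
    rw [← SetLike.coe_sort_coe, Nat.card_coe_set_eq, e, Set.ncard_coe_finset]
    have a1 : u ≠ u * J := fun h => hJ1 (mul_eq_left.1 h.symm)
    have a2 : J ≠ u * J := fun h => hu1 (mul_eq_right.1 h.symm)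
    have a3 : (1 : G) ≠ u * J := fun h => hJu (by
      calc J = u * (u * J) := by rw [← mul_assoc, hu2, one_mul]
        _ = u := by rw [← h, mul_one])
    simp [Ne.symm hu1, Ne.symm hJ1, a1, a2, a3, hJu.symm]
  have hTp : IsPGroup 2 T := IsPGroup.of_card (n := 2) (by rw [hTcard]; norm_num)
  set C := Subgroup.centralizer ({u} : Set G) with hC
  have hCmem : ∀ {c : G}, c ∈ C ↔ Commute u c := fun {c} =>
    Subgroup.mem_centralizer_singleton_iff.trans ⟨fun h => h.symm, fun h => h.symm⟩
  have hTC : T ≤ C := by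
    intro x hx
    rw [hCmem]
    rcases hTmem.1 hx with rfl | rfl | rfl | rfl
    exacts [Commute.one_right _, Commute.refl _, huJ.symm, (Commute.refl _).mul_right huJ.symm]
  -- it is a Sylow subgroup of the centralizer
  have hT'p : IsPGroup 2 (T.subgroupOf C) := hTp.comap_of_injective _ C.subtype_injective
  obtain ⟨S, hS⟩ := hT'p.exists_le_sylow
  have hScard : Nat.card (S : Subgroup C) ≤ 4 := by
    have hSp : IsPGroup 2 ((S : Subgroup C).map C.subtype) := S.isPGroup'.map _
    obtain ⟨R, hR⟩ := hSp.exists_le_sylow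
    obtain ⟨g, rfl⟩ := MulAction.exists_smul_eq G P R
    have huS : u ∈ (S : Subgroup C).map C.subtype :=
      ⟨⟨u, hTC (hTmem.2 (Or.inr (Or.inl rfl)))⟩,
        hS (Subgroup.mem_subgroupOf.2 (hTmem.2 (Or.inr (Or.inl rfl)))), rfl⟩
    have hmemP : ∀ y ∈ (S : Subgroup C).map C.subtype, g⁻¹ * y * g ∈ (P : Subgroup G) := by
      intro y hy
      have h := hR hy
      rwa [Sylow.coe_subgroup_smul, Subgroup.mem_pointwise_smul_iff_inv_smul_mem, MulAut.smul_def,
        MulAut.conj_inv_apply] at h
    set u' := g⁻¹ * u * g with hu'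
    have hu'2 : u' * u' = 1 := by
      rw [hu']
      calc _ = g⁻¹ * (u * u) * g := by group
        _ = 1 := by rw [hu2]; group
    have hu'conj : IsConj u' u := isConj_iff.2 ⟨g, by rw [hu']; group⟩
    obtain ⟨l, hl⟩ : ∃ l, u' = σ ^ l * τ := by
      obtain ⟨l, hl | hl⟩ := hform _ (hmemP u huS)
      · exfalso
        have hl' : σ ^ l * σ ^ l = 1 := by rw [← hl]; exact hu'2
        have hl2 : u' = σ ^ l := hl
        rcases d.pow_eq_one_or_J hl' with e | e <;> rw [hl2, e] at hu'conj
        · exact hu1 (isConj_one_right.1 hu'conj)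
        · exact hne hu'conj
      · exact ⟨l, hl⟩
    have hcases : ∀ y : (S : Subgroup C), g⁻¹ * ((y : C) : G) * g = 1 ∨
        g⁻¹ * ((y : C) : G) * g = σ ^ M₀ ∨ g⁻¹ * ((y : C) : G) * g = u' ∨
        g⁻¹ * ((y : C) : G) * g = u' * σ ^ M₀ := by
      intro y
      set z := g⁻¹ * ((y : C) : G) * g with hz
      have hzc : Commute u' z := by
        have hc : Commute u ((y : C) : G) := hCmem.1 (y : C).2
        show u' * z = z * u'
        rw [hz, hu']
        calc g⁻¹ * u * g * (g⁻¹ * ((y : C) : G) * g) = g⁻¹ * (u * ((y : C) : G)) * g := by group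
          _ = g⁻¹ * (((y : C) : G) * u) * g := by rw [hc.eq]
          _ = _ := by group
      obtain ⟨i, hi⟩ := hform _ (hmemP ((y : C) : G) ⟨(y : C), y.2, rfl⟩)
      have key : ∀ i : ℕ, Commute u' (σ ^ i) → σ ^ i = 1 ∨ σ ^ i = σ ^ M₀ := by
        intro i hc
        refine d.pow_eq_one_or_J ?_
        have h1 : u' * σ ^ i = (σ ^ i)⁻¹ * u' := by
          rw [hl]
          calc σ ^ l * τ * σ ^ i = σ ^ l * ((σ ^ i)⁻¹ * τ) := by rw [mul_assoc, d.t_mul_pow]
            _ = (σ ^ i)⁻¹ * (σ ^ l * τ) := by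
              rw [← mul_assoc, ← mul_assoc, ((Commute.pow_pow_self σ l i).inv_right).eq]
        rw [hc.eq] at h1
        have h2 := mul_right_cancel h1
        exact mul_eq_one_iff_eq_inv.2 h2
      rcases hi with hi | hi <;> rw [← hz] at hi
      · rcases key i (hi ▸ hzc) with e | e
        · exact Or.inl (hi.trans e)
        · exact Or.inr (Or.inl (hi.trans e))
      · obtain ⟨m, hm⟩ := d.exists_pow_inv l
        have e0 : z * u' = σ ^ (i + m) := by
          rw [hi, hl]
          calc σ ^ i * τ * (σ ^ l * τ) = σ ^ i * (τ * σ ^ l) * τ := by group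
            _ = σ ^ i * (σ ^ l)⁻¹ := by rw [d.t_mul_pow, mul_assoc, mul_assoc, d.tsq, mul_one]
            _ = _ := by rw [pow_add, hm]
        have hc2 : Commute u' (σ ^ (i + m)) := e0 ▸ hzc.mul_right (Commute.refl u')
        have e1 : z = σ ^ (i + m) * u' := by rw [← e0, mul_assoc, hu'2, mul_one]
        rcases key _ hc2 with e | e
        · exact Or.inr (Or.inr (Or.inl (by rw [e1, e, one_mul])))
        · refine Or.inr (Or.inr (Or.inr ?_))
          rw [e1, e, hl]
          exact ((d.commute_J_pow l).mul_right d.commute_J_t).eq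
    have hinj : Function.Injective fun y : (S : Subgroup C) => g⁻¹ * ((y : C) : G) * g :=
      fun a b h => Subtype.ext (Subtype.ext (mul_left_cancel (mul_right_cancel h)))
    have hsub : (Finset.univ.image fun y : (S : Subgroup C) => g⁻¹ * ((y : C) : G) * g) ⊆
        {1, σ ^ M₀, u', u' * σ ^ M₀} := by
      intro z hz
      obtain ⟨y, -, rfl⟩ := Finset.mem_image.1 hz
      simpa using hcases y
    have h1 := Finset.card_le_card hsub
    rw [Finset.card_image_of_injective _ hinj, Finset.card_univ, ← Nat.card_eq_fintype_card] at h1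
    exact h1.trans Finset.card_le_four
  have hST : (S : Subgroup C) = T.subgroupOf C := by
    refine (Subgroup.eq_of_le_of_card_ge hS ?_).symm
    rwa [Nat.card_congr (Subgroup.subgroupOfEquivOfLe hTC).toEquiv, hTcard]
  have hSmem : ∀ x : C, x ∈ (S : Subgroup C) ↔ (x : G) ∈ T := fun x => by
    rw [hST]; exact Subgroup.mem_subgroupOf
  have hS4 : Nat.card (S : Subgroup C) = 4 := by
    rw [hST, Nat.card_congr (Subgroup.subgroupOfEquivOfLe hTC).toEquiv, hTcard]
  have hN : Subgroup.normalizer ((S : Subgroup C) : Set C) ≤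
      Subgroup.centralizer ((S : Subgroup C) : Set C) := by
    intro n hn
    have hnorm : ∀ x ∈ T, (n : G) * x * (n : G)⁻¹ ∈ T := fun x hx => by
      have := (Subgroup.mem_normalizer_iff.1 hn ⟨x, hTC hx⟩).1 ((hSmem _).2 hx)
      exact (hSmem _).1 this
    have hnu : (n : G) * u * (n : G)⁻¹ = u := by
      rw [← (hCmem.1 n.2).eq, mul_inv_cancel_right]
    have hnJ : (n : G) * J * (n : G)⁻¹ = J := by
      rcases hTmem.1 (hnorm J (hTmem.2 (Or.inr (Or.inr (Or.inl rfl))))) with e | e | e | e
      · exact absurd (conj_eq_one_iff.1 e) hJ1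
      · refine absurd ?_ hJu
        calc J = (n : G)⁻¹ * ((n : G) * J * (n : G)⁻¹) * n := by group
          _ = (n : G)⁻¹ * u * n := by rw [e]
          _ = (n : G)⁻¹ * ((n : G) * u * (n : G)⁻¹) * n := by rw [hnu]
          _ = u := by group
      · exact e
      · exfalso
        have hiter : ∀ m : ℕ, (n : G) ^ m * J * ((n : G) ^ m)⁻¹ =
            if Even m then J else u * J := by
          intro m
          induction m with
          | zero => simp
          | succ m ih =>
            rw [pow_succ']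
            calc (n : G) * (n : G) ^ m * J * ((n : G) * (n : G) ^ m)⁻¹
                = (n : G) * ((n : G) ^ m * J * ((n : G) ^ m)⁻¹) * (n : G)⁻¹ := by group
              _ = _ := by
                rw [ih]
                by_cases hm : Even m
                · rw [if_pos hm, if_neg (by rw [Nat.even_add_one]; exact not_not.2 hm), e]
                · rw [if_neg hm, if_pos (by rw [Nat.even_add_one]; exact hm), ← conj_mul, hnu, e,
                    ← mul_assoc, hu2, one_mul]
        -- an odd power of `n` is a 2-element normalising, hence inside, the four group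
        set o := orderOf n with ho
        set a := o.factorization 2 with ha
        set b := o / 2 ^ a with hb
        have hab : 2 ^ a * b = o := Nat.ordProj_mul_ordCompl_eq_self _ 2
        have hbodd : Odd b := Nat.not_even_iff_odd.1 fun h =>
          Nat.not_dvd_ordCompl Nat.prime_two (orderOf_pos n).ne' (even_iff_two_dvd.1 h)
        have hp : IsPGroup 2 (Subgroup.zpowers (n ^ b)) := by
          refine IsPGroup.of_card (n := a) ?_
          rw [Nat.card_zpowers, orderOf_pow_of_dvd hbodd.pos.ne' (Dvd.intro_left _ hab), ← ho,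
            ← hab, Nat.mul_div_cancel _ hbodd.pos]
        have hnb : n ^ b ∈ Subgroup.normalizer ((S : Subgroup C) : Set C) := pow_mem hn b
        have hle : Subgroup.zpowers (n ^ b) ≤ Subgroup.normalizer ((S : Subgroup C) : Set C) :=
          Subgroup.zpowers_le.2 hnb
        have hsup := IsPGroup.to_sup_of_normal_right' hp S.isPGroup' hle
        have heq := S.is_maximal' hsup le_sup_right
        have hmem : n ^ b ∈ (S : Subgroup C) :=
          heq ▸ Subgroup.mem_sup_left (Subgroup.mem_zpowers (n ^ b))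
        have h1 := hiter b
        rw [if_neg (Nat.not_even_iff_odd.2 hbodd)] at h1
        have hcomm : Commute ((n : G) ^ b) J := by
          rcases hTmem.1 ((hSmem _).1 hmem) with e' | e' | e' | e' <;>
            rw [SubmonoidClass.coe_pow] at e' <;> rw [e']
          exacts [Commute.one_left _, huJ.symm, huJ.symm.mul_left (Commute.refl _)]
        rw [hcomm.eq, mul_inv_cancel_right] at h1
        exact hu1 (mul_eq_right.1 h1.symm)
    rw [Subgroup.mem_centralizer_iff]
    intro x hx
    apply Subtype.ext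
    show (x : G) * n = n * x
    have hcu : Commute (n : G) u := (hCmem.1 n.2).symm
    have hcJ : Commute (n : G) J := mul_inv_eq_iff_eq_mul.1 hnJ
    rcases hTmem.1 ((hSmem x).1 hx) with e | e | e | e <;> rw [e]
    exacts [(Commute.one_left _).eq, hcu.symm.eq, hcJ.symm.eq, (hcu.mul_right hcJ).symm.eq]
  set K := (MonoidHom.transferSylow S hN).ker with hKdef
  have hKc := MonoidHom.ker_transferSylow_isComplement' S hN
  have hKodd : Odd (Nat.card K) := by
    rw [← Nat.not_even_iff_odd, even_iff_two_dvd]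
    exact MonoidHom.not_dvd_card_ker_transferSylow S hN
  refine ⟨K.map C.subtype, fun v => ?_, ?_⟩
  · constructor
    · rintro ⟨w, hw, rfl⟩
      refine ⟨hCmem.1 w.2, ?_⟩
      rw [Subgroup.coe_subtype, Subgroup.orderOf_coe]
      exact hKodd.of_dvd_nat (Subgroup.orderOf_dvd_natCard _ hw)
    · rintro ⟨hc, ho⟩
      refine ⟨⟨v, hCmem.2 hc⟩, ?_, rfl⟩
      refine MonoidHom.mem_ker.2 ?_
      set w : C := ⟨v, hCmem.2 hc⟩
      set φ := MonoidHom.transferSylow S hN
      have h4 : φ w ^ 4 = 1 := by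
        have h := pow_card_eq_one' (x := φ w)
        rwa [hS4] at h
      have hodd : φ w ^ orderOf w = 1 := by rw [← map_pow, pow_orderOf_eq_one, map_one]
      have hg := pow_gcd_eq_one.2 ⟨h4, hodd⟩
      have hw : Odd (orderOf w) := by rwa [← Subgroup.orderOf_coe]
      have : Nat.gcd 4 (orderOf w) = 1 := by
        have hc : Nat.Coprime (2 ^ 2) (orderOf w) := (Nat.coprime_two_left.2 hw).pow_left 2
        exact Nat.coprime_iff_gcd_eq_one.1 hc
      rw [this, pow_one] at hg
      exact hg
  · rw [Subgroup.card_map_of_injective C.subtype_injective, ← hS4, mul_comm]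
    exact hKc.card_mul_card.symm

/-- The principal block carries norm four at such an involution. -/
theorem sum_norm_outer {M : Ideal AlgInt} (hM : IsPModular 2 M)
    [DecidablePred (· ∈ principalBlock M G)] {u : G} {k : ℕ} (hu : u = σ ^ k * τ)
    (hne : ¬ IsConj (σ ^ M₀) u) :
    ∑ χ ∈ Finset.univ.filter (· ∈ principalBlock M G), χ.1 u * conj (χ.1 u) = 4 := by
  classical
  obtain ⟨N, hN, hcard⟩ := d.centralizer_outer P hσ hτ hform hu hne
  have hu2 : u * u = 1 := by
    rw [hu, mul_assoc, ← mul_assoc τ, d.t_mul_pow, mul_assoc, d.tsq, mul_one, mul_inv_cancel]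
  have hk : ∃ s, orderOf u = 2 ^ s := by
    obtain ⟨s, -, hs⟩ := (Nat.dvd_prime_pow Nat.prime_two).1
      (orderOf_dvd_of_pow_eq_one (show u ^ 2 ^ 1 = 1 by rw [pow_one, pow_two, hu2]))
    exact ⟨s, hs⟩
  have hcN : ((ZStar.oddCentralizing u).card : ℂ) = Nat.card N := by
    congr 1
    rw [Nat.card_eq_fintype_card]
    exact (Fintype.card_of_subtype _ fun v => by rw [ZStar.mem_oddCentralizing, hN]).symm
  have h1 : ∑ χ : IrrCharacter G, ∑ v ∈ ZStar.oddCentralizing u, χ.1 (u * v) * conj (χ.1 u) =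
      (Nat.card N : ℂ) *
        ∑ χ ∈ Finset.univ.filter (· ∈ principalBlock M G), χ.1 u * conj (χ.1 u) := by
    rw [Finset.mul_sum, Finset.sum_filter]
    refine Finset.sum_congr rfl fun χ _ => ?_
    have hs := ZStar.sum_oddCentralizing_apply ZStar.secondPrincipal hM hk hN χ
    rw [← Finset.sum_mul]
    split_ifs with hχ
    · rw [hs.1 hχ, hcN, mul_assoc]
    · rw [hs.2 hχ, zero_mul]
  have h2 : ∑ χ : IrrCharacter G, ∑ v ∈ ZStar.oddCentralizing u, χ.1 (u * v) * conj (χ.1 u) =
      (Nat.card (Subgroup.centralizer ({u} : Set G)) : ℂ) := by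
    rw [Finset.sum_comm, Finset.sum_congr rfl fun v _ => Char.sum_irr_mul_conj (u * v) u,
      Finset.sum_eq_single (1 : G)]
    · rw [mul_one, if_pos (IsConj.refl u)]
    · intro v hv hv1
      rw [if_neg]
      intro hc
      rw [ZStar.mem_oddCentralizing] at hv
      obtain ⟨c, hc⟩ := isConj_iff.1 hc
      have h := MulEquiv.orderOf_eq (MulAut.conj c) (u * v)
      rw [MulAut.conj_apply, hc] at h
      have hsq : (u * v) ^ 2 = 1 := by
        rw [orderOf_dvd_iff_pow_eq_one.1 ?_]
        rw [← h]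
        exact orderOf_dvd_of_pow_eq_one (by rw [pow_two, hu2])
      rw [hv.1.mul_pow, pow_two u, hu2, one_mul] at hsq
      exact hv1 (orderOf_eq_one_iff.1 (Nat.eq_one_of_dvd_coprimes
        (Nat.coprime_two_right.2 hv.2) dvd_rfl (orderOf_dvd_of_pow_eq_one hsq)))
    · intro h
      exact absurd (ZStar.mem_oddCentralizing.2 ⟨Commute.one_right u, by simp⟩) h
  rw [h1, hcard, Nat.cast_mul, mul_comm ((4 : ℕ) : ℂ)] at h2
  exact_mod_cast mul_left_cancel₀ Char.card_ne_zero h2

end Core

end Cfsg.Agent.DihedralBlock
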