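import Cfsg.Agent.Lib.DihedralBlock.Family
import Cfsg.Agent.Lib.DihedralBlock.Combi
import Cfsg.Agent.Lib.DihedralBlock.Outside

/-!
# The principal 2-block of a group with dihedral Sylow 2-subgroups
-/

set_option autoImplicit false
set_option linter.style.haveILetI false
set_option linter.unusedSectionVars false

namespace Cfsg.Agent.DihedralBlock

open Cfsg
open scoped ComplexConjugate

universe u

variable {G : Type u} [Group G] [Fintype G] {σ τ : G} {M₀ : ℕ}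

namespace Core

variable (d : Core σ τ M₀) {ζ : ℂ} (hζ : IsPrimitiveRoot ζ (2 * M₀))
include d hζ

theorem Psi_zero : d.Psi hζ 0 = 0 := by
  have h : d.wtJ hζ 0 = (0 : d.K → ℂ) := funext fun k => by simp [wtJ]
  rw [Psi, h, Char.indFun_zero]

/-- The family vanishes on elements of odd order. -/
theorem Psi_odd (j : ℕ) {ρ : G} (hρ : Odd (orderOf ρ)) : d.Psi hζ j ρ = 0 := by
  simp only [Psi, indFun]
  rw [Finset.sum_eq_zero fun x _ => ?_, mul_zero]
  by_cases h : x⁻¹ * ρ * x ∈ d.K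
  · obtain ⟨v, hv, i, hvi⟩ := id h
    rw [hvi, d.extend_wtJ_mul_pow hζ hv]
    suffices hi : σ ^ i = 1 by
      have h2 : i ≡ 0 [MOD orderOf σ] := pow_eq_pow_iff_modEq.1 (by rw [hi, pow_zero])
      rw [d.hord] at h2
      rw [← pow_mul, mul_comm, pow_mul, root_pow_congr hζ h2, pow_zero, one_pow, sub_self]
    by_contra hi
    obtain ⟨e, he⟩ := d.exists_pow_eq_J hv hi
    have h1 : orderOf (x⁻¹ * ρ * x) = orderOf ρ := by
      simpa using MulEquiv.orderOf_eq (MulAut.conj x⁻¹) ρ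
    have h2 : orderOf ((v * σ ^ i) ^ e) ∣ orderOf (v * σ ^ i) := orderOf_pow_dvd e
    rw [he, d.orderOf_J, ← hvi, h1] at h2
    exact Nat.not_even_iff_odd.2 hρ (even_iff_two_dvd.2 h2)
  · exact Char.extendByZero_of_notMem _ _ h

theorem classInner_Psi_const {j : ℕ} (hj : ¬ 2 * M₀ ∣ j) [Fintype d.V] {χ : G → ℂ}
    (hχ : IsClassFunction G χ) {δ : ℂ}
    (hF : ∀ i, 0 < i → i < 2 * M₀ → d.Favg χ i = δ) :
    classInner (d.Psi hζ j) χ = δ := by
  rw [d.classInner_Psi hζ j hχ,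
    Finset.sum_congr rfl (g := fun i : Fin (2 * M₀) => (1 - (ζ ^ j) ^ (i : ℕ)) * δ) fun i _ => ?_,
    ← Finset.sum_mul, Finset.sum_sub_distrib, d.sum_root_pow hζ, if_neg hj, sub_zero,
    Finset.sum_const, Finset.card_univ, Fintype.card_fin, nsmul_eq_mul, mul_one, ← mul_assoc,
    inv_mul_cancel₀ (Nat.cast_ne_zero.2 (by have := d.hM0; omega)), one_mul]
  rcases Nat.eq_zero_or_pos (i : ℕ) with h | h
  · simp [h]
  · rw [hF _ h i.2]

theorem classInner_Psi_trivial {j : ℕ} (hj : 1 ≤ j) (hj' : j ≤ M₀) :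
    classInner (d.Psi hζ j) (Char.trivialChar G).1 = 1 := by
  haveI := Fintype.ofFinite d.V
  refine d.classInner_Psi_const hζ (fun h => ?_)
    (Char.IsCharacter.isClassFunction (Char.irr_isCharacter _)) fun i _ _ => ?_
  · have := Nat.le_of_dvd (by omega) h
    have := d.hM0
    omega
  · simp only [Favg, Char.trivialChar_apply, map_one, Finset.sum_const, Finset.card_univ,
      nsmul_eq_mul, mul_one, ← Nat.card_eq_fintype_card]
    exact inv_mul_cancel₀ Char.card_ne_zero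

variable {M : Ideal AlgInt}

/-- Averages are values on the principal block and vanish outside it. -/
theorem Favg_principal (hM : IsPModular 2 M) [Fintype d.V] (χ : IrrCharacter G) {i : ℕ}
    (h0 : 0 < i) (h1 : i < 2 * M₀) :
    (χ ∈ principalBlock M G → d.Favg χ.1 i = conj (χ.1 (σ ^ i))) ∧
      (χ ∉ principalBlock M G → d.Favg χ.1 i = 0) := by
  obtain ⟨h2, h3⟩ := d.sum_coset_apply hM χ (d.pow_ne_one hζ h0 h1)
  refine ⟨fun h => ?_, fun h => ?_⟩
  · rw [Favg, ← map_sum, h2 h, map_mul, map_natCast, inv_mul_cancel_left₀ Char.card_ne_zero]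
  · rw [Favg, ← map_sum, h3 h, map_zero, mul_zero]

/-- The constituents of the family. -/
theorem exists_constituents :
    ∃ (p : IrrCharacter G) (q : ℕ → IrrCharacter G) (c₂ c₃ : IrrCharacter G) (δ δ₂ δ₃ : ℤ),
      (δ = 1 ∨ δ = -1) ∧ (δ₂ = 1 ∨ δ₂ = -1) ∧ (δ₃ = 1 ∨ δ₃ = -1) ∧
      p ≠ Char.trivialChar G ∧ c₂ ≠ Char.trivialChar G ∧ c₃ ≠ Char.trivialChar G ∧
      p ≠ c₂ ∧ p ≠ c₃ ∧ c₂ ≠ c₃ ∧
      (∀ j, 1 ≤ j → j < M₀ → q j ≠ p ∧ q j ≠ c₂ ∧ q j ≠ c₃ ∧ q j ≠ Char.trivialChar G) ∧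
      (∀ a b, 1 ≤ a → a < M₀ → 1 ≤ b → b < M₀ → q a = q b → a = b) ∧
      (∀ j, 1 ≤ j → j < M₀ → ∀ χ : IrrCharacter G, classInner (d.Psi hζ j) χ.1 =
        if χ = Char.trivialChar G then 1 else
          if χ = p then (δ : ℂ) else if χ = q j then -(δ : ℂ) else 0) ∧
      ∀ χ : IrrCharacter G, classInner (d.Psi hζ M₀) χ.1 =
        if χ = Char.trivialChar G then 1 else
          if χ = p then (δ : ℂ) else if χ = c₂ then (δ₂ : ℂ) else if χ = c₃ then (δ₃ : ℂ) else 0 := by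
  classical
  choose c hc hc' using fun j => Char.IsGeneralizedCharacter.exists_decomp (d.isGeneralized_Psi hζ j)
  set t := Char.trivialChar G with ht
  have hct : ∀ j, 1 ≤ j → j ≤ M₀ → c j t = 1 := by
    intro j hj hj'
    have h := d.classInner_Psi_trivial hζ hj hj'
    rw [hc' j t] at h
    exact_mod_cast h
  let m : ℕ → IrrCharacter G → ℤ := fun j χ => if χ = t then 0 else c j χ
  have hsplit : ∀ a, ∀ f : IrrCharacter G → ℤ, 1 ≤ a → a ≤ M₀ →
      ∑ χ, c a χ * f χ = f t + ∑ χ, m a χ * f χ := by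
    intro a f ha ha'
    rw [← Finset.add_sum_erase _ _ (Finset.mem_univ t),
      ← Finset.add_sum_erase _ (fun χ => m a χ * f χ) (Finset.mem_univ t)]
    simp only [m, if_pos, hct a ha ha', one_mul, zero_mul, zero_add]
    exact congrArg _ (Finset.sum_congr rfl fun χ hχ => by rw [if_neg (Finset.mem_erase.1 hχ).1])
  have hinner : ∀ a b, 1 ≤ a → a ≤ M₀ → 1 ≤ b → b ≤ M₀ →
      ((1 + ∑ χ, m a χ * m b χ : ℤ) : ℂ) = if a = b then (if a = M₀ then 4 else 3) else 2 := by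
    intro a b ha ha' hb hb'
    rw [← d.classInner_Psi_Psi hζ ha ha' hb hb']
    have h1 : ∑ χ, m a χ * m b χ = ∑ χ, m a χ * c b χ := by
      refine Finset.sum_congr rfl fun χ _ => ?_
      simp only [m]
      split_ifs <;> simp
    rw [h1, ← hct b hb hb', ← hsplit a (c b) ha ha']
    conv_rhs => rw [hc b]
    rw [Char.classInner_sum_right, Int.cast_sum]
    refine Finset.sum_congr rfl fun χ _ => ?_
    rw [Char.classInner_smul_right, hc' a χ, map_intCast]
    push_cast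
    ring
  have h2 : ∀ j, 1 ≤ j → j < M₀ → ∑ χ, m j χ ^ 2 = 2 := by
    intro j hj hj'
    have h := hinner j j hj hj'.le hj hj'.le
    rw [if_pos rfl, if_neg hj'.ne] at h
    have h' : (1 + ∑ χ, m j χ * m j χ : ℤ) = 3 := by exact_mod_cast h
    simp only [pow_two]
    omega
  have h3 : ∑ χ, m M₀ χ ^ 2 = 3 := by
    have h := hinner M₀ M₀ d.hM0 le_rfl d.hM0 le_rfl
    rw [if_pos rfl, if_pos rfl] at h
    have h' : (1 + ∑ χ, m M₀ χ * m M₀ χ : ℤ) = 4 := by exact_mod_cast h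
    simp only [pow_two]
    omega
  have hi : ∀ a b, 1 ≤ a → a ≤ M₀ → 1 ≤ b → b ≤ M₀ → a ≠ b → ∑ χ, m a χ * m b χ = 1 := by
    intro a b ha ha' hb hb' hab
    have h := hinner a b ha ha' hb hb'
    rw [if_neg hab] at h
    have h' : (1 + ∑ χ, m a χ * m b χ : ℤ) = 2 := by exact_mod_cast h
    omega
  have hdeg : ∀ j, 1 ≤ j → j ≤ M₀ → ∑ χ, m j χ * (charDegree χ.1 : ℤ) = -1 := by
    intro j hj hj'
    have h := congrFun (hc j) 1
    rw [d.Psi_odd hζ j (by rw [orderOf_one]; exact odd_one), Finset.sum_apply] at h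
    simp only [Pi.smul_apply, smul_eq_mul, ← Char.charDegree_cast] at h
    have h' : (∑ χ, c j χ * (charDegree χ.1 : ℤ) : ℤ) = 0 := by exact_mod_cast h.symm
    rw [hsplit j _ hj hj'] at h'
    have h1 : (charDegree t.1 : ℤ) = 1 := by
      have : (charDegree t.1 : ℂ) = 1 := by rw [Char.charDegree_cast]; rfl
      exact_mod_cast this
    omega
  obtain ⟨p, q, c₂, c₃, δ, δ₂, δ₃, hδ, hδ₂, hδ₃, hpc2, hpc3, hc23, hq, hqinj, hmj, hmM⟩ :=
    family_shape d.hM d.hM0 m (fun χ => (charDegree χ.1 : ℤ))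
      (fun χ => by exact_mod_cast Char.charDegree_pos χ) h2 h3 hi hdeg
  have hmt : ∀ j, m j t = 0 := fun j => if_pos rfl
  have hpt : p ≠ t := by
    intro h
    have := hmM p
    rw [if_pos rfl, h, hmt] at this
    omega
  have hc2t : c₂ ≠ t := by
    intro h
    have := hmM c₂
    rw [if_neg hpc2.symm, if_pos rfl, h, hmt] at this
    omega
  have hc3t : c₃ ≠ t := by
    intro h
    have := hmM c₃
    rw [if_neg hpc3.symm, if_neg hc23.symm, if_pos rfl, h, hmt] at this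
    omega
  have hqt : ∀ j, 1 ≤ j → j < M₀ → q j ≠ t := by
    intro j hj hj' h
    have := hmj j hj hj' (q j)
    rw [if_neg (hq j hj hj').1, if_pos rfl, h, hmt] at this
    omega
  refine ⟨p, q, c₂, c₃, δ, δ₂, δ₃, hδ, hδ₂, hδ₃, hpt, hc2t, hc3t, hpc2, hpc3, hc23,
    fun j hj hj' => ⟨(hq j hj hj').1, (hq j hj hj').2.1, (hq j hj hj').2.2, hqt j hj hj'⟩,
    hqinj, fun j hj hj' χ => ?_, fun χ => ?_⟩
  · rw [hc' j χ]
    by_cases h : χ = t
    · rw [if_pos h, h, hct j hj hj'.le, Int.cast_one]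
    · rw [if_neg h, show c j χ = m j χ from (if_neg h).symm, hmj j hj hj' χ]
      split_ifs <;> simp
  · rw [hc' M₀ χ]
    by_cases h : χ = t
    · rw [if_pos h, h, hct M₀ d.hM0 le_rfl, Int.cast_one]
    · rw [if_neg h, show c M₀ χ = m M₀ χ from (if_neg h).symm, hmM χ]
      split_ifs <;> simp

/-- The averages from a table of multiplicities. -/
theorem Favg_of_table [Fintype d.V] {χ : G → ℂ} (hχ : IsClassFunction G χ) {i : ℕ}
    (h0 : 0 < i) (h1 : i < 2 * M₀) (cM : ℂ) (f : ℕ → ℂ)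
    (hj : ∀ j, 1 ≤ j → j < M₀ → classInner (d.Psi hζ j) χ = f j)
    (hM : classInner (d.Psi hζ M₀) χ = cM) :
    d.Favg χ i = -(cM * (-1) ^ i) -
      ∑ j ∈ Finset.Ico 1 M₀, f j * ((ζ ^ (j * i))⁻¹ + ζ ^ (j * i)) := by
  rw [d.Favg_eq_neg_sum hζ hχ h0 h1,
    Fin.sum_univ_eq_sum_range fun j => classInner (d.Psi hζ j) χ * (ζ ^ j) ^ (2 * M₀ - i)]
  have hterm : ∀ j, j ≤ 2 * M₀ → (ζ ^ j) ^ (2 * M₀ - i) = (ζ ^ (j * i))⁻¹ := by
    intro j hj
    refine eq_inv_of_mul_eq_one_left ?_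
    rw [← pow_mul, ← pow_add, ← mul_add, Nat.sub_add_cancel h1.le, mul_comm, pow_mul,
      hζ.pow_eq_one, one_pow]
  have hopp : ∀ j, j ≤ 2 * M₀ → (ζ ^ (2 * M₀ - j)) ^ (2 * M₀ - i) = ζ ^ (j * i) := by
    intro j hj
    rw [← d.inv_root_pow hζ hj, inv_pow, hterm j hj, inv_inv]
  have hnegone : (ζ ^ M₀) ^ (2 * M₀ - i) = (-1 : ℂ) ^ i := by
    rw [d.root_pow_M hζ]
    have h : (-1 : ℂ) ^ (2 * M₀ - i) * (-1) ^ i = 1 := by
      rw [← pow_add, Nat.sub_add_cancel h1.le, pow_mul]; norm_num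
    have h' : (-1 : ℂ) ^ i * (-1) ^ i = 1 := by rw [← mul_pow]; norm_num
    exact mul_right_cancel₀ (right_ne_zero_of_mul_eq_one h) (h.trans h'.symm)
  rw [Finset.range_eq_Ico, ← Finset.sum_Ico_consecutive _ (Nat.zero_le M₀) (by omega),
    Finset.sum_eq_sum_Ico_succ_bot d.hM0, d.Psi_zero hζ,
    show classInner (0 : G → ℂ) χ = 0 from Char.classInner_zero_left χ, zero_mul, zero_add,
    Finset.sum_eq_sum_Ico_succ_bot (show M₀ < 2 * M₀ by have := d.hM0; omega), hM, hnegone]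
  have hupper : ∑ j ∈ Finset.Ico (M₀ + 1) (2 * M₀),
      classInner (d.Psi hζ j) χ * (ζ ^ j) ^ (2 * M₀ - i) =
      ∑ j ∈ Finset.Ico 1 M₀, f j * ζ ^ (j * i) := by
    refine Finset.sum_nbij' (fun j => 2 * M₀ - j) (fun j => 2 * M₀ - j) ?_ ?_ ?_ ?_ ?_
    · intro j h
      simp only [Finset.mem_Ico, Finset.coe_Ico, Set.mem_Ico] at h ⊢
      omega
    · intro j h
      simp only [Finset.mem_Ico, Finset.coe_Ico, Set.mem_Ico] at h ⊢
      omega
    · intro j h
      simp only [Finset.mem_Ico, Finset.coe_Ico, Set.mem_Ico] at h ⊢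
      omega
    · intro j h
      simp only [Finset.mem_Ico, Finset.coe_Ico, Set.mem_Ico] at h ⊢
      omega
    · intro j h
      simp only [Finset.mem_Ico, Finset.coe_Ico, Set.mem_Ico] at h
      rw [← hj _ (by omega) (by omega), d.Psi_opp hζ (by omega), ← hopp _ (by omega),
        show 2 * M₀ - (2 * M₀ - j) = j by omega]
  rw [hupper, Finset.sum_congr rfl fun j hjm => by
    rw [hj j (Finset.mem_Ico.1 hjm).1 (Finset.mem_Ico.1 hjm).2,
      hterm j (by have := (Finset.mem_Ico.1 hjm).2; omega)]]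
  simp only [mul_add, Finset.sum_add_distrib]
  ring

theorem sum_root_pairs {i : ℕ} (h0 : 0 < i) (h1 : i < 2 * M₀) :
    ∑ j ∈ Finset.Ico 1 M₀, ((ζ ^ (j * i))⁻¹ + ζ ^ (j * i)) = -1 - (-1) ^ i := by
  haveI := Fintype.ofFinite d.V
  have h := d.Favg_of_table hζ
    (Char.IsCharacter.isClassFunction (Char.irr_isCharacter (Char.trivialChar G))) h0 h1 1
    (fun _ => 1) (fun j hj hj' => d.classInner_Psi_trivial hζ hj hj'.le)
    (d.classInner_Psi_trivial hζ d.hM0 le_rfl)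
  have e : d.Favg (Char.trivialChar G).1 i = 1 := by
    simp only [Favg, Char.trivialChar_apply, map_one, Finset.sum_const, Finset.card_univ,
      nsmul_eq_mul, mul_one, ← Nat.card_eq_fintype_card]
    exact inv_mul_cancel₀ Char.card_ne_zero
  rw [e] at h
  simp only [one_mul] at h
  linear_combination h

end Core

end Cfsg.Agent.DihedralBlock
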