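import Cfsg.Agent.Lib.DihedralBlock.Induced

/-!
# The family of generalized characters induced from `1 - μ^j` on `V⟨σ⟩`

Their inner products, and the recovery of the averaged values on the rotations from the
multiplicities.
-/

set_option autoImplicit false
set_option linter.style.haveILetI false
set_option linter.unusedSectionVars false

namespace Cfsg.Agent.DihedralBlock

open Cfsg
open scoped ComplexConjugate

universe u

variable {G : Type u} [Group G] [Fintype G] {σ τ : G} {M₀ : ℕ}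

namespace Core

variable (d : Core σ τ M₀) {ζ : ℂ} (hζ : IsPrimitiveRoot ζ (2 * M₀))
include d hζ

theorem exists_mu : ∃ μ : d.K →* ℂ,
    ∀ (v : G) (hv : v ∈ d.V) (i : ℕ), μ ⟨v * σ ^ i, d.mul_pow_mem_K hv i⟩ = ζ ^ i := by
  haveI : NeZero (2 * M₀) := ⟨by have := d.hM0; omega⟩
  obtain ⟨a, -, ha⟩ := d.isPrimitiveRoot_zeta.eq_pow_of_pow_eq_one hζ.pow_eq_one
  refine ⟨(powMonoidHom a).comp d.lam, fun v hv i => ?_⟩
  rw [MonoidHom.comp_apply, powMonoidHom_apply, d.lam_apply hv rfl, ← pow_mul, mul_comm, pow_mul, ha]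

/-- The linear character with `v σ^i ↦ ζ^i`. -/
noncomputable def mu : d.K →* ℂ := (d.exists_mu hζ).choose

theorem mu_apply {k : d.K} {v : G} (hv : v ∈ d.V) {i : ℕ} (h : (k : G) = v * σ ^ i) :
    d.mu hζ k = ζ ^ i := by
  rw [← (d.exists_mu hζ).choose_spec v hv i]
  exact congrArg _ (Subtype.ext h)

omit d in
theorem root_pow_congr {i j : ℕ} (h : i ≡ j [MOD 2 * M₀]) : ζ ^ i = ζ ^ j := by
  have key : ∀ a, ζ ^ a = ζ ^ (a % (2 * M₀)) := fun a => by
    conv_lhs => rw [← Nat.div_add_mod a (2 * M₀), pow_add, pow_mul,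
      hζ.pow_eq_one, one_pow, one_mul]
  rw [key i, key j, h]

theorem root_ne_zero : ζ ≠ 0 := hζ.ne_zero (by have := d.hM0; omega)

theorem conj_root : conj ζ = ζ⁻¹ :=
  (Complex.inv_eq_conj (hζ.norm'_eq_one (by have := d.hM0; omega))).symm

theorem root_pow_M : ζ ^ M₀ = -1 :=
  (hζ.pow (by have := d.hM0; omega) (mul_comm 2 M₀)).eq_neg_one_of_two_right

/-- Geometric sums. -/
theorem sum_root_pow (e : ℕ) :
    ∑ i : Fin (2 * M₀), (ζ ^ e) ^ (i : ℕ) = if 2 * M₀ ∣ e then ((2 * M₀ : ℕ) : ℂ) else 0 := by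
  split_ifs with h
  · obtain ⟨c, rfl⟩ := h
    rw [pow_mul, hζ.pow_eq_one, one_pow]
    simp
  · have hne : ζ ^ e ≠ 1 := fun h1 => h (hζ.pow_eq_one_iff_dvd e |>.1 h1)
    rw [Fin.sum_univ_eq_sum_range fun i => (ζ ^ e) ^ i, geom_sum_eq hne, ← pow_mul, mul_comm,
      pow_mul, hζ.pow_eq_one, one_pow, sub_self, zero_div]

theorem inv_root_pow {b : ℕ} (hb : b ≤ 2 * M₀) : (ζ ^ b)⁻¹ = ζ ^ (2 * M₀ - b) := by
  refine inv_eq_of_mul_eq_one_right ?_
  rw [← pow_add, Nat.add_sub_cancel' hb, hζ.pow_eq_one]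

/-- `1 - μ^j`. -/
noncomputable def wtJ (j : ℕ) (k : d.K) : ℂ := 1 - d.mu hζ k ^ j

/-- The induced generalized characters. -/
noncomputable def Psi (j : ℕ) : G → ℂ := indFun d.K (d.wtJ hζ j)

theorem isGeneralized_Psi (j : ℕ) : IsGeneralizedCharacter G (d.Psi hζ j) :=
  Char.isGeneralizedCharacter_indFun d.K
    ⟨fun _ => 1, fun k => ((powMonoidHom j).comp (d.mu hζ)) k, Char.isCharacter_one,
      Char.IsIrrCharacter.isCharacter (Char.isIrrCharacter_of_monoidHom _), rfl⟩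

theorem extend_wtJ_mul_pow {v : G} (hv : v ∈ d.V) (i j : ℕ) :
    extendByZero d.K (d.wtJ hζ j) (v * σ ^ i) = 1 - (ζ ^ j) ^ i := by
  rw [Char.extendByZero_of_mem _ _ (d.mul_pow_mem_K hv i), wtJ, d.mu_apply hζ hv rfl, ← pow_mul,
    ← pow_mul, mul_comm]

theorem conjTau_mem_K {y : G} (hy : y ∈ d.K) : τ * y * τ⁻¹ ∈ d.K := by
  obtain ⟨v, hv, i, rfl⟩ := hy
  obtain ⟨w, hw, he⟩ := d.conj_tau hv i
  obtain ⟨m, hm⟩ := d.exists_pow_inv i
  exact ⟨w, hw, m, by rw [he, hm]⟩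

theorem extend_wtJ_conjTau (j : ℕ) {v : G} (hv : v ∈ d.V) (i : ℕ) :
    extendByZero d.K (d.wtJ hζ j) (τ * (v * σ ^ i) * τ⁻¹) = 1 - ((ζ ^ j) ^ i)⁻¹ := by
  obtain ⟨w, hw, he⟩ := d.conj_tau hv i
  obtain ⟨m, hm⟩ := d.exists_pow_inv i
  rw [he, ← hm, d.extend_wtJ_mul_pow hζ hw]
  congr 1
  refine eq_inv_of_mul_eq_one_right ?_
  rw [← pow_add, ← pow_mul, mul_comm, pow_mul]
  have h1 : i + m ≡ 0 [MOD orderOf σ] :=
    pow_eq_pow_iff_modEq.1 (by rw [pow_add, hm, mul_inv_cancel, pow_zero])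
  rw [d.hord] at h1
  rw [root_pow_congr hζ h1, pow_zero, one_pow]

/-- Opposite exponents give the same induced character. -/
theorem Psi_opp {j : ℕ} (hj : j ≤ 2 * M₀) : d.Psi hζ (2 * M₀ - j) = d.Psi hζ j := by
  have key : ∀ y : G, extendByZero d.K (d.wtJ hζ (2 * M₀ - j)) y =
      extendByZero d.K (d.wtJ hζ j) (τ * y * τ⁻¹) := by
    intro y
    by_cases hy : y ∈ d.K
    · obtain ⟨v, hv, i, rfl⟩ := hy
      rw [d.extend_wtJ_mul_pow hζ hv, d.extend_wtJ_conjTau hζ j hv, ← d.inv_root_pow hζ hj, inv_pow]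
    · rw [Char.extendByZero_of_notMem _ _ hy, Char.extendByZero_of_notMem]
      intro h
      refine hy ?_
      have h2 := d.conjTau_mem_K hζ h
      rw [d.tinv] at h2
      simpa [mul_assoc, ← mul_assoc τ τ, d.tsq] using h2
  funext g
  simp only [Psi, indFun]
  congr 1
  refine Fintype.sum_equiv (Equiv.mulRight τ⁻¹) _ _ fun x => ?_
  rw [key, Equiv.coe_mulRight]
  congr 1
  group

/-- Values on rotations off `V`. -/
theorem Psi_apply (j : ℕ) {v : G} (hv : v ∈ d.V) {i : ℕ} (hi : σ ^ i ≠ 1) :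
    d.Psi hζ j (v * σ ^ i) = 2 - (ζ ^ j) ^ i - ((ζ ^ j) ^ i)⁻¹ := by
  classical
  haveI := Fintype.ofFinite d.K
  have hK : v * σ ^ i ∈ d.K := d.mul_pow_mem_K hv i
  have hsupp : ∀ x : G, x⁻¹ * (v * σ ^ i) * x ∈ d.K → x ∈ d.K ∨ x * τ ∈ d.K := by
    intro x hx
    rcases d.centralizer_cases (d.commute_of_conj_mem hv hi hx) with h | ⟨k, hk, rfl⟩
    · exact Or.inl h
    · refine Or.inr ?_
      rwa [mul_assoc, d.tsq, mul_one]
  have hinK : ∀ k : d.K,
      extendByZero d.K (d.wtJ hζ j) ((k : G)⁻¹ * (v * σ ^ i) * k) = 1 - (ζ ^ j) ^ i := by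
    intro k
    have hmem : (k : G)⁻¹ * (v * σ ^ i) * k ∈ d.K := mul_mem (mul_mem (inv_mem k.2) hK) k.2
    rw [Char.extendByZero_of_mem _ _ hmem, wtJ,
      show (⟨_, hmem⟩ : d.K) = k⁻¹ * ⟨v * σ ^ i, hK⟩ * k from Subtype.ext rfl, map_mul, map_mul,
      mul_comm (d.mu hζ k⁻¹), mul_assoc, ← map_mul, inv_mul_cancel, map_one, mul_one,
      d.mu_apply hζ hv rfl, ← pow_mul, ← pow_mul, mul_comm]
  have hinKt : ∀ k : d.K,
      extendByZero d.K (d.wtJ hζ j) (((k : G) * τ)⁻¹ * (v * σ ^ i) * ((k : G) * τ)) =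
        1 - ((ζ ^ j) ^ i)⁻¹ := by
    intro k
    have hmem : (k : G)⁻¹ * (v * σ ^ i) * k ∈ d.K := mul_mem (mul_mem (inv_mem k.2) hK) k.2
    obtain ⟨w, hw, l, hl⟩ := id hmem
    have h1 := hinK k
    rw [hl, d.extend_wtJ_mul_pow hζ hw] at h1
    rw [← sub_right_injective h1, ← d.extend_wtJ_conjTau hζ j hw, ← hl, d.tinv, mul_inv_rev, d.tinv]
    simp only [mul_assoc]
  have hsum : ∑ x : G, extendByZero d.K (d.wtJ hζ j) (x⁻¹ * (v * σ ^ i) * x) =
      ∑ k : d.K, extendByZero d.K (d.wtJ hζ j) ((k : G)⁻¹ * (v * σ ^ i) * k) +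
        ∑ k : d.K, extendByZero d.K (d.wtJ hζ j)
          (((k : G) * τ)⁻¹ * (v * σ ^ i) * ((k : G) * τ)) := by
    refine Eq.trans ?_ (Fintype.sum_sum_type (Sum.elim
      (fun k : d.K => extendByZero d.K (d.wtJ hζ j) ((k : G)⁻¹ * (v * σ ^ i) * k))
      (fun k : d.K => extendByZero d.K (d.wtJ hζ j)
        (((k : G) * τ)⁻¹ * (v * σ ^ i) * ((k : G) * τ)))))
    refine Eq.symm (Finset.sum_bij_ne_zero
      (fun s _ _ => Sum.elim (fun k : d.K => (k : G)) (fun k : d.K => (k : G) * τ) s)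
      (fun _ _ _ => Finset.mem_univ _) ?_ ?_ ?_)
    · intro a _ _ b _ _ h
      rcases a with a | a <;> rcases b with b | b <;> simp only [Sum.elim_inl, Sum.elim_inr] at h
      · exact congrArg Sum.inl (Subtype.ext h)
      · exact absurd (h ▸ a.2) (d.mul_tau_notin_K b.2)
      · exact absurd (h.symm ▸ b.2) (d.mul_tau_notin_K a.2)
      · exact congrArg Sum.inr (Subtype.ext (mul_right_cancel h))
    · intro x _ hne
      have hx : x⁻¹ * (v * σ ^ i) * x ∈ d.K := by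
        by_contra h; exact hne (Char.extendByZero_of_notMem _ _ h)
      rcases hsupp x hx with h | h
      · exact ⟨Sum.inl ⟨x, h⟩, Finset.mem_univ _, hne, rfl⟩
      · refine ⟨Sum.inr ⟨x * τ, h⟩, Finset.mem_univ _, ?_, ?_⟩
        · show extendByZero d.K (d.wtJ hζ j) ((x * τ * τ)⁻¹ * (v * σ ^ i) * (x * τ * τ)) ≠ 0
          rw [mul_assoc x, d.tsq, mul_one]; exact hne
        · simp [mul_assoc, d.tsq]
    · intro s _ _
      rcases s with s | s <;> rfl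
  have hcK : (Nat.card d.K : ℂ) ≠ 0 := Char.card_ne_zero
  rw [Psi, indFun, hsum, Finset.sum_congr rfl fun k _ => hinK k,
    Finset.sum_congr rfl fun k _ => hinKt k, Finset.sum_const, Finset.sum_const, Finset.card_univ,
    ← Nat.card_eq_fintype_card, nsmul_eq_mul, nsmul_eq_mul, ← mul_add, inv_mul_cancel_left₀ hcK]
  ring

/-- The average over `V` of the conjugate values at a rotation. -/
noncomputable def Favg [Fintype d.V] (χ : G → ℂ) (i : ℕ) : ℂ :=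
  (Nat.card d.V : ℂ)⁻¹ * ∑ v : d.V, conj (χ ((v : G) * σ ^ i))

theorem classInner_Psi (j : ℕ) [Fintype d.V] {χ : G → ℂ} (hχ : IsClassFunction G χ) :
    classInner (d.Psi hζ j) χ = ((2 * M₀ : ℕ) : ℂ)⁻¹ *
      ∑ i : Fin (2 * M₀), (1 - (ζ ^ j) ^ (i : ℕ)) * d.Favg χ i := by
  classical
  haveI := Fintype.ofFinite d.K
  rw [Psi, Char.classInner_indFun d.K _ hχ, classInner, Finset.mul_sum, Finset.mul_sum]
  refine Eq.trans (Finset.sum_congr rfl fun k _ => ?_)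
    ((d.sum_K fun g => (Nat.card d.K : ℂ)⁻¹ *
      (extendByZero d.K (d.wtJ hζ j) g * conj (χ g))).trans ?_)
  · rw [Char.extendByZero_coe]
  · refine Finset.sum_congr rfl fun i _ => ?_
    rw [Favg, d.card_K, Finset.mul_sum, Finset.mul_sum, Finset.mul_sum]
    refine Finset.sum_congr rfl fun v _ => ?_
    rw [d.extend_wtJ_mul_pow hζ v.2]
    push_cast
    rw [mul_inv]
    ring

theorem Favg_Psi (b : ℕ) [Fintype d.V] {i : ℕ} (hi : σ ^ i ≠ 1) :
    d.Favg (d.Psi hζ b) i = 2 - (ζ ^ b) ^ i - ((ζ ^ b) ^ i)⁻¹ := by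
  have hz : (ζ ^ b) ^ i ≠ 0 := pow_ne_zero _ (pow_ne_zero _ (d.root_ne_zero hζ))
  rw [Favg, Finset.sum_congr rfl fun v _ => by rw [d.Psi_apply hζ b v.2 hi], Finset.sum_const,
    Finset.card_univ, nsmul_eq_mul, ← Nat.card_eq_fintype_card,
    inv_mul_cancel_left₀ Char.card_ne_zero, map_sub, map_sub, map_inv₀,
    show conj (2 : ℂ) = 2 from map_ofNat _ 2]
  rw [map_pow, map_pow, d.conj_root hζ, inv_pow, inv_pow, inv_inv]
  ring

theorem pow_ne_one {i : ℕ} (h0 : 0 < i) (h1 : i < 2 * M₀) : σ ^ i ≠ 1 := fun h => by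
  have h2 := Nat.le_of_dvd h0 (orderOf_dvd_of_pow_eq_one h)
  rw [d.hord] at h2
  omega

/-- Inner products within the family. -/
theorem classInner_Psi_Psi {a b : ℕ} (ha : 1 ≤ a) (ha' : a ≤ M₀) (hb : 1 ≤ b) (hb' : b ≤ M₀) :
    classInner (d.Psi hζ a) (d.Psi hζ b) =
      if a = b then (if a = M₀ then 4 else 3) else 2 := by
  classical
  haveI := Fintype.ofFinite d.V
  have hM0 := d.hM0
  rw [d.classInner_Psi hζ a (show IsClassFunction G (d.Psi hζ b) from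
      Char.isClassFunction_indFun _ _),
    Finset.sum_congr rfl (g := fun i : Fin (2 * M₀) => (2 : ℂ) * (ζ ^ 0) ^ (i : ℕ)
      - (ζ ^ b) ^ (i : ℕ) - (ζ ^ (2 * M₀ - b)) ^ (i : ℕ) - 2 * (ζ ^ a) ^ (i : ℕ)
      + (ζ ^ (a + b)) ^ (i : ℕ) + (ζ ^ (a + (2 * M₀ - b))) ^ (i : ℕ)) fun i _ => ?_]
  · have h1 : ¬ 2 * M₀ ∣ b := fun h => by have := Nat.le_of_dvd (by omega) h; omega
    have h2 : ¬ 2 * M₀ ∣ 2 * M₀ - b := fun h => by have := Nat.le_of_dvd (by omega) h; omega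
    have h3 : ¬ 2 * M₀ ∣ a := fun h => by have := Nat.le_of_dvd (by omega) h; omega
    have h4 : 2 * M₀ ∣ a + b ↔ a = M₀ ∧ b = M₀ :=
      ⟨fun h => by have := Nat.le_of_dvd (by omega) h; omega, fun h => ⟨1, by omega⟩⟩
    have h5 : 2 * M₀ ∣ a + (2 * M₀ - b) ↔ a = b := by
      refine ⟨fun h => ?_, fun h => ⟨1, by omega⟩⟩
      obtain ⟨c, hc⟩ := h
      rcases c with _ | _ | c
      · omega
      · omega
      · have : 2 * M₀ * 2 ≤ 2 * M₀ * (c + 1 + 1) := Nat.mul_le_mul_left _ (by omega)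
        omega
    simp only [Finset.sum_add_distrib, Finset.sum_sub_distrib, ← Finset.mul_sum,
      d.sum_root_pow hζ, h4, h5, if_neg h1, if_neg h2, if_neg h3, dvd_zero, if_true]
    have hne : ((2 * M₀ : ℕ) : ℂ) ≠ 0 := Nat.cast_ne_zero.2 (by omega)
    by_cases hab : a = b
    · subst hab
      simp only [and_self, if_true]
      split_ifs <;> field_simp <;> ring
    · rw [if_neg hab, if_neg (fun h => hab (h.1.trans h.2.symm)), if_neg hab]
      field_simp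
      ring
  · rcases Nat.eq_zero_or_pos (i : ℕ) with h | h
    · simp [h]
      ring
    · rw [d.Favg_Psi hζ b (d.pow_ne_one hζ h i.2), ← inv_pow (ζ ^ b),
        d.inv_root_pow hζ (show b ≤ 2 * M₀ by omega)]
      simp only [← pow_mul, zero_mul, pow_zero, mul_one, add_mul, pow_add]
      ring

/-- The averages are recovered from the multiplicities. -/
theorem Favg_eq_neg_sum [Fintype d.V] {χ : G → ℂ} (hχ : IsClassFunction G χ) {i : ℕ}
    (h0 : 0 < i) (h1 : i < 2 * M₀) :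
    d.Favg χ i = -∑ j : Fin (2 * M₀),
      classInner (d.Psi hζ j) χ * (ζ ^ (j : ℕ)) ^ (2 * M₀ - i) := by
  classical
  simp only [d.classInner_Psi hζ _ hχ, Finset.mul_sum, Finset.sum_mul]
  rw [Finset.sum_comm]
  have hterm : ∀ l : Fin (2 * M₀), ∑ j : Fin (2 * M₀),
      ((2 * M₀ : ℕ) : ℂ)⁻¹ * ((1 - (ζ ^ (j : ℕ)) ^ (l : ℕ)) * d.Favg χ l) *
        (ζ ^ (j : ℕ)) ^ (2 * M₀ - i) =
      if (l : ℕ) = i then -d.Favg χ l else 0 := by
    intro l
    have e : ∀ j : Fin (2 * M₀), ((2 * M₀ : ℕ) : ℂ)⁻¹ * ((1 - (ζ ^ (j : ℕ)) ^ (l : ℕ)) *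
        d.Favg χ l) * (ζ ^ (j : ℕ)) ^ (2 * M₀ - i) =
      ((2 * M₀ : ℕ) : ℂ)⁻¹ * d.Favg χ l *
        ((ζ ^ (2 * M₀ - i)) ^ (j : ℕ) - (ζ ^ ((l : ℕ) + (2 * M₀ - i))) ^ (j : ℕ)) := by
      intro j
      simp only [← pow_mul, mul_comm _ (j : ℕ), mul_add, pow_add]
      ring
    rw [Finset.sum_congr rfl fun j _ => e j, ← Finset.mul_sum, Finset.sum_sub_distrib,
      d.sum_root_pow hζ, d.sum_root_pow hζ,
      if_neg (fun h => by have := Nat.le_of_dvd (by omega) h; omega)]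
    have h5 : 2 * M₀ ∣ (l : ℕ) + (2 * M₀ - i) ↔ (l : ℕ) = i := by
      refine ⟨fun h => ?_, fun h => ⟨1, by omega⟩⟩
      obtain ⟨c, hc⟩ := h
      have := l.2
      rcases c with _ | _ | c
      · omega
      · omega
      · have : 2 * M₀ * 2 ≤ 2 * M₀ * (c + 1 + 1) := Nat.mul_le_mul_left _ (by omega)
        omega
    simp only [h5]
    have hne : ((2 * M₀ : ℕ) : ℂ) ≠ 0 := Nat.cast_ne_zero.2 (by omega)
    split_ifs
    · field_simp
      ring
    · ring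
  rw [Finset.sum_congr rfl fun l _ => hterm l,
    Finset.sum_eq_single (⟨i, h1⟩ : Fin (2 * M₀)) (fun l _ hl => if_neg fun h => hl (Fin.ext h))
      (fun h => absurd (Finset.mem_univ _) h), if_pos rfl, neg_neg]

end Core

end Cfsg.Agent.DihedralBlock
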