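import Cfsg.Agent.Lib.DihedralBlock.Rotation
import Cfsg.Agent.Lib.ZStar.SectionAverage
import Cfsg.Agent.Lib.ZStar.SecondMain

/-!
# The generalized character induced from `1 - λ` on `V⟨σ⟩`

Its values on the rotations, its norm, and its multiplicities at characters of the principal block.
-/

set_option autoImplicit false
set_option linter.style.haveILetI false
set_option linter.unusedSectionVars false

namespace Cfsg.Agent.DihedralBlock

open Cfsg
open scoped ComplexConjugate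

universe u

variable {G : Type u} [Group G] [Fintype G] {σ τ : G} {M₀ : ℕ}

namespace Core

variable (d : Core σ τ M₀)
include d

/-- `1 - λ`. -/
noncomputable def wt (k : d.K) : ℂ := 1 - d.lam k

/-- The induced generalized character. -/
noncomputable def Phi : G → ℂ := indFun d.K d.wt

theorem isGeneralized_Phi : IsGeneralizedCharacter G d.Phi :=
  Char.isGeneralizedCharacter_indFun d.K
    ⟨fun _ => 1, fun k => d.lam k, Char.isCharacter_one,
      Char.IsIrrCharacter.isCharacter (Char.isIrrCharacter_of_monoidHom d.lam), rfl⟩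

theorem Phi_one : d.Phi 1 = 0 := by
  rw [Phi, Char.indFun_apply_one, wt, map_one, sub_self, mul_zero]

theorem wt_mul_pow {v : G} (hv : v ∈ d.V) (i : ℕ) :
    d.wt ⟨v * σ ^ i, d.mul_pow_mem_K hv i⟩ = 1 - d.zeta ^ i := by
  rw [wt, d.lam_apply hv rfl]

theorem extend_wt_mul_pow {v : G} (hv : v ∈ d.V) (i : ℕ) :
    extendByZero d.K d.wt (v * σ ^ i) = 1 - d.zeta ^ i := by
  rw [Char.extendByZero_of_mem _ _ (d.mul_pow_mem_K hv i), d.wt_mul_pow hv]

/-- Conjugates in `K` of a rotation off `V` are conjugates under `C(J)`. -/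
theorem commute_of_conj_mem {v : G} (hv : v ∈ d.V) {i : ℕ} (hi : σ ^ i ≠ 1) {x : G}
    (hx : x⁻¹ * (v * σ ^ i) * x ∈ d.K) : Commute (σ ^ M₀) x := by
  obtain ⟨e, he⟩ := d.exists_pow_eq_J hv hi
  have h1 : x⁻¹ * σ ^ M₀ * x ∈ d.K := by
    have h2 := conj_pow (i := e) (a := x⁻¹) (b := v * σ ^ i)
    rw [inv_inv, he] at h2
    rw [← h2]
    exact pow_mem hx e
  have h2 : x⁻¹ * σ ^ M₀ * x * (x⁻¹ * σ ^ M₀ * x) = 1 := by
    calc _ = x⁻¹ * (σ ^ M₀ * σ ^ M₀) * x := by group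
      _ = 1 := by rw [d.J_sq]; group
  have h3 : x⁻¹ * σ ^ M₀ * x ≠ 1 := fun h => d.J_ne_one (by
    calc σ ^ M₀ = x * (x⁻¹ * σ ^ M₀ * x) * x⁻¹ := by group
      _ = 1 := by rw [h]; group)
  have h4 := d.eq_J_of_invol h1 h2 h3
  show σ ^ M₀ * x = x * σ ^ M₀
  conv_rhs => rw [← h4]
  group

/-- Values of `Phi` on rotations off `V`. -/
theorem Phi_apply {v : G} (hv : v ∈ d.V) {i : ℕ} (hi : σ ^ i ≠ 1) :
    d.Phi (v * σ ^ i) = 2 - d.zeta ^ i - (d.zeta ^ i)⁻¹ := by
  classical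
  haveI := Fintype.ofFinite d.K
  have hK : v * σ ^ i ∈ d.K := d.mul_pow_mem_K hv i
  have hsupp : ∀ x : G, x⁻¹ * (v * σ ^ i) * x ∈ d.K → x ∈ d.K ∨ x * τ ∈ d.K := by
    intro x hx
    rcases d.centralizer_cases (d.commute_of_conj_mem hv hi hx) with h | ⟨k, hk, rfl⟩
    · exact Or.inl h
    · refine Or.inr ?_
      rwa [mul_assoc, d.tsq, mul_one]
  have hinK : ∀ k : d.K, extendByZero d.K d.wt ((k : G)⁻¹ * (v * σ ^ i) * k) = 1 - d.zeta ^ i := by
    intro k
    have hmem : (k : G)⁻¹ * (v * σ ^ i) * k ∈ d.K := mul_mem (mul_mem (inv_mem k.2) hK) k.2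
    rw [Char.extendByZero_of_mem _ _ hmem, wt,
      show (⟨_, hmem⟩ : d.K) = k⁻¹ * ⟨v * σ ^ i, hK⟩ * k from Subtype.ext rfl, map_mul, map_mul,
      mul_comm (d.lam k⁻¹), mul_assoc, ← map_mul, inv_mul_cancel, map_one, mul_one,
      d.lam_apply hv rfl]
  have hinKt : ∀ k : d.K,
      extendByZero d.K d.wt (((k : G) * τ)⁻¹ * (v * σ ^ i) * ((k : G) * τ)) =
        1 - (d.zeta ^ i)⁻¹ := by
    intro k
    have hmem : (k : G)⁻¹ * (v * σ ^ i) * k ∈ d.K := mul_mem (mul_mem (inv_mem k.2) hK) k.2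
    obtain ⟨w, hw, j, hj⟩ := id hmem
    obtain ⟨w', hw', he⟩ := d.conj_tau hw j
    obtain ⟨m, hm⟩ := d.exists_pow_inv j
    have e : ((k : G) * τ)⁻¹ * (v * σ ^ i) * ((k : G) * τ) = w' * σ ^ m := by
      rw [hm, ← he, ← hj, d.tinv, mul_inv_rev, d.tinv]
      simp only [mul_assoc]
    rw [e, d.extend_wt_mul_pow hw' m]
    have hj' : d.zeta ^ j = d.zeta ^ i := by
      have h1 := hinK k
      rw [hj, d.extend_wt_mul_pow hw j] at h1
      exact sub_right_injective h1
    have h0 : d.zeta ^ (j + m) = 1 := by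
      rw [← pow_zero d.zeta]
      refine d.zeta_pow_congr ?_
      rw [← d.hord]
      refine pow_eq_pow_iff_modEq.1 ?_
      rw [pow_add, hm, mul_inv_cancel, pow_zero]
    rw [← hj', pow_add] at *
    rw [eq_inv_of_mul_eq_one_right h0]
  have hsum : ∑ x : G, extendByZero d.K d.wt (x⁻¹ * (v * σ ^ i) * x) =
      ∑ k : d.K, extendByZero d.K d.wt ((k : G)⁻¹ * (v * σ ^ i) * k) +
        ∑ k : d.K, extendByZero d.K d.wt (((k : G) * τ)⁻¹ * (v * σ ^ i) * ((k : G) * τ)) := by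
    refine Eq.trans ?_ (Fintype.sum_sum_type (Sum.elim
      (fun k : d.K => extendByZero d.K d.wt ((k : G)⁻¹ * (v * σ ^ i) * k))
      (fun k : d.K => extendByZero d.K d.wt (((k : G) * τ)⁻¹ * (v * σ ^ i) * ((k : G) * τ)))))
    refine Eq.symm (Finset.sum_bij_ne_zero
      (fun s _ _ => Sum.elim (fun k : d.K => (k : G)) (fun k : d.K => (k : G) * τ) s)
      (fun _ _ _ => Finset.mem_univ _) ?_ ?_ ?_)
    · intro a _ _ b _ _ h
      rcases a with a | a <;> rcases b with b | b <;> simp only [Sum.elim_inl, Sum.elim_inr] at h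
      · exact congrArg Sum.inl (Subtype.ext h)
      · exact absurd (h ▸ a.2) (d.mul_tau_notin_K b.2)
      · exact absurd (h.symm ▸ b.2) (d.mul_tau_notin_K a.2)
      · exact congrArg Sum.inr (Subtype.ext (mul_right_cancel h))
    · intro x _ hne
      have hx : x⁻¹ * (v * σ ^ i) * x ∈ d.K := by
        by_contra h; exact hne (Char.extendByZero_of_notMem _ _ h)
      rcases hsupp x hx with h | h
      · exact ⟨Sum.inl ⟨x, h⟩, Finset.mem_univ _, hne, rfl⟩
      · refine ⟨Sum.inr ⟨x * τ, h⟩, Finset.mem_univ _, ?_, ?_⟩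
        · show extendByZero d.K d.wt ((x * τ * τ)⁻¹ * (v * σ ^ i) * (x * τ * τ)) ≠ 0
          rw [mul_assoc x, d.tsq, mul_one]; exact hne
        · simp [mul_assoc, d.tsq]
    · intro s _ _
      rcases s with s | s <;> rfl
  have hcK : (Nat.card d.K : ℂ) ≠ 0 := Char.card_ne_zero
  rw [Phi, indFun, hsum, Finset.sum_congr rfl fun k _ => hinK k,
    Finset.sum_congr rfl fun k _ => hinKt k, Finset.sum_const, Finset.sum_const, Finset.card_univ,
    ← Nat.card_eq_fintype_card, nsmul_eq_mul, nsmul_eq_mul, ← mul_add, inv_mul_cancel_left₀ hcK]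
  ring

theorem Phi_J : d.Phi (σ ^ M₀) = 4 := by
  have h := d.Phi_apply d.V.one_mem (i := M₀) d.J_ne_one
  rw [one_mul, d.zeta_pow_M] at h
  rw [h]
  norm_num

theorem classInner_Phi {χ : G → ℂ} (hχ : IsClassFunction G χ) [Fintype d.V] :
    classInner d.Phi χ = (Nat.card d.K : ℂ)⁻¹ *
      ∑ i : Fin (2 * M₀), (1 - d.zeta ^ (i : ℕ)) *
        ∑ v : d.V, conj (χ ((v : G) * σ ^ (i : ℕ))) := by
  classical
  haveI := Fintype.ofFinite d.K
  rw [Phi, Char.classInner_indFun d.K d.wt hχ, classInner]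
  congr 1
  refine Eq.trans (Finset.sum_congr rfl fun k _ => ?_)
    ((d.sum_K fun g => extendByZero d.K d.wt g * conj (χ g)).trans ?_)
  · rw [Char.extendByZero_coe]
  refine Finset.sum_congr rfl fun i _ => ?_
  rw [Finset.mul_sum]
  exact Finset.sum_congr rfl fun v _ => by rw [d.extend_wt_mul_pow v.2]

theorem norm_Phi : classInner d.Phi d.Phi = 3 := by
  classical
  haveI := Fintype.ofFinite d.V
  rw [d.classInner_Phi (show IsClassFunction G d.Phi from Char.isClassFunction_indFun _ _),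
    Finset.sum_congr rfl (g := fun i : Fin (2 * M₀) => (Nat.card d.V : ℂ) *
      (3 - 3 * d.zeta ^ (i : ℕ) + (d.zeta ^ (i : ℕ)) ^ 2 - (d.zeta ^ (i : ℕ))⁻¹)) fun i _ => ?_,
    ← Finset.mul_sum]
  · simp only [Finset.sum_sub_distrib, Finset.sum_add_distrib, ← Finset.mul_sum, d.sum_zeta_pow,
      d.sum_zeta_sq_pow, d.sum_zeta_inv_pow]
    rw [d.card_K]
    have h1 : (Nat.card d.V : ℂ) ≠ 0 := Char.card_ne_zero
    have h2 : (M₀ : ℂ) ≠ 0 := Nat.cast_ne_zero.2 d.hM0.ne'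
    simp only [Finset.sum_const, Finset.card_univ, Fintype.card_fin, nsmul_eq_mul]
    push_cast
    field_simp
    ring
  · have hz : d.zeta ^ (i : ℕ) ≠ 0 := pow_ne_zero _ d.zeta_ne_zero
    by_cases hi : σ ^ (i : ℕ) = 1
    · have h0 : d.zeta ^ (i : ℕ) = 1 := by
        rw [← pow_zero d.zeta]
        refine d.zeta_pow_congr ?_
        have h1 : (i : ℕ) ≡ 0 [MOD orderOf σ] := pow_eq_pow_iff_modEq.1 (by rw [hi, pow_zero])
        rwa [d.hord] at h1
      rw [h0]
      norm_num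
    · rw [Finset.sum_congr rfl fun v _ => by rw [d.Phi_apply v.2 hi], Finset.sum_const,
        Finset.card_univ, nsmul_eq_mul, ← Nat.card_eq_fintype_card, map_sub, map_sub, map_inv₀,
        map_pow, d.conj_zeta, show conj (2 : ℂ) = 2 from map_ofNat _ 2]
      simp only [inv_pow, inv_inv]
      field_simp
      ring

/-- A rotation off `V` sees a character of the principal block through its value. -/
theorem sum_coset_apply {M : Ideal AlgInt} (hM : IsPModular 2 M) [Fintype d.V]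
    (χ : IrrCharacter G) {i : ℕ} (hi : σ ^ i ≠ 1) :
    (χ ∈ principalBlock M G →
      ∑ v : d.V, χ.1 ((v : G) * σ ^ i) = (Nat.card d.V : ℂ) * χ.1 (σ ^ i)) ∧
    (χ ∉ principalBlock M G → ∑ v : d.V, χ.1 ((v : G) * σ ^ i) = 0) := by
  classical
  set CD := d.V ⊓ Subgroup.centralizer ({σ ^ i} : Set G) with hCDdef
  haveI := Fintype.ofFinite CD
  have hCD : ∀ c, c ∈ CD ↔ c ∈ d.V ∧ Commute c (σ ^ i) := fun c => by
    rw [hCDdef, Subgroup.mem_inf, Subgroup.mem_centralizer_singleton_iff]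
    exact Iff.rfl
  obtain ⟨k, hk⟩ := d.two_pow
  have hi2 : orderOf (σ ^ i) ∣ 2 ^ k := by
    rw [← hk]; exact orderOf_pow_dvd i
  have hk' : ∃ s, orderOf (σ ^ i) = 2 ^ s := by
    obtain ⟨s, -, hs⟩ := (Nat.dvd_prime_pow Nat.prime_two).1 hi2
    exact ⟨s, hs⟩
  have hco : (Nat.card d.V).Coprime (orderOf (σ ^ i)) :=
    ((Nat.coprime_two_right.2 d.oddV).pow_right k).coprime_dvd_right hi2
  have h := GlauCyclic.card_mul_sum_coset (fun v hv => d.norm_pow i hv) hco hCD χ.1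
    fun c _ x => Char.IsCharacter.isClassFunction (Char.irr_isCharacter χ) x c
  have hJC : ∀ v, Commute (σ ^ i) v → Commute (σ ^ M₀) v := by
    intro v hv
    obtain ⟨e, he⟩ := d.exists_pow_eq_J d.V.one_mem hi
    rw [one_mul] at he
    rw [← he]
    exact hv.pow_left e
  have hN : ∀ v, v ∈ CD ↔ Commute (σ ^ i) v ∧ Odd (orderOf v) := fun v => by
    rw [hCD]
    exact ⟨fun h => ⟨h.2.symm, d.odd_of_mem h.1⟩,
      fun h => ⟨(d.mem_V v).2 ⟨hJC v h.1, h.2⟩, h.1.symm⟩⟩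
  have hsec := ZStar.sum_oddCentralizing_apply ZStar.secondPrincipal hM hk' hN χ
  have hset : ∑ c : CD, χ.1 ((c : G) * σ ^ i) =
      ∑ v ∈ ZStar.oddCentralizing (σ ^ i), χ.1 (σ ^ i * v) := by
    refine Finset.sum_bij (fun c _ => (c : G)) (fun c _ => ?_) (fun a _ b _ h => Subtype.ext h)
      (fun v hv => ?_) fun c _ => ?_
    · rw [ZStar.mem_oddCentralizing]; exact (hN _).1 c.2
    · rw [ZStar.mem_oddCentralizing] at hv
      exact ⟨⟨v, (hN v).2 hv⟩, Finset.mem_univ _, rfl⟩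
    · rw [((hCD _).1 c.2).2.eq]
  have hcard : ((ZStar.oddCentralizing (σ ^ i)).card : ℂ) = Nat.card CD := by
    congr 1
    rw [Nat.card_eq_fintype_card]
    exact (Fintype.card_of_subtype _ fun v => by rw [ZStar.mem_oddCentralizing, hN]).symm
  rw [hset] at h
  refine ⟨fun hχ => ?_, fun hχ => ?_⟩
  · rw [hsec.1 hχ, hcard, ← mul_assoc, mul_comm (Nat.card d.V : ℂ), mul_assoc] at h
    exact mul_left_cancel₀ Char.card_ne_zero h
  · rw [hsec.2 hχ, mul_zero] at h
    exact (mul_eq_zero.1 h).resolve_left Char.card_ne_zero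

theorem sum_coset_principal {M : Ideal AlgInt} (hM : IsPModular 2 M) [Fintype d.V]
    {χ : IrrCharacter G} (hχ : χ ∈ principalBlock M G) {i : ℕ} (hi : σ ^ i ≠ 1) :
    ∑ v : d.V, χ.1 ((v : G) * σ ^ i) = (Nat.card d.V : ℂ) * χ.1 (σ ^ i) :=
  (d.sum_coset_apply hM χ hi).1 hχ

theorem classInner_Phi_principal {M : Ideal AlgInt} (hM : IsPModular 2 M) {χ : IrrCharacter G}
    (hχ : χ ∈ principalBlock M G) {δ : ℤ}
    (hval : ∀ l : ℕ, 0 < l → l < 2 * M₀ → χ.1 (σ ^ l) = δ) :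
    classInner d.Phi χ.1 = δ := by
  classical
  haveI := Fintype.ofFinite d.V
  rw [d.classInner_Phi (Char.IsCharacter.isClassFunction (Char.irr_isCharacter χ)),
    Finset.sum_congr rfl (g := fun i : Fin (2 * M₀) =>
      (1 - d.zeta ^ (i : ℕ)) * ((Nat.card d.V : ℂ) * δ)) fun i _ => ?_, ← Finset.sum_mul,
    Finset.sum_sub_distrib, d.sum_zeta_pow, Finset.sum_const, Finset.card_univ, Fintype.card_fin,
    nsmul_eq_mul, mul_one, sub_zero, d.card_K]
  · have h1 : (Nat.card d.V : ℂ) ≠ 0 := Char.card_ne_zero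
    have h2 : (M₀ : ℂ) ≠ 0 := Nat.cast_ne_zero.2 d.hM0.ne'
    push_cast
    field_simp
  · rcases Nat.eq_zero_or_pos (i : ℕ) with h | h
    · simp [h]
    · have hne : σ ^ (i : ℕ) ≠ 1 := fun h1 => by
        have h2 := Nat.le_of_dvd h (orderOf_dvd_of_pow_eq_one h1)
        rw [d.hord] at h2
        omega
      rw [← map_sum, d.sum_coset_principal hM hχ hne, hval _ h i.2, map_mul, map_natCast,
        map_intCast]

end Core

end Cfsg.Agent.DihedralBlock
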