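import Cfsg.Agent.Lib.DihedralBlock.Pairs
import Cfsg.Agent.Lib.Char.KernelSum

/-!
# The order formula for dihedral Sylow 2-subgroups and one class of involutions
-/

set_option autoImplicit false
set_option linter.style.haveILetI false
set_option linter.unusedSectionVars false

namespace Cfsg.Agent.DihedralBlock

open Cfsg
open scoped ComplexConjugate

universe u

variable {G : Type u} [Group G] [Fintype G] {σ τ : G} {M₀ : ℕ}

namespace Data

variable (d : Data σ τ M₀)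
include d

/-- The class structure read off the character table. -/
theorem sum_mult_eq :
    (Nat.card G : ℂ) * ∑ χ : IrrCharacter G,
        χ.1 (σ ^ M₀) * χ.1 (σ ^ M₀) * classInner d.Phi χ.1 / χ.1 1 =
      (Nat.card d.K : ℂ)⁻¹ *
        ((Nat.card (Subgroup.centralizer ({σ ^ M₀} : Set G)) : ℂ) ^ 2 *
          ((M₀ : ℂ) * ((d.num 0 : ℂ) + d.num 1)) ^ 2) := by
  classical
  haveI := Fintype.ofFinite d.K
  set J := σ ^ M₀
  rw [← d.sum_pairs]
  have h1 : ∑ p : G × G, extendByZero d.K d.wt (p.1 * J * p.1⁻¹ * (p.2 * J * p.2⁻¹)) =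
      ∑ k : d.K, d.wt k *
        (Nat.card {p : G × G // p.1 * J * p.1⁻¹ * (p.2 * J * p.2⁻¹) = (k : G)} : ℂ) := by
    rw [← Finset.sum_fiberwise Finset.univ (fun p : G × G => p.1 * J * p.1⁻¹ * (p.2 * J * p.2⁻¹))]
    rw [Finset.sum_congr rfl (g := fun x : G => extendByZero d.K d.wt x *
      (Nat.card {p : G × G // p.1 * J * p.1⁻¹ * (p.2 * J * p.2⁻¹) = x} : ℂ)) fun x _ => ?_,
      Char.sum_extendByZero_mul d.K d.wt fun x =>
        (Nat.card {p : G × G // p.1 * J * p.1⁻¹ * (p.2 * J * p.2⁻¹) = x} : ℂ)]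
    rw [Finset.sum_congr rfl fun p hp => congrArg (extendByZero d.K d.wt) (Finset.mem_filter.1 hp).2,
      Finset.sum_const, nsmul_eq_mul, mul_comm, Nat.card_eq_fintype_card, Fintype.card_subtype]
  rw [h1]
  simp only [Char.card_conj_mul_conj_eq]
  rw [Finset.mul_sum, Finset.mul_sum]
  simp only [Finset.mul_sum]
  rw [Finset.sum_comm]
  refine Finset.sum_congr rfl fun χ _ => ?_
  rw [Core.Phi, Char.classInner_indFun d.K d.wt (Char.IsCharacter.isClassFunction (Char.irr_isCharacter χ)),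
    classInner, Finset.mul_sum, Finset.mul_sum, Finset.sum_div, Finset.mul_sum]
  refine Finset.sum_congr rfl fun k _ => ?_
  rw [Char.IsCharacter.conj_apply (Char.irr_isCharacter χ)]
  ring

/-- The order formula. -/
theorem order_formula {M : Ideal AlgInt} (hM : IsPModular 2 M) {χ₁ : IrrCharacter G}
    (hχ₁ : χ₁ ∈ principalBlock M G) (h1 : (χ₁ : G → ℂ) ≠ fun _ => 1) {δ : ℤ}
    (hδ : δ = 1 ∨ δ = -1) (hval : ∀ l : ℕ, 0 < l → l < 2 * M₀ → χ₁.1 (σ ^ l) = δ) :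
    (charDegree χ₁.1 : ℂ) ≠ δ ∧
      (Nat.card G : ℂ) * ((charDegree χ₁.1 : ℂ) - δ) ^ 2 =
        2 * (charDegree χ₁.1 : ℂ) * ((charDegree χ₁.1 : ℂ) + δ) *
          (Nat.card (Subgroup.centralizer ({σ ^ M₀} : Set G)) : ℂ) ^ 3 *
          (1 / (Nat.card (Subgroup.centralizer ({σ ^ M₀, τ} : Set G)) : ℂ) +
            1 / (Nat.card (Subgroup.centralizer ({σ ^ M₀, σ * τ} : Set G)) : ℂ)) ^ 2 := by
  classical
  obtain ⟨m, hm, hinner⟩ := Char.IsGeneralizedCharacter.exists_decomp d.isGeneralized_Phi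
  have hmt : m (Char.trivialChar G) = 1 := by
    haveI := hM.2.1
    have h := d.classInner_Phi_principal hM (χ := Char.trivialChar G)
      (Blocks.sameBlock_refl _) (δ := 1) (fun l _ _ => by simp)
    rw [hinner] at h; exact_mod_cast h
  have hm1 : m χ₁ = δ := by
    have h := d.classInner_Phi_principal hM hχ₁ hval
    rw [hinner] at h; exact_mod_cast h
  have hne : Char.trivialChar G ≠ χ₁ := fun h => h1 (by rw [← h]; rfl)
  have hnorm : ∑ χ, m χ ^ 2 = 3 := by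
    have h := Char.IsGeneralizedCharacter.classInner_self_eq_sum hm
    rw [d.norm_Phi] at h; exact_mod_cast h.symm
  set S := (Finset.univ.erase (Char.trivialChar G)).erase χ₁ with hS
  have hmem1 : χ₁ ∈ Finset.univ.erase (Char.trivialChar G) :=
    Finset.mem_erase.2 ⟨hne.symm, Finset.mem_univ _⟩
  have hrest : ∑ χ ∈ S, m χ ^ 2 = 1 := by
    rw [← Finset.add_sum_erase _ _ (Finset.mem_univ (Char.trivialChar G)),
      ← Finset.add_sum_erase _ _ hmem1, hmt, hm1] at hnorm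
    have hδ2 : δ ^ 2 = 1 := by rcases hδ with rfl | rfl <;> norm_num
    rw [hδ2] at hnorm
    linarith
  obtain ⟨ψ, hψS, hψ⟩ : ∃ ψ ∈ S, m ψ ≠ 0 := by
    by_contra hcon
    push Not at hcon
    rw [Finset.sum_eq_zero fun x hx => by rw [hcon x hx]; ring] at hrest
    exact zero_ne_one hrest
  rw [← Finset.add_sum_erase _ _ hψS] at hrest
  have hnn : ∀ x ∈ S.erase ψ, 0 ≤ m x ^ 2 := fun x _ => sq_nonneg _
  have hp : 0 < m ψ ^ 2 := by positivity
  have hz := (Finset.sum_eq_zero_iff_of_nonneg hnn).1 (by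
    have := Finset.sum_nonneg hnn
    omega)
  have hψ2 : m ψ ^ 2 = 1 := by
    rw [Finset.sum_eq_zero hz] at hrest
    linarith
  have hsum3 : ∀ f : IrrCharacter G → ℂ, ∑ χ, (m χ : ℂ) * f χ =
      f (Char.trivialChar G) + (δ : ℂ) * f χ₁ + (m ψ : ℂ) * f ψ := by
    intro f
    rw [← Finset.add_sum_erase _ _ (Finset.mem_univ (Char.trivialChar G)),
      ← Finset.add_sum_erase _ _ hmem1, ← Finset.add_sum_erase _ _ hψS, hmt, hm1,
      Finset.sum_eq_zero fun x hx => by rw [sq_eq_zero_iff.1 (hz x hx), Int.cast_zero, zero_mul]]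
    push_cast
    ring
  have hvals : ∀ g : G, d.Phi g = 1 + (δ : ℂ) * χ₁.1 g + (m ψ : ℂ) * ψ.1 g := by
    intro g
    have h := congrFun hm g
    rw [Finset.sum_apply] at h
    simp only [Pi.smul_apply, smul_eq_mul] at h
    rw [h, hsum3 fun χ => χ.1 g, Char.trivialChar_apply]
  have hδc : (δ : ℂ) * δ = 1 := by rcases hδ with rfl | rfl <;> norm_num
  have hMlt : M₀ < 2 * M₀ := by have := d.hM0; omega
  have hJ1 : χ₁.1 (σ ^ M₀) = (δ : ℂ) := hval M₀ d.hM0 hMlt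
  have hη : (m ψ : ℂ) * m ψ = 1 := by
    rw [← pow_two]; exact_mod_cast hψ2
  have hψJ : (m ψ : ℂ) * ψ.1 (σ ^ M₀) = 2 := by
    have h := hvals (σ ^ M₀)
    rw [d.Phi_J, hJ1, hδc] at h
    linear_combination -h
  have hψ1 : (m ψ : ℂ) * ψ.1 1 = -(1 + (δ : ℂ) * χ₁.1 1) := by
    have h := hvals 1
    rw [d.Phi_one] at h
    linear_combination -h
  have hy : ψ.1 1 ≠ 0 := Char.IsIrrCharacter.apply_one_ne_zero ψ.2
  have hx : χ₁.1 1 ≠ 0 := Char.IsIrrCharacter.apply_one_ne_zero χ₁.2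
  have hxδ : χ₁.1 1 + (δ : ℂ) ≠ 0 := by
    intro h0
    refine mul_ne_zero (left_ne_zero_of_mul_eq_one hη) hy ?_
    rw [hψ1, eq_neg_of_add_eq_zero_left h0]
    linear_combination hδc
  -- the value of the weighted sum
  have hT : ∑ χ : IrrCharacter G, χ.1 (σ ^ M₀) * χ.1 (σ ^ M₀) * classInner d.Phi χ.1 / χ.1 1 =
      (χ₁.1 1 - δ) ^ 2 / (χ₁.1 1 * (χ₁.1 1 + δ)) := by
    rw [Finset.sum_congr rfl fun χ _ => show χ.1 (σ ^ M₀) * χ.1 (σ ^ M₀) * classInner d.Phi χ.1 / χ.1 1 =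
      (m χ : ℂ) * (χ.1 (σ ^ M₀) * χ.1 (σ ^ M₀) / χ.1 1) by rw [hinner χ]; ring,
      hsum3 fun χ => χ.1 (σ ^ M₀) * χ.1 (σ ^ M₀) / χ.1 1]
    have e : (m ψ : ℂ) * (ψ.1 (σ ^ M₀) * ψ.1 (σ ^ M₀) / ψ.1 1) =
        -(4 * (δ : ℂ)) / (χ₁.1 1 + δ) := by
      rw [mul_div, div_eq_div_iff hy hxδ]
      linear_combination ((m ψ : ℂ) * ψ.1 (σ ^ M₀) * ψ.1 (σ ^ M₀) * (δ : ℂ)) * hψ1
        + (-(m ψ : ℂ) * ψ.1 (σ ^ M₀) * ψ.1 (σ ^ M₀) * χ₁.1 1) * hδc
        - ((δ : ℂ) * ψ.1 1 * ((m ψ : ℂ) * ψ.1 (σ ^ M₀) + 2)) * hψJ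
    rw [e, hJ1, hδc, Char.trivialChar_apply, Char.trivialChar_apply]
    field_simp
    ring
  have key := d.sum_mult_eq
  rw [hT, d.num_eq.1, d.num_eq.2, d.card_centralizer_J, d.card_K] at key
  rw [d.card_centralizer_J, d.card_K, Char.charDegree_cast]
  have hV : (Nat.card d.V : ℂ) ≠ 0 := Char.card_ne_zero
  have hM0 : (M₀ : ℂ) ≠ 0 := Nat.cast_ne_zero.2 d.hM0.ne'
  have hc1 : (Nat.card (Subgroup.centralizer ({σ ^ M₀, τ} : Set G)) : ℂ) ≠ 0 := Char.card_ne_zero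
  have hc2 : (Nat.card (Subgroup.centralizer ({σ ^ M₀, σ * τ} : Set G)) : ℂ) ≠ 0 :=
    Char.card_ne_zero
  have heq : (Nat.card G : ℂ) * (χ₁.1 1 - δ) ^ 2 =
      2 * χ₁.1 1 * (χ₁.1 1 + δ) * ((2 * (2 * M₀ * Nat.card d.V) : ℕ) : ℂ) ^ 3 *
        (1 / (Nat.card (Subgroup.centralizer ({σ ^ M₀, τ} : Set G)) : ℂ) +
          1 / (Nat.card (Subgroup.centralizer ({σ ^ M₀, σ * τ} : Set G)) : ℂ)) ^ 2 := by
    push_cast at key ⊢
    field_simp at key ⊢
    linear_combination key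
  refine ⟨fun h0 => ?_, heq⟩
  rw [h0, sub_self, zero_pow (by norm_num), mul_zero] at heq
  have hpos : ∀ a b : ℕ, 0 < a → 0 < b → (1 : ℂ) / a + 1 / b ≠ 0 := by
    intro a b ha hb h
    rw [div_add_div _ _ (Nat.cast_ne_zero.2 ha.ne') (Nat.cast_ne_zero.2 hb.ne'), div_eq_zero_iff] at h
    rcases h with h | h
    · rw [one_mul, mul_one] at h
      have : b + a = 0 := by exact_mod_cast h
      omega
    · exact mul_ne_zero (Nat.cast_ne_zero.2 ha.ne') (Nat.cast_ne_zero.2 hb.ne') h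
  refine mul_ne_zero (mul_ne_zero (mul_ne_zero (mul_ne_zero two_ne_zero ?_) ?_) ?_)
    (pow_ne_zero 2 (hpos _ _ Nat.card_pos Nat.card_pos)) heq.symm
  · rw [← h0]; exact hx
  · rw [← h0]; rw [h0] at hxδ ⊢; exact hxδ
  · exact pow_ne_zero 3 (Nat.cast_ne_zero.2 (by simp [d.hM0.ne', (Nat.card_pos (α := d.V)).ne']))

end Data

end Cfsg.Agent.DihedralBlock
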