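import Cfsg.Agent.Lib.DihedralBlock.Induced
import Cfsg.Agent.Lib.Char.ClassSum

/-!
# Pairs of involutions weighted by `1 - λ` of their product
-/

set_option autoImplicit false
set_option linter.style.haveILetI false
set_option linter.unusedSectionVars false

namespace Cfsg.Agent.DihedralBlock

open Cfsg
open scoped ComplexConjugate

universe u

variable {G : Type u} [Group G] [Fintype G] {σ τ : G} {M₀ : ℕ}

namespace Core

variable (d : Core σ τ M₀)
include d

/-- Elements `v` of `V` with `v σ^i τ` an involution. -/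
def Inv' (i : ℕ) : Type u := {v : d.V // ((v : G) * (σ ^ i * τ)) * ((v : G) * (σ ^ i * τ)) = 1}

omit d in
instance (d : Core σ τ M₀) (i : ℕ) : Finite (d.Inv' i) := inferInstanceAs (Finite {v : d.V // _})

omit d in
noncomputable instance (d : Core σ τ M₀) (i : ℕ) : Fintype (d.Inv' i) := Fintype.ofFinite _

/-- Their number. -/
noncomputable def num (i : ℕ) : ℕ := Nat.card (d.Inv' i)

theorem num_add_two (i : ℕ) : d.num (i + 2) = d.num i := by
  have e : ∀ v : G, σ * (v * (σ ^ i * τ)) * σ⁻¹ = σ * v * σ⁻¹ * (σ ^ (i + 2) * τ) := by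
    intro v
    have h1 : τ * σ⁻¹ = σ * τ := by
      have h := d.t_mul_pow 1
      rw [pow_one] at h
      calc τ * σ⁻¹ = σ * (σ⁻¹ * τ) * σ⁻¹ := by group
        _ = σ * (τ * σ) * σ⁻¹ := by rw [h]
        _ = σ * τ := by group
    calc σ * (v * (σ ^ i * τ)) * σ⁻¹ = σ * v * σ⁻¹ * (σ * σ ^ i * (τ * σ⁻¹)) := by group
      _ = _ := by rw [h1, ← pow_succ', ← mul_assoc (σ ^ (i + 1)), ← pow_succ]
  have hc : Commute (σ ^ M₀) σ := Commute.pow_self σ M₀
  refine (Nat.card_congr (Equiv.subtypeEquiv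
    { toFun := fun v : d.V => (⟨σ * v * σ⁻¹, d.normV σ hc v v.2⟩ : d.V)
      invFun := fun v : d.V => ⟨σ⁻¹ * v * σ, by
        have := d.normV σ⁻¹ hc.inv_right v v.2
        rwa [inv_inv] at this⟩
      left_inv := fun v => Subtype.ext (by simp [mul_assoc])
      right_inv := fun v => Subtype.ext (by simp [mul_assoc]) } fun v => ?_)).symm
  simp only [Equiv.coe_fn_mk]
  rw [← e, conj_mul, conj_eq_one_iff]

theorem num_two_mul (m : ℕ) : d.num (2 * m) = d.num 0 := by
  induction m with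
  | zero => rfl
  | succ m ih => rw [mul_add, mul_one, d.num_add_two, ih]

theorem num_two_mul_add_one (m : ℕ) : d.num (2 * m + 1) = d.num 1 := by
  induction m with
  | zero => rfl
  | succ m ih => rw [show 2 * (m + 1) + 1 = 2 * m + 1 + 2 by ring, d.num_add_two, ih]

omit d in
theorem sum_range_two_mul {R : Type*} [AddCommMonoid R] (f : ℕ → R) (n : ℕ) :
    ∑ i ∈ Finset.range (2 * n), f i = ∑ m ∈ Finset.range n, (f (2 * m) + f (2 * m + 1)) := by
  induction n with
  | zero => simp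
  | succ n ih =>
    rw [mul_add, mul_one, Finset.sum_range_succ, Finset.sum_range_succ, ih, Finset.sum_range_succ,
      add_assoc]

theorem sum_num : ∑ i : Fin (2 * M₀), (d.num i : ℂ) = M₀ * ((d.num 0 : ℂ) + d.num 1) := by
  rw [Fin.sum_univ_eq_sum_range fun i => (d.num i : ℂ), sum_range_two_mul,
    Finset.sum_congr rfl fun m _ => by rw [d.num_two_mul, d.num_two_mul_add_one], Finset.sum_const,
    Finset.card_range, nsmul_eq_mul]

theorem sum_num_zeta : ∑ i : Fin (2 * M₀), (d.num i : ℂ) * d.zeta ^ (i : ℕ) = 0 := by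
  have h0 : 1 < M₀ := by
    obtain ⟨m, hm⟩ := d.hM
    have := d.hM0
    omega
  have h := d.isPrimitiveRoot_zeta.pow (by omega) (show 2 * M₀ = 2 * M₀ by rfl)
  rw [Fin.sum_univ_eq_sum_range fun i => (d.num i : ℂ) * d.zeta ^ i, sum_range_two_mul,
    Finset.sum_congr rfl fun m _ => show (d.num (2 * m) : ℂ) * d.zeta ^ (2 * m) +
        d.num (2 * m + 1) * d.zeta ^ (2 * m + 1) =
      ((d.num 0 : ℂ) + d.num 1 * d.zeta) * (d.zeta ^ 2) ^ m by
      rw [d.num_two_mul, d.num_two_mul_add_one, ← pow_mul, pow_succ]; ring,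
    ← Finset.mul_sum, h.geom_sum_eq_zero h0, mul_zero]

/-- Involutions of `C(J)` outside `V⟨σ⟩`. -/
abbrev Outer : Type u := Σ i : Fin (2 * M₀), d.Inv' i

/-- The involution. -/
def outerElt (p : d.Outer) : G := (p.2.1 : G) * (σ ^ (p.1 : ℕ) * τ)

theorem sum_outer {R : Type*} [CommSemiring R] (f : ℕ → R) :
    ∑ p : d.Outer, f p.1 = ∑ i : Fin (2 * M₀), (d.num i : R) * f i := by
  rw [Fintype.sum_sigma]
  refine Finset.sum_congr rfl fun i _ => ?_
  show ∑ _ : d.Inv' i, f i = _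
  rw [Finset.sum_const, Finset.card_univ, nsmul_eq_mul, num, Nat.card_eq_fintype_card]

theorem outerElt_sq (p : d.Outer) : d.outerElt p * d.outerElt p = 1 := p.2.2

theorem outerElt_notin_K (p : d.Outer) : d.outerElt p ∉ d.K := by
  rw [outerElt, ← mul_assoc]
  exact d.mul_tau_notin_K (d.mul_pow_mem_K p.2.1.2 _)

theorem orderOf_outerElt (p : d.Outer) : orderOf (d.outerElt p) = 2 :=
  orderOf_eq_prime (by rw [pow_two]; exact d.outerElt_sq p) fun h =>
    d.outerElt_notin_K p (h ▸ d.K.one_mem)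

theorem commute_outerElt (p : d.Outer) : Commute (σ ^ M₀) (d.outerElt p) :=
  (d.commute_J p.2.1.2).mul_right ((d.commute_J_pow _).mul_right d.commute_J_t)

theorem outerElt_injective : Function.Injective d.outerElt := by
  rintro ⟨i, ⟨v, hv⟩⟩ ⟨j, ⟨w, hw⟩⟩ h
  simp only [outerElt, ← mul_assoc] at h
  have h' : (v : G) * σ ^ (i : ℕ) = (w : G) * σ ^ (j : ℕ) := mul_right_cancel h
  obtain rfl : i = j :=
    Fin.ext ((d.exponent_congr v.2 w.2 h').eq_of_lt_of_lt i.2 j.2)
  obtain rfl : v = w := Subtype.ext (mul_right_cancel h')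
  rfl

theorem exists_outerElt {s : G} (hc : Commute (σ ^ M₀) s) (hK : s ∉ d.K) (hs : s * s = 1) :
    ∃ p : d.Outer, d.outerElt p = s := by
  obtain ⟨v, hv, i, h | h⟩ := d.decomp s hc
  · exact absurd ⟨v, hv, i, h⟩ hK
  · have hi : σ ^ (i % (2 * M₀)) = σ ^ i := by rw [← d.hord, pow_mod_orderOf]
    refine ⟨⟨⟨i % (2 * M₀), Nat.mod_lt _ (by have := d.hM0; omega)⟩, ⟨⟨v, hv⟩, ?_⟩⟩, ?_⟩
    · show v * (σ ^ (i % (2 * M₀)) * τ) * (v * (σ ^ (i % (2 * M₀)) * τ)) = 1
      rw [hi, ← h, hs]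
    · show v * (σ ^ (i % (2 * M₀)) * τ) = s
      rw [hi, h]

theorem extend_wt_outer (p q : d.Outer) :
    extendByZero d.K d.wt (d.outerElt p * d.outerElt q) =
      1 - d.zeta ^ (p.1 : ℕ) * (d.zeta ^ (q.1 : ℕ))⁻¹ := by
  obtain ⟨m, hm⟩ := d.exists_pow_inv (q.1 : ℕ)
  have hw : σ ^ (p.1 : ℕ) * τ * (q.2.1 : G) * (σ ^ (p.1 : ℕ) * τ)⁻¹ ∈ d.V :=
    d.normV _ ((d.commute_J_pow _).mul_right d.commute_J_t) _ q.2.1.2
  have e : d.outerElt p * d.outerElt q =
      (p.2.1 : G) * (σ ^ (p.1 : ℕ) * τ * (q.2.1 : G) * (σ ^ (p.1 : ℕ) * τ)⁻¹) *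
        σ ^ ((p.1 : ℕ) + m) := by
    rw [pow_add, hm, outerElt, outerElt]
    calc (p.2.1 : G) * (σ ^ (p.1 : ℕ) * τ) * ((q.2.1 : G) * (σ ^ (q.1 : ℕ) * τ))
        = (p.2.1 : G) * (σ ^ (p.1 : ℕ) * τ * (q.2.1 : G) * (σ ^ (p.1 : ℕ) * τ)⁻¹) *
            (σ ^ (p.1 : ℕ) * (τ * σ ^ (q.1 : ℕ) * τ)) := by group
      _ = _ := by rw [d.t_mul_pow, mul_assoc (σ ^ (q.1 : ℕ))⁻¹, d.tsq, mul_one]
  rw [e, d.extend_wt_mul_pow (mul_mem p.2.1.2 hw), pow_add]
  congr 2
  refine eq_inv_of_mul_eq_one_right ?_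
  rw [← pow_add, ← pow_zero d.zeta]
  refine d.zeta_pow_congr ?_
  have h1 : (q.1 : ℕ) + m ≡ 0 [MOD orderOf σ] :=
    pow_eq_pow_iff_modEq.1 (by rw [pow_add, hm, mul_inv_cancel, pow_zero])
  rwa [d.hord] at h1

theorem sum_outer_pairs :
    ∑ p : d.Outer, ∑ q : d.Outer, extendByZero d.K d.wt (d.outerElt p * d.outerElt q) =
      ((M₀ : ℂ) * ((d.num 0 : ℂ) + d.num 1)) ^ 2 := by
  simp only [d.extend_wt_outer, Finset.sum_sub_distrib, ← Finset.mul_sum, Finset.sum_const,
    Finset.card_univ]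
  rw [← Finset.sum_mul, d.sum_outer (fun i => d.zeta ^ i), d.sum_num_zeta, zero_mul, sub_zero]
  have h := d.sum_outer (fun _ => (1 : ℂ))
  simp only [Finset.sum_const, Finset.card_univ, nsmul_eq_mul, mul_one] at h
  simp only [nsmul_eq_mul, mul_one]
  rw [h, d.sum_num]
  ring

open Classical in
theorem card_conj_fiber (x : G) {s : G} (h : IsConj x s) :
    (Finset.univ.filter fun a : G => a * x * a⁻¹ = s).card =
      Nat.card (Subgroup.centralizer ({x} : Set G)) := by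
  obtain ⟨c, hc⟩ := isConj_iff.1 h
  rw [Nat.card_eq_fintype_card, Fintype.card_subtype]
  refine Finset.card_equiv (Equiv.mulLeft c⁻¹) fun a => ?_
  simp only [Finset.mem_filter, Finset.mem_univ, true_and, Equiv.coe_mulLeft,
    Subgroup.mem_centralizer_singleton_iff]
  constructor
  · intro ha
    calc c⁻¹ * a * x = c⁻¹ * (a * x * a⁻¹) * a := by group
      _ = c⁻¹ * (c * x * c⁻¹) * a := by rw [ha, hc]
      _ = _ := by group
  · intro ha
    calc a * x * a⁻¹ = c * (c⁻¹ * a * x) * (c⁻¹ * a)⁻¹ * c⁻¹ := by group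
      _ = c * (x * (c⁻¹ * a)) * (c⁻¹ * a)⁻¹ * c⁻¹ := by rw [ha]
      _ = s := by rw [← hc]; group

theorem exists_outer_of_ne_zero {s t : G} (hs : IsConj (σ ^ M₀) s) (ht : IsConj (σ ^ M₀) t)
    (hne : extendByZero d.K d.wt (s * t) ≠ 0) :
    ∃ p q : d.Outer, d.outerElt p = s ∧ d.outerElt q = t := by
  have hinv : ∀ {z : G}, IsConj (σ ^ M₀) z → z * z = 1 ∧ z ≠ 1 := by
    intro z hz
    obtain ⟨c, rfl⟩ := isConj_iff.1 hz
    exact ⟨by rw [conj_mul, d.J_sq, mul_one, mul_inv_cancel],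
      fun h => d.J_ne_one (conj_eq_one_iff.1 h)⟩
  have hk : s * t ∈ d.K := by
    by_contra h; exact hne (Char.extendByZero_of_notMem _ _ h)
  obtain ⟨v, hv, i, hvi⟩ := id hk
  have hi : σ ^ i ≠ 1 := by
    intro h1
    refine hne ?_
    rw [hvi, h1, ← pow_zero σ, d.extend_wt_mul_pow hv, pow_zero, sub_self]
  obtain ⟨e, he⟩ := d.exists_pow_eq_J hv hi
  rw [← hvi] at he
  obtain ⟨hs2, hs1⟩ := hinv hs
  obtain ⟨ht2, ht1⟩ := hinv ht
  have hsinv : s⁻¹ = s := inv_eq_of_mul_eq_one_right hs2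
  have htinv : t⁻¹ = t := inv_eq_of_mul_eq_one_right ht2
  have hsJ : Commute (σ ^ M₀) s := by
    have h1 : s * (s * t) * s⁻¹ = (s * t)⁻¹ := by
      rw [mul_inv_rev, htinv, hsinv, ← mul_assoc s s t, hs2, one_mul]
    have h2 : s * σ ^ M₀ * s⁻¹ = σ ^ M₀ := by
      conv_lhs => rw [← he]
      rw [← conj_pow, h1, inv_pow, he, d.J_inv]
    exact (mul_inv_eq_iff_eq_mul.1 h2).symm
  have hsK : s ∉ d.K := by
    intro h
    have hsJ' := d.eq_J_of_invol h hs2 hs1
    have htK : t ∈ d.K := (d.K.mul_mem_cancel_left h).1 hk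
    have htJ := d.eq_J_of_invol htK ht2 ht1
    refine hne ?_
    rw [hsJ', htJ, d.J_sq, show (1 : G) = 1 * σ ^ 0 by rw [pow_zero, mul_one],
      d.extend_wt_mul_pow d.V.one_mem, pow_zero, sub_self]
  have htK : t ∉ d.K := fun h => hsK ((d.K.mul_mem_cancel_right h).1 hk)
  have htJ : Commute (σ ^ M₀) t := by
    have h := hsJ.inv_right.mul_right (d.commute_J_of_mem_K hk)
    rwa [inv_mul_cancel_left] at h
  obtain ⟨p, hp⟩ := d.exists_outerElt hsJ hsK hs2
  obtain ⟨q, hq⟩ := d.exists_outerElt htJ htK ht2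
  exact ⟨p, q, hp, hq⟩

theorem mul_tau_sq {i : ℕ} : σ ^ i * τ * (σ ^ i * τ) = 1 := by
  rw [mul_assoc, ← mul_assoc τ, d.t_mul_pow, mul_assoc, d.tsq, mul_one, mul_inv_cancel]

open Classical in
theorem num_zero_mul :
    d.num 0 * Nat.card (d.V ⊓ Subgroup.centralizer ({τ} : Set G) : Subgroup G) = Nat.card d.V := by
  classical
  set CD := (d.V ⊓ Subgroup.centralizer ({τ} : Set G) : Subgroup G) with hCDdef
  haveI := Fintype.ofFinite d.V
  haveI := Fintype.ofFinite CD
  have hs : ∀ v ∈ d.V, τ * v * τ⁻¹ ∈ d.V := fun v hv => d.normV τ d.commute_J_t v hv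
  have hco : (Nat.card d.V).Coprime (orderOf τ) :=
    (Nat.coprime_two_right.2 d.oddV).coprime_dvd_right
      (orderOf_dvd_of_pow_eq_one (by rw [pow_two, d.tsq]))
  have hCD : ∀ c, c ∈ CD ↔ c ∈ d.V ∧ Commute c τ := fun c => by
    rw [hCDdef, Subgroup.mem_inf, Subgroup.mem_centralizer_singleton_iff]
    exact Iff.rfl
  set Φ := GlauCyclic.twist hs (fun c (hc : c ∈ CD) => ((hCD c).1 hc).1) with hΦ
  set A := (Finset.univ : Finset d.V).filter fun x : d.V => ((x : G) * τ) * ((x : G) * τ) = 1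
  have hA : d.num 0 = A.card := by
    haveI := Fintype.ofFinite (d.Inv' 0)
    rw [num, Nat.card_eq_fintype_card, ← Fintype.card_coe]
    refine Fintype.card_congr (Equiv.subtypeEquivRight fun x => ?_)
    simp [A, pow_zero]
  have hinv : ∀ p : d.V × CD, Φ p ∈ A ↔ p.2 = 1 := by
    intro p
    have hc : Commute (p.2 : G) τ := ((hCD _).1 p.2.2).2
    have e : ((p.2 : G) * τ) * ((p.2 : G) * τ) = (p.2 : G) * p.2 := by
      rw [mul_assoc, ← mul_assoc τ, ← hc.eq, mul_assoc (p.2 : G) τ, d.tsq, mul_one]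
    rw [Finset.mem_filter, hΦ, GlauCyclic.coe_twist_mul, and_iff_right (Finset.mem_univ _),
      conj_mul, conj_eq_one_iff, e]
    exact ⟨fun h => Subtype.ext (d.eq_one_of_sq ((hCD _).1 p.2.2).1 h), fun h => by simp [h]⟩
  have hcount := Finset.card_eq_sum_card_fiberwise (s := (Finset.univ : Finset (d.V × CD)).filter
    fun p => p.2 = 1) (t := A) (f := Φ) fun p hp => (hinv p).2 (Finset.mem_filter.1 hp).2
  have hlhs : ((Finset.univ : Finset (d.V × CD)).filter fun p => p.2 = 1).card = Nat.card d.V := by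
    rw [show ((Finset.univ : Finset (d.V × CD)).filter fun p => p.2 = 1) =
      (Finset.univ : Finset d.V).map ⟨fun x => (x, 1), fun a b h => congrArg Prod.fst h⟩ by
        ext ⟨x, c⟩
        constructor
        · intro h
          exact Finset.mem_map.2 ⟨x, Finset.mem_univ x,
            Prod.ext rfl (Finset.mem_filter.1 h).2.symm⟩
        · intro h
          obtain ⟨a, -, ha⟩ := Finset.mem_map.1 h
          exact Finset.mem_filter.2 ⟨Finset.mem_univ _, (congrArg Prod.snd ha).symm⟩,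
      Finset.card_map, Finset.card_univ, Nat.card_eq_fintype_card]
  rw [hA, ← hlhs, hcount, Finset.sum_congr rfl fun x hx => ?_, Finset.sum_const, smul_eq_mul]
  obtain ⟨p₀, hp₀⟩ := GlauCyclic.exists_conj_eq hs hco hCD x
  rw [Finset.filter_filter, Nat.card_eq_fintype_card, ← GlauCyclic.card_fiber_twist hs hco hCD x hp₀]
  congr 1
  ext p
  simp only [Finset.mem_filter, Finset.mem_univ, true_and, ← hΦ]
  exact ⟨fun h => h.2, fun h => ⟨(hinv p).1 (h ▸ hx), h⟩⟩

theorem card_centralizer_J :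
    Nat.card (Subgroup.centralizer ({σ ^ M₀} : Set G)) = 2 * Nat.card d.K := by
  rw [← Nat.card_eq_two_iff' (α := Bool) true |>.2 ⟨false, by simp, fun y hy => by
    cases y <;> simp_all⟩, ← Nat.card_prod]
  refine (Nat.card_congr (Equiv.ofBijective (fun p : Bool × d.K =>
    (⟨(p.2 : G) * (if p.1 then τ else 1), ?_⟩ : Subgroup.centralizer ({σ ^ M₀} : Set G))) ⟨?_, ?_⟩)).symm
  · refine mul_mem (Subgroup.mem_centralizer_singleton_iff.2 (d.commute_J_of_mem_K p.2.2).symm.eq) ?_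
    cases p.1
    · simp
    · exact Subgroup.mem_centralizer_singleton_iff.2 d.commute_J_t.symm.eq
  · rintro ⟨a, k⟩ ⟨b, l⟩ h
    have h' := congrArg Subtype.val h
    cases a <;> cases b <;> simp at h'
    · exact Prod.ext rfl (Subtype.ext (by simpa using h'))
    · exact absurd (h' ▸ k.2) (d.mul_tau_notin_K l.2)
    · exact absurd (h'.symm ▸ l.2) (d.mul_tau_notin_K k.2)
    · exact Prod.ext rfl (Subtype.ext (by simpa using h'))
  · rintro ⟨c, hc⟩
    rcases d.centralizer_cases (Subgroup.mem_centralizer_singleton_iff.1 hc).symm with h | ⟨k, hk, rfl⟩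
    · exact ⟨(false, ⟨c, h⟩), Subtype.ext (by simp)⟩
    · exact ⟨(true, ⟨k, hk⟩), Subtype.ext (by simp)⟩

theorem card_centralizer_pair :
    Nat.card (Subgroup.centralizer ({σ ^ M₀, τ} : Set G)) =
      4 * Nat.card (d.V ⊓ Subgroup.centralizer ({τ} : Set G) : Subgroup G) := by
  have h4 : Nat.card (Bool × Bool) = 4 := by simp [Nat.card_eq_fintype_card]
  rw [← h4, ← Nat.card_prod]
  have hmem : ∀ {x : G}, x ∈ Subgroup.centralizer ({σ ^ M₀, τ} : Set G) ↔
      Commute (σ ^ M₀) x ∧ Commute τ x := fun {x} => by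
    rw [Subgroup.mem_centralizer_iff]
    constructor
    · exact fun h => ⟨h _ (Set.mem_insert _ _), h _ (Set.mem_insert_of_mem _ rfl)⟩
    · rintro ⟨h1, h2⟩ y (rfl | rfl)
      exacts [h1, h2]
  let f : (Bool × Bool) × (d.V ⊓ Subgroup.centralizer ({τ} : Set G) : Subgroup G) → G := fun p =>
    (p.2 : G) * σ ^ (if p.1.1 then M₀ else 0) * (if p.1.2 then τ else 1)
  have hf : ∀ p, f p ∈ Subgroup.centralizer ({σ ^ M₀, τ} : Set G) := by
    rintro ⟨⟨a, b⟩, ⟨v, hv, hvt⟩⟩
    have hvt' : Commute τ v := (Subgroup.mem_centralizer_singleton_iff.1 hvt).symm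
    rw [hmem]
    constructor
    · exact ((d.commute_J hv).mul_right (d.commute_J_pow _)).mul_right
        (by cases b <;> simp [d.commute_J_t])
    · refine (hvt'.mul_right ?_).mul_right (by cases b <;> simp)
      cases a
      · simp
      · exact d.commute_J_t.symm
  refine (Nat.card_congr (Equiv.ofBijective (fun p => (⟨f p, hf p⟩ :
    Subgroup.centralizer ({σ ^ M₀, τ} : Set G))) ⟨?_, ?_⟩)).symm
  · rintro ⟨⟨a, b⟩, v⟩ ⟨⟨a', b'⟩, w⟩ h
    have h' : f _ = f _ := congrArg Subtype.val h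
    simp only [f] at h'
    cases b <;> cases b' <;> simp only [Bool.false_eq_true, if_false, if_true, mul_one] at h'
    rotate_left
    · exact absurd (h' ▸ d.mul_pow_mem_K v.2.1 _) (d.mul_tau_notin_K (d.mul_pow_mem_K w.2.1 _))
    · exact absurd (h'.symm ▸ d.mul_pow_mem_K w.2.1 _) (d.mul_tau_notin_K (d.mul_pow_mem_K v.2.1 _))
    rw [mul_left_inj] at h'
    all_goals
      obtain ⟨h1, h2⟩ := d.mul_pow_inj v.2.1 w.2.1 h'
      refine Prod.ext (Prod.ext ?_ rfl) (Subtype.ext h1)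
      cases a <;> cases a' <;> simp [d.J_ne_one, Ne.symm d.J_ne_one] at h2 ⊢
  · rintro ⟨c, hc⟩
    obtain ⟨hcJ, hct⟩ := hmem.1 hc
    obtain ⟨v, hv, i, hcase⟩ := d.decomp c hcJ
    have hcomm : Commute τ (v * σ ^ i) := by
      rcases hcase with h | h
      · exact h ▸ hct
      · have h2 := hct.mul_right (Commute.refl τ)
        rwa [h, mul_assoc v, mul_assoc (σ ^ i), d.tsq, mul_one] at h2
    obtain ⟨m, hm⟩ := d.exists_pow_inv i
    have h1 : v * σ ^ i = τ * v * τ⁻¹ * σ ^ m := by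
      calc v * σ ^ i = τ * (v * σ ^ i) * τ⁻¹ := by rw [hcomm.eq, mul_inv_cancel_right]
        _ = τ * v * τ⁻¹ * (τ * σ ^ i * τ⁻¹) := by group
        _ = _ := by rw [d.conj_pow_eq, hm]
    obtain ⟨h2, h3⟩ := d.mul_pow_inj hv (d.normV τ d.commute_J_t v hv) h1
    have hvC : v ∈ (d.V ⊓ Subgroup.centralizer ({τ} : Set G) : Subgroup G) := by
      refine ⟨hv, Subgroup.mem_centralizer_singleton_iff.2 ?_⟩
      conv_lhs => rw [h2]
      group
    rw [hm] at h3
    have h4 : σ ^ i * σ ^ i = 1 := by conv_lhs => arg 2; rw [h3]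
                                      exact mul_inv_cancel _
    rcases d.pow_eq_one_or_J h4 with e | e <;> rcases hcase with h | h
    · exact ⟨((false, false), ⟨v, hvC⟩), Subtype.ext (by simp [f, h, e])⟩
    · exact ⟨((false, true), ⟨v, hvC⟩), Subtype.ext (by simp [f, h, e])⟩
    · exact ⟨((true, false), ⟨v, hvC⟩), Subtype.ext (by simp [f, h, e])⟩
    · exact ⟨((true, true), ⟨v, hvC⟩), Subtype.ext (by simp [f, h, e, mul_assoc])⟩

theorem num_shift_zero : d.shift.num 0 = d.num 1 := by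
  refine Nat.card_congr (Equiv.subtypeEquivRight fun v => ?_)
  simp [pow_zero, pow_one]

/-- The numbers of involutions in the two outer classes of cosets. -/
theorem num_eq :
    (d.num 0 : ℂ) = 4 * Nat.card d.V /
        Nat.card (Subgroup.centralizer ({σ ^ M₀, τ} : Set G)) ∧
      (d.num 1 : ℂ) = 4 * Nat.card d.V /
        Nat.card (Subgroup.centralizer ({σ ^ M₀, σ * τ} : Set G)) := by
  have key : ∀ {t : G} (e : Core σ t M₀), (e.num 0 : ℂ) = 4 * Nat.card e.V /
      Nat.card (Subgroup.centralizer ({σ ^ M₀, t} : Set G)) := by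
    intro t e
    rw [eq_div_iff (Nat.cast_ne_zero.2 Nat.card_pos.ne'), e.card_centralizer_pair]
    have h : (e.num 0 : ℂ) * Nat.card (e.V ⊓ Subgroup.centralizer ({t} : Set G) : Subgroup G) =
        Nat.card e.V := by exact_mod_cast e.num_zero_mul
    push_cast
    linear_combination 4 * h
  refine ⟨key d, ?_⟩
  rw [← d.num_shift_zero]
  exact key d.shift

end Core

namespace Data

variable (d : Data σ τ M₀)
include d

/-- The class structure weighted by `1 - λ`. -/
theorem sum_pairs :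
    ∑ p : G × G, extendByZero d.K d.wt (p.1 * σ ^ M₀ * p.1⁻¹ * (p.2 * σ ^ M₀ * p.2⁻¹)) =
      (Nat.card (Subgroup.centralizer ({σ ^ M₀} : Set G)) : ℂ) ^ 2 *
        ((M₀ : ℂ) * ((d.num 0 : ℂ) + d.num 1)) ^ 2 := by
  classical
  set C := Finset.univ.filter fun s : G => IsConj (σ ^ M₀) s
  set c : ℂ := (Nat.card (Subgroup.centralizer ({σ ^ M₀} : Set G)) : ℂ)
  have hfib : ∀ f : G → ℂ, ∑ a : G, f (a * σ ^ M₀ * a⁻¹) = c * ∑ s ∈ C, f s := by
    intro f
    rw [← Finset.sum_fiberwise_of_maps_to (s := Finset.univ) (t := C)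
      (g := fun a => a * σ ^ M₀ * a⁻¹) (fun a _ =>
        Finset.mem_filter.2 ⟨Finset.mem_univ _, isConj_iff.2 ⟨a, rfl⟩⟩), Finset.mul_sum]
    refine Finset.sum_congr rfl fun s hs => ?_
    rw [Finset.sum_congr rfl fun a ha => congrArg f (Finset.mem_filter.1 ha).2, Finset.sum_const,
      d.card_conj_fiber _ (Finset.mem_filter.1 hs).2, nsmul_eq_mul]
  rw [Fintype.sum_prod_type,
    hfib fun s => ∑ b : G, extendByZero d.K d.wt (s * (b * σ ^ M₀ * b⁻¹)),
    Finset.sum_congr rfl fun s _ => hfib fun t => extendByZero d.K d.wt (s * t), ← Finset.mul_sum,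
    ← mul_assoc, ← pow_two]
  congr 1
  rw [← Finset.sum_product' (f := fun s t => extendByZero d.K d.wt (s * t)), ← d.sum_outer_pairs,
    ← Fintype.sum_prod_type' fun p q => extendByZero d.K d.wt (d.outerElt p * d.outerElt q)]
  refine Eq.symm (Finset.sum_bij_ne_zero (fun pq _ _ => (d.outerElt pq.1, d.outerElt pq.2))
    (fun pq _ _ => Finset.mem_product.2
      ⟨Finset.mem_filter.2 ⟨Finset.mem_univ _, d.conjAll _ (d.orderOf_outerElt _)⟩,
        Finset.mem_filter.2 ⟨Finset.mem_univ _, d.conjAll _ (d.orderOf_outerElt _)⟩⟩)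
    (fun a _ _ b _ _ h => Prod.ext (d.outerElt_injective (congrArg Prod.fst h))
      (d.outerElt_injective (congrArg Prod.snd h))) (fun st hst hne => ?_) fun _ _ _ => rfl)
  obtain ⟨hs, ht⟩ := Finset.mem_product.1 hst
  obtain ⟨p, q, hp, hq⟩ := d.exists_outer_of_ne_zero (Finset.mem_filter.1 hs).2
    (Finset.mem_filter.1 ht).2 hne
  exact ⟨(p, q), Finset.mem_univ _, by simpa [hp, hq] using hne, by simp [hp, hq]⟩

end Data

end Cfsg.Agent.DihedralBlock
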