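import Cfsg.Agent.Lib.DihedralBlock.Block

/-!
# The members and values of the principal 2-block for dihedral Sylow 2-subgroups
-/

set_option autoImplicit false
set_option linter.style.haveILetI false
set_option linter.unusedSectionVars false

namespace Cfsg.Agent.DihedralBlock

open Cfsg
open scoped ComplexConjugate

set_option maxHeartbeats 1600000

universe u

variable {G : Type u} [Group G] [Fintype G] {σ τ : G} {M₀ : ℕ}

namespace Core

variable (d : Core σ τ M₀) {ζ : ℂ} (hζ : IsPrimitiveRoot ζ (2 * M₀)) (P : Sylow 2 G)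
  (hσ : σ ∈ (P : Subgroup G)) (hτ : τ ∈ (P : Subgroup G))
  (hform : ∀ x ∈ (P : Subgroup G), ∃ i : ℕ, x = σ ^ i ∨ x = σ ^ i * τ)
include d hζ hσ hτ hform

/-- A character of the principal block vanishing on the rotations cannot exist. -/
theorem no_further_member {M : Ideal AlgInt} (hM : IsPModular 2 M)
    {t₁ t₂ t₃ : IrrCharacter G}
    (ht : ∀ s ∈ [t₁, t₂, t₃], s ∈ principalBlock M G ∧ Odd (charDegree s.1))
    (hne : Char.trivialChar G ≠ t₁ ∧ Char.trivialChar G ≠ t₂ ∧ Char.trivialChar G ≠ t₃ ∧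
      t₁ ≠ t₂ ∧ t₁ ≠ t₃ ∧ t₂ ≠ t₃)
    {χ : IrrCharacter G} (hχ : χ ∈ principalBlock M G)
    (hχne : χ ≠ Char.trivialChar G ∧ χ ≠ t₁ ∧ χ ≠ t₂ ∧ χ ≠ t₃)
    (hzero : ∀ i, 0 < i → i < 2 * M₀ → χ.1 (σ ^ i) = 0) : False := by
  classical
  haveI : Fact (Nat.Prime 2) := ⟨Nat.prime_two⟩
  haveI := Fintype.ofFinite d.V
  haveI := hM.2.1
  have hrot : ∀ i : ℕ, σ ^ i ≠ 1 →
      ∑ v ∈ ZStar.oddCentralizing (σ ^ i), χ.1 (σ ^ i * v) = 0 := by
    intro i hi
    set N := d.V ⊓ Subgroup.centralizer ({σ ^ i} : Set G) with hNdef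
    obtain ⟨e, he⟩ := d.exists_pow_eq_J d.V.one_mem hi
    rw [one_mul] at he
    have hN : ∀ v, v ∈ N ↔ Commute (σ ^ i) v ∧ Odd (orderOf v) := fun v => by
      rw [hNdef, Subgroup.mem_inf, Subgroup.mem_centralizer_singleton_iff]
      exact ⟨fun h => ⟨h.2.symm, d.odd_of_mem h.1⟩,
        fun h => ⟨(d.mem_V v).2 ⟨he ▸ h.1.pow_left e, h.2⟩, h.1.symm.eq⟩⟩
    obtain ⟨k, hk⟩ := d.two_pow
    have hk' : ∃ s, orderOf (σ ^ i) = 2 ^ s := by
      obtain ⟨s, -, hs⟩ := (Nat.dvd_prime_pow Nat.prime_two).1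
        (hk ▸ orderOf_pow_dvd (x := σ) i : orderOf (σ ^ i) ∣ 2 ^ k)
      exact ⟨s, hs⟩
    rw [(ZStar.sum_oddCentralizing_apply ZStar.secondPrincipal hM hk' hN χ).1 hχ]
    have hmod : σ ^ (i % (2 * M₀)) = σ ^ i := by rw [← d.hord, pow_mod_orderOf]
    rw [← hmod, hzero _ (Nat.pos_of_ne_zero fun h => hi (by rw [← hmod, h, pow_zero]))
      (Nat.mod_lt _ (by have := d.hM0; omega)), mul_zero]
  have hsec : ∀ u : G, u ≠ 1 → (∃ k, orderOf u = 2 ^ k) →
      ∑ v ∈ ZStar.oddCentralizing u, χ.1 (u * v) = 0 := by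
    intro u hu1 hk
    obtain ⟨c, i, hci⟩ := d.exists_conj_form P hσ hτ hform hk
    have hcl := Char.IsCharacter.isClassFunction (Char.irr_isCharacter χ)
    rw [← sum_oddCentralizing_conj hcl c u]
    have hne1 : c * u * c⁻¹ ≠ 1 := fun h => hu1 (conj_eq_one_iff.1 h)
    rcases hci with hci | hci
    · rw [hci] at hne1 ⊢
      exact hrot i hne1
    · rw [hci]
      by_cases hconj : IsConj (σ ^ M₀) (σ ^ i * τ)
      · obtain ⟨g, hg⟩ := isConj_iff.1 hconj
        rw [← hg, sum_oddCentralizing_conj hcl g (σ ^ M₀)]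
        exact hrot M₀ d.J_ne_one
      · obtain ⟨N, hN, -⟩ := d.centralizer_outer P hσ hτ hform rfl hconj
        set w := σ ^ i * τ with hw
        have hw2 : w * w = 1 := by
          rw [hw, mul_assoc, ← mul_assoc τ, d.t_mul_pow, mul_assoc, d.tsq, mul_one, mul_inv_cancel]
        have hk' : ∃ s, orderOf w = 2 ^ s := by
          obtain ⟨s, -, hs⟩ := (Nat.dvd_prime_pow Nat.prime_two).1
            (orderOf_dvd_of_pow_eq_one (show w ^ 2 ^ 1 = 1 by rw [pow_one, pow_two, hw2]))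
          exact ⟨s, hs⟩
        rw [(ZStar.sum_oddCentralizing_apply ZStar.secondPrincipal hM hk' hN χ).1 hχ]
        suffices hz : χ.1 w = 0 by rw [hz, mul_zero]
        have h4 := d.sum_norm_outer P hσ hτ hform hM hw hconj
        simp only [Complex.mul_conj] at h4
        rw [← Complex.ofReal_sum] at h4
        have h4' : ∑ ψ ∈ Finset.univ.filter (· ∈ principalBlock M G),
            Complex.normSq (ψ.1 w) = 4 := by exact_mod_cast h4
        have hge : ∀ s : IrrCharacter G, Odd (charDegree s.1) → 1 ≤ Complex.normSq (s.1 w) := by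
          intro s hs
          obtain ⟨z, hz0, hz⟩ := odd_value hs hw2
          rw [hz, show ((z : ℤ) : ℂ) = ((z : ℝ) : ℂ) from (Complex.ofReal_intCast z).symm,
            Complex.normSq_ofReal]
          have : (1 : ℤ) ≤ z * z := by
            rcases lt_or_gt_of_ne hz0 with h | h <;> nlinarith
          exact_mod_cast this
        have hsub : ({Char.trivialChar G, t₁, t₂, t₃, χ} : Finset (IrrCharacter G)) ⊆
            Finset.univ.filter (· ∈ principalBlock M G) := by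
          intro s hs
          simp only [Finset.mem_insert, Finset.mem_singleton] at hs
          refine Finset.mem_filter.2 ⟨Finset.mem_univ _, ?_⟩
          rcases hs with rfl | rfl | rfl | rfl | rfl
          · exact Blocks.sameBlock_refl _
          · exact (ht _ (by simp)).1
          · exact (ht _ (by simp)).1
          · exact (ht _ (by simp)).1
          · exact hχ
        have hle := Finset.sum_le_sum_of_subset_of_nonneg hsub
          (f := fun ψ : IrrCharacter G => Complex.normSq (ψ.1 w))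
          fun ψ _ _ => Complex.normSq_nonneg _
        rw [h4', Finset.sum_insert (by simp [hne.1, hne.2.1, hne.2.2.1, hχne.1.symm]),
          Finset.sum_insert (by simp [hne.2.2.2.1, hne.2.2.2.2.1, hχne.2.1.symm]),
          Finset.sum_insert (by simp [hne.2.2.2.2.2, hχne.2.2.1.symm]),
          Finset.sum_pair hχne.2.2.2.symm, Char.trivialChar_apply, map_one] at hle
        have h1 := hge t₁ (ht _ (by simp)).2
        have h2 := hge t₂ (ht _ (by simp)).2
        have h3 := hge t₃ (ht _ (by simp)).2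
        exact Complex.normSq_eq_zero.1 (le_antisymm (by linarith) (Complex.normSq_nonneg _))
  have h := pregSum_eq_classInner χ.1 hsec
  rw [show (fun _ : G => (1 : ℂ)) = (Char.trivialChar G).1 from rfl,
    Char.classInner_irr_of_ne χ.2 (Char.trivialChar G).2 (fun h => hχne.1 (Subtype.ext h)),
    mul_zero] at h
  exact (BlockCount.mem_principalBlock_iff hM χ).1 hχ h

/-- The principal block. -/
theorem principal_block {M : Ideal AlgInt} (hM : IsPModular 2 M) :
    Nat.card (principalBlock M G) = 3 + M₀ ∧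
    ∃ (χ₁ χ₂ χ₃ : IrrCharacter G) (χ' : Fin (M₀ - 1) → IrrCharacter G) (δ₁ δ₂ δ₃ : ℤ),
      (δ₁ = 1 ∨ δ₁ = -1) ∧ (δ₂ = 1 ∨ δ₂ = -1) ∧ (δ₃ = 1 ∨ δ₃ = -1) ∧ Function.Injective χ' ∧
      (χ₁ : G → ℂ) ≠ (fun _ => 1) ∧ (χ₂ : G → ℂ) ≠ (fun _ => 1) ∧ (χ₃ : G → ℂ) ≠ (fun _ => 1) ∧
      χ₁ ≠ χ₂ ∧ χ₁ ≠ χ₃ ∧ χ₂ ≠ χ₃ ∧
      (∀ j, χ' j ≠ χ₁ ∧ χ' j ≠ χ₂ ∧ χ' j ≠ χ₃ ∧ (χ' j : G → ℂ) ≠ (fun _ => 1)) ∧
      principalBlock M G = {χ : IrrCharacter G |
        (χ : G → ℂ) = (fun _ => 1) ∨ χ = χ₁ ∨ χ = χ₂ ∨ χ = χ₃ ∨ ∃ j, χ = χ' j} ∧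
      (∀ l : ℕ, 0 < l → l < 2 * M₀ →
        (χ₁ : G → ℂ) (σ ^ l) = δ₁ ∧ (χ₂ : G → ℂ) (σ ^ l) = δ₂ * (-1) ^ (l + 1) ∧
        (χ₃ : G → ℂ) (σ ^ l) = δ₃ * (-1) ^ (l + 1) ∧
        ∀ j : Fin (M₀ - 1), (χ' j : G → ℂ) (σ ^ l) =
          δ₁ * (ζ ^ (((j : ℕ) + 1) * l) + (ζ ^ (((j : ℕ) + 1) * l))⁻¹)) ∧
      ∀ ρ : G, Odd (orderOf ρ) → ∀ j : Fin (M₀ - 1),
        1 + δ₁ * (χ₁ : G → ℂ) ρ = -δ₂ * (χ₂ : G → ℂ) ρ - δ₃ * (χ₃ : G → ℂ) ρ ∧
        1 + δ₁ * (χ₁ : G → ℂ) ρ = δ₁ * (χ' j : G → ℂ) ρ := by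
  classical
  haveI : Fact (Nat.Prime 2) := ⟨Nat.prime_two⟩
  haveI := Fintype.ofFinite d.V
  haveI := hM.2.1
  obtain ⟨p, q, c₂, c₃, δ, δ₂, δ₃, hδ, hδ₂, hδ₃, hpt, hc2t, hc3t, hp2, hp3, h23, hq, hqinj,
    htj, htM⟩ := d.exists_constituents hζ
  set t := Char.trivialChar G with ht
  have hM0 := d.hM0
  have hcl : ∀ χ : IrrCharacter G, IsClassFunction G χ.1 := fun χ =>
    Char.IsCharacter.isClassFunction (Char.irr_isCharacter χ)
  -- the averages
  have hFp : ∀ i, 0 < i → i < 2 * M₀ → d.Favg p.1 i = (δ : ℂ) := by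
    intro i h0 h1
    rw [d.Favg_of_table hζ (hcl p) h0 h1 (δ : ℂ) (fun _ => (δ : ℂ))
        (fun j hj hj' => by rw [htj j hj hj', if_neg hpt, if_pos rfl])
        (by rw [htM, if_neg hpt, if_pos rfl]),
      ← Finset.mul_sum, d.sum_root_pairs hζ h0 h1]
    ring
  have hF2 : ∀ i, 0 < i → i < 2 * M₀ → d.Favg c₂.1 i = (δ₂ : ℂ) * (-1) ^ (i + 1) := by
    intro i h0 h1
    rw [d.Favg_of_table hζ (hcl c₂) h0 h1 (δ₂ : ℂ) (fun _ => 0)
        (fun j hj hj' => by
          rw [htj j hj hj', if_neg hc2t, if_neg hp2.symm, if_neg (hq j hj hj').2.1.symm])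
        (by rw [htM, if_neg hc2t, if_neg hp2.symm, if_pos rfl])]
    simp only [zero_mul, Finset.sum_const_zero]
    ring
  have hF3 : ∀ i, 0 < i → i < 2 * M₀ → d.Favg c₃.1 i = (δ₃ : ℂ) * (-1) ^ (i + 1) := by
    intro i h0 h1
    rw [d.Favg_of_table hζ (hcl c₃) h0 h1 (δ₃ : ℂ) (fun _ => 0)
        (fun j hj hj' => by
          rw [htj j hj hj', if_neg hc3t, if_neg hp3.symm, if_neg (hq j hj hj').2.2.1.symm])
        (by rw [htM, if_neg hc3t, if_neg hp3.symm, if_neg h23.symm, if_pos rfl])]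
    simp only [zero_mul, Finset.sum_const_zero]
    ring
  have hFq : ∀ a, 1 ≤ a → a < M₀ → ∀ i, 0 < i → i < 2 * M₀ →
      d.Favg (q a).1 i = (δ : ℂ) * ((ζ ^ (a * i))⁻¹ + ζ ^ (a * i)) := by
    intro a ha ha' i h0 h1
    obtain ⟨g1, g2, g3, g4⟩ := hq a ha ha'
    rw [d.Favg_of_table hζ (hcl (q a)) h0 h1 0 (fun j => if j = a then -(δ : ℂ) else 0)
        (fun j hj hj' => by
          rw [htj j hj hj', if_neg g4, if_neg g1]
          by_cases hja : j = a
          · subst hja; rw [if_pos rfl, if_pos rfl]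
          · rw [if_neg hja, if_neg fun h => hja (hqinj a j ha ha' hj hj' h).symm])
        (by rw [htM, if_neg g4, if_neg g1, if_neg g2, if_neg g3]),
      Finset.sum_eq_single a (fun j _ hj => by rw [if_neg hj, zero_mul])
        (fun h => absurd (Finset.mem_Ico.2 ⟨ha, ha'⟩) h), if_pos rfl]
    ring
  have hFo : ∀ χ : IrrCharacter G, χ ≠ t → χ ≠ p → χ ≠ c₂ → χ ≠ c₃ →
      (∀ a, 1 ≤ a → a < M₀ → χ ≠ q a) → ∀ i, 0 < i → i < 2 * M₀ → d.Favg χ.1 i = 0 := by
    intro χ e1 e2 e3 e4 e5 i h0 h1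
    rw [d.Favg_of_table hζ (hcl χ) h0 h1 0 (fun _ => 0)
        (fun j hj hj' => by rw [htj j hj hj', if_neg e1, if_neg e2, if_neg (e5 j hj hj')])
        (by rw [htM, if_neg e1, if_neg e2, if_neg e3, if_neg e4])]
    simp
  have hone : 0 < 1 ∧ 1 < 2 * M₀ := ⟨one_pos, by omega⟩
  have hMi : 0 < M₀ ∧ M₀ < 2 * M₀ := ⟨hM0, by omega⟩
  have hsign : ∀ {e : ℤ}, (e = 1 ∨ e = -1) → (e : ℂ) ≠ 0 := fun h => by
    rcases h with rfl | rfl <;> norm_num
  have hblock : ∀ χ : IrrCharacter G, ∀ i, 0 < i → i < 2 * M₀ → d.Favg χ.1 i ≠ 0 →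
      χ ∈ principalBlock M G := fun χ i h0 h1 hne => by
    by_contra h
    exact hne ((d.Favg_principal hζ hM χ h0 h1).2 h)
  have hpB : p ∈ principalBlock M G :=
    hblock p 1 hone.1 hone.2 (by rw [hFp 1 hone.1 hone.2]; exact hsign hδ)
  have h2B : c₂ ∈ principalBlock M G := hblock c₂ 1 hone.1 hone.2 (by
    rw [hF2 1 hone.1 hone.2]; exact mul_ne_zero (hsign hδ₂) (pow_ne_zero _ (by norm_num)))
  have h3B : c₃ ∈ principalBlock M G := hblock c₃ 1 hone.1 hone.2 (by
    rw [hF3 1 hone.1 hone.2]; exact mul_ne_zero (hsign hδ₃) (pow_ne_zero _ (by norm_num)))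
  have hqB : ∀ a, 1 ≤ a → a < M₀ → q a ∈ principalBlock M G := fun a ha ha' =>
    hblock (q a) M₀ hMi.1 hMi.2 (by
      rw [hFq a ha ha' M₀ hMi.1 hMi.2, mul_comm a M₀, pow_mul, d.root_pow_M hζ]
      refine mul_ne_zero (hsign hδ) ?_
      rcases neg_one_pow_eq_or ℂ a with h | h <;> rw [h] <;> norm_num)
  have hvalB : ∀ χ ∈ principalBlock M G, ∀ i, 0 < i → i < 2 * M₀ →
      χ.1 (σ ^ i) = conj (d.Favg χ.1 i) := fun χ hχ i h0 h1 => by
    rw [(d.Favg_principal hζ hM χ h0 h1).1 hχ, Complex.conj_conj]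
  have hMeven : (-1 : ℂ) ^ (M₀ + 1) = -1 := (Even.add_one d.hM).neg_one_pow
  have hoddp : Odd (charDegree p.1) :=
    KleinBlock.odd_charDegree d.orderOf_J p hδ (by
      rw [hvalB p hpB M₀ hMi.1 hMi.2, hFp M₀ hMi.1 hMi.2, map_intCast])
  have hodd2 : Odd (charDegree c₂.1) :=
    KleinBlock.odd_charDegree d.orderOf_J c₂ (ε := -δ₂) (by omega) (by
      rw [hvalB c₂ h2B M₀ hMi.1 hMi.2, hF2 M₀ hMi.1 hMi.2, hMeven, map_mul, map_intCast,
        map_neg, map_one, Int.cast_neg, mul_neg, mul_one])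
  have hodd3 : Odd (charDegree c₃.1) :=
    KleinBlock.odd_charDegree d.orderOf_J c₃ (ε := -δ₃) (by omega) (by
      rw [hvalB c₃ h3B M₀ hMi.1 hMi.2, hF3 M₀ hMi.1 hMi.2, hMeven, map_mul, map_intCast,
        map_neg, map_one, Int.cast_neg, mul_neg, mul_one])
  have hset : principalBlock M G = {χ : IrrCharacter G | (χ : G → ℂ) = (fun _ => 1) ∨ χ = p ∨
      χ = c₂ ∨ χ = c₃ ∨ ∃ j : Fin (M₀ - 1), χ = q ((j : ℕ) + 1)} := by
    ext χ
    constructor
    · intro hχ
      by_contra hn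
      simp only [Set.mem_setOf_eq, not_or, not_exists] at hn
      obtain ⟨n1, n2, n3, n4, n5⟩ := hn
      have n1' : χ ≠ t := fun h => n1 (by rw [h]; rfl)
      refine d.no_further_member hζ P hσ hτ hform hM (t₁ := p) (t₂ := c₂) (t₃ := c₃) ?_
        ⟨hpt.symm, hc2t.symm, hc3t.symm, hp2, hp3, h23⟩ hχ ⟨n1', n2, n3, n4⟩ ?_
      · intro s hs
        simp only [List.mem_cons, List.not_mem_nil, or_false] at hs
        rcases hs with rfl | rfl | rfl
        exacts [⟨hpB, hoddp⟩, ⟨h2B, hodd2⟩, ⟨h3B, hodd3⟩]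
      · intro i h0 h1
        rw [hvalB χ hχ i h0 h1, hFo χ n1' n2 n3 n4 (fun a ha ha' h => n5 ⟨a - 1, by omega⟩ (by
          simp only [Nat.sub_add_cancel ha]; exact h)) i h0 h1, map_zero]
    · rintro (h | rfl | rfl | rfl | ⟨j, rfl⟩)
      · rw [show χ = t from Subtype.ext h]; exact Blocks.sameBlock_refl _
      · exact hpB
      · exact h2B
      · exact h3B
      · exact hqB _ (Nat.le_add_left _ _) (by have := j.2; omega)
  have hjr : ∀ j : Fin (M₀ - 1), 1 ≤ (j : ℕ) + 1 ∧ (j : ℕ) + 1 < M₀ := fun j => by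
    have := j.2; omega
  have hinj : Function.Injective fun j : Fin (M₀ - 1) => q ((j : ℕ) + 1) := fun a b h => by
    have := hqinj _ _ (hjr a).1 (hjr a).2 (hjr b).1 (hjr b).2 h
    exact Fin.ext (by omega)
  refine ⟨?_, p, c₂, c₃, fun j => q ((j : ℕ) + 1), δ, δ₂, δ₃, hδ, hδ₂, hδ₃, hinj,
    fun h => hpt (Subtype.ext h), fun h => hc2t (Subtype.ext h), fun h => hc3t (Subtype.ext h),
    hp2, hp3, h23, fun j => ?_, hset, fun l h0 h1 => ?_, fun ρ hρ j => ?_⟩
  · have e : ∀ χ : IrrCharacter G, χ ∈ principalBlock M G ↔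
        χ ∈ ({t, p, c₂, c₃} : Finset (IrrCharacter G)) ∪
          Finset.univ.image (fun j : Fin (M₀ - 1) => q ((j : ℕ) + 1)) := fun χ => by
      rw [hset]
      simp only [Set.mem_setOf_eq, Finset.mem_union, Finset.mem_insert, Finset.mem_singleton,
        Finset.mem_image, Finset.mem_univ, true_and]
      constructor
      · rintro (h | h | h | h | ⟨j, h⟩)
        · exact Or.inl (Or.inl (Subtype.ext h))
        · tauto
        · tauto
        · tauto
        · exact Or.inr ⟨j, h.symm⟩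
      · rintro ((h | h | h | h) | ⟨j, h⟩)
        · exact Or.inl (by rw [h]; rfl)
        · tauto
        · tauto
        · tauto
        · exact Or.inr (Or.inr (Or.inr (Or.inr ⟨j, h.symm⟩)))
    rw [Nat.card_congr (Equiv.subtypeEquivRight e), Nat.card_eq_finsetCard,
      Finset.card_union_of_disjoint ?_, Finset.card_image_of_injective _ hinj, Finset.card_univ,
      Fintype.card_fin, Finset.card_insert_of_notMem (by simp [hpt.symm, hc2t.symm, hc3t.symm]),
      Finset.card_insert_of_notMem (by simp [hp2, hp3]), Finset.card_pair h23]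
    · omega
    · rw [Finset.disjoint_left]
      intro χ hχ hχ'
      obtain ⟨j, -, rfl⟩ := Finset.mem_image.1 hχ'
      obtain ⟨g1, g2, g3, g4⟩ := hq _ (hjr j).1 (hjr j).2
      simp [g1, g2, g3, ← ht, g4] at hχ
  · obtain ⟨g1, g2, g3, g4⟩ := hq _ (hjr j).1 (hjr j).2
    exact ⟨g1, g2, g3, fun h => g4 (Subtype.ext h)⟩
  · refine ⟨?_, ?_, ?_, fun j => ?_⟩
    · rw [hvalB p hpB l h0 h1, hFp l h0 h1, map_intCast]
    · rw [hvalB c₂ h2B l h0 h1, hF2 l h0 h1, map_mul, map_intCast, map_pow, map_neg, map_one]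
    · rw [hvalB c₃ h3B l h0 h1, hF3 l h0 h1, map_mul, map_intCast, map_pow, map_neg, map_one]
    · rw [hvalB _ (hqB _ (hjr j).1 (hjr j).2) l h0 h1, hFq _ (hjr j).1 (hjr j).2 l h0 h1,
        map_mul, map_intCast, map_add, map_inv₀, map_pow, d.conj_root hζ, inv_pow, inv_inv]
  · have hexp : ∀ a, d.Psi hζ a ρ =
        ∑ χ : IrrCharacter G, classInner (d.Psi hζ a) χ.1 * χ.1 ρ := fun a => by
      conv_lhs => rw [Char.eq_sum_classInner_smul (f := d.Psi hζ a) (Char.isClassFunction_indFun _ _)]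
      simp [Finset.sum_apply]
    obtain ⟨ha, ha'⟩ := hjr j
    obtain ⟨g1, g2, g3, g4⟩ := hq _ ha ha'
    constructor
    · have h := hexp M₀
      rw [d.Psi_odd hζ M₀ hρ, ← Finset.sum_subset
        (Finset.subset_univ ({t, p, c₂, c₃} : Finset (IrrCharacter G))) (fun χ _ hχ => by
          simp only [Finset.mem_insert, Finset.mem_singleton, not_or] at hχ
          rw [htM, if_neg hχ.1, if_neg hχ.2.1, if_neg hχ.2.2.1, if_neg hχ.2.2.2, zero_mul]),
        Finset.sum_insert (by simp [hpt.symm, hc2t.symm, hc3t.symm]),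
        Finset.sum_insert (by simp [hp2, hp3]), Finset.sum_pair h23, htM t, htM p, htM c₂, htM c₃,
        if_pos rfl, if_neg hpt, if_pos rfl, if_neg hc2t, if_neg hp2.symm, if_pos rfl,
        if_neg hc3t, if_neg hp3.symm, if_neg h23.symm, if_pos rfl,
        Char.trivialChar_apply] at h
      linear_combination -h
    · have h := hexp ((j : ℕ) + 1)
      rw [d.Psi_odd hζ _ hρ, ← Finset.sum_subset
        (Finset.subset_univ ({t, p, q ((j : ℕ) + 1)} : Finset (IrrCharacter G))) (fun χ _ hχ => by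
          simp only [Finset.mem_insert, Finset.mem_singleton, not_or] at hχ
          rw [htj _ ha ha', if_neg hχ.1, if_neg hχ.2.1, if_neg hχ.2.2, zero_mul]),
        Finset.sum_insert (by simp [hpt.symm, g4.symm]), Finset.sum_pair g1.symm,
        htj _ ha ha' t, htj _ ha ha' p, htj _ ha ha' (q ((j : ℕ) + 1)),
        if_pos rfl, if_neg hpt, if_pos rfl, if_neg g4, if_neg g1, if_pos rfl,
        Char.trivialChar_apply] at h
      linear_combination -h

end Core

/-- A dihedral Sylow subgroup as rotations and one reflection. -/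
theorem exists_tau {n : ℕ} (hn : 3 ≤ n) (P : Sylow 2 G)
    (e : (P : Subgroup G) ≃* DihedralGroup (2 ^ (n - 1))) {s : G} (hs : s ∈ (P : Subgroup G))
    (hso : orderOf s = 2 ^ (n - 1)) :
    ∃ t : G, t ∈ (P : Subgroup G) ∧ orderOf t = 2 ∧ t * s * t⁻¹ = s⁻¹ ∧
      Subgroup.closure ({s, t} : Set G) = (P : Subgroup G) := by
  classical
  set N := 2 ^ (n - 1) with hN
  have hN2 : 2 < N := by
    have : 2 ^ 2 ≤ 2 ^ (n - 1) := Nat.pow_le_pow_right (by norm_num) (by omega)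
    omega
  haveI : NeZero N := ⟨by omega⟩
  let f : DihedralGroup N →* G := (P : Subgroup G).subtype.comp e.symm.toMonoidHom
  have hf : Function.Injective f := Subtype.val_injective.comp e.symm.injective
  have hes : f (e ⟨s, hs⟩) = s := by simp [f]
  obtain ⟨k, hk⟩ : ∃ k : ZMod N, e ⟨s, hs⟩ = DihedralGroup.r k := by
    rcases h : e ⟨s, hs⟩ with k | k
    · exact ⟨k, rfl⟩
    · exfalso
      have h1 : orderOf (f (DihedralGroup.sr k)) = N := by rw [← h, hes, hso]
      rw [orderOf_injective f hf, DihedralGroup.orderOf_sr] at h1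
      omega
  rw [hk] at hes
  have hrk : orderOf (DihedralGroup.r k) = N := by
    rw [← orderOf_injective f hf, hes, hso]
  refine ⟨f (DihedralGroup.sr 0), (e.symm (DihedralGroup.sr 0)).2, ?_, ?_, ?_⟩
  · rw [orderOf_injective f hf, DihedralGroup.orderOf_sr]
  · rw [← hes, ← map_inv, ← map_inv, ← map_mul, ← map_mul]
    congr 1
    simp
  · refine le_antisymm ((Subgroup.closure_le _).2 ?_) ?_
    · rintro x (rfl | rfl)
      exacts [hs, (e.symm (DihedralGroup.sr 0)).2]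
    · intro x hx
      have hx' : x = f (e ⟨x, hx⟩) := by simp [f]
      have hr : ∀ i : ZMod N, f (DihedralGroup.r i) ∈ Subgroup.closure
          ({s, f (DihedralGroup.sr 0)} : Set G) := by
        intro i
        have htop : DihedralGroup.r i ∈ Subgroup.zpowers (DihedralGroup.r k) := by
          have h1 : Subgroup.zpowers (DihedralGroup.r k) =
              Subgroup.zpowers (DihedralGroup.r (1 : ZMod N)) := by
            refine Subgroup.eq_of_le_of_card_ge (Subgroup.zpowers_le.2 ⟨(k.val : ℤ), ?_⟩) ?_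
            · simp [DihedralGroup.r_one_pow]
            · rw [Nat.card_zpowers, Nat.card_zpowers, hrk, DihedralGroup.orderOf_r_one]
          rw [h1]
          exact ⟨(i.val : ℤ), by simp [DihedralGroup.r_one_pow]⟩
        obtain ⟨a, ha⟩ := htop
        simp only at ha
        rw [← ha, map_zpow, hes]
        exact zpow_mem (Subgroup.subset_closure (Set.mem_insert _ _)) a
      rw [hx']
      rcases e ⟨x, hx⟩ with i | i
      · exact hr i
      · rw [show DihedralGroup.sr i = DihedralGroup.sr 0 * DihedralGroup.r i by simp, map_mul]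
        exact mul_mem (Subgroup.subset_closure (Set.mem_insert_of_mem _ rfl)) (hr i)

end Cfsg.Agent.DihedralBlock
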