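import Cfsg.Agent.Lib.DihedralBlock.Setting
import Cfsg.Agent.Lib.Char.Linear
import Cfsg.Agent.Lib.Char.Induction
import Cfsg.Agent.Lib.Char.Generalized
import Mathlib.RingTheory.RootsOfUnity.Complex

/-!
# The rotation subgroup `V⟨σ⟩` of `C(J)` and its linear character `v σ^i ↦ ζ^i`
-/

set_option autoImplicit false
set_option linter.style.haveILetI false
set_option linter.unusedSectionVars false

namespace Cfsg.Agent.DihedralBlock

open Cfsg
open scoped ComplexConjugate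

universe u

variable {G : Type u} [Group G] [Finite G] {σ τ : G} {M₀ : ℕ}

namespace Core

variable (d : Core σ τ M₀)
include d

theorem norm_pow (i : ℕ) {v : G} (hv : v ∈ d.V) : σ ^ i * v * (σ ^ i)⁻¹ ∈ d.V :=
  d.normV _ (d.commute_J_pow i) v hv

theorem exists_pow_inv (i : ℕ) : ∃ k : ℕ, σ ^ k = (σ ^ i)⁻¹ := by
  refine ⟨(2 * M₀ - 1) * i, ?_⟩
  rw [pow_mul, ← inv_pow]
  congr 1
  refine eq_inv_of_mul_eq_one_left ?_
  rw [← pow_succ, Nat.sub_add_cancel (by have := d.hM0; omega)]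
  exact d.sigma_pow_two_mul

/-- `V⟨σ⟩`. -/
def K : Subgroup G where
  carrier := {x | ∃ v ∈ d.V, ∃ i : ℕ, x = v * σ ^ i}
  one_mem' := ⟨1, d.V.one_mem, 0, by rw [pow_zero, mul_one]⟩
  mul_mem' := by
    rintro _ _ ⟨v, hv, i, rfl⟩ ⟨w, hw, j, rfl⟩
    exact ⟨v * (σ ^ i * w * (σ ^ i)⁻¹), mul_mem hv (d.norm_pow i hw), i + j, by
      rw [pow_add]; group⟩
  inv_mem' := by
    rintro _ ⟨v, hv, i, rfl⟩
    obtain ⟨k, hk⟩ := d.exists_pow_inv i
    refine ⟨σ ^ k * v⁻¹ * (σ ^ k)⁻¹, d.norm_pow k (inv_mem hv), k, ?_⟩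
    rw [inv_mul_cancel_right, mul_inv_rev, hk]

theorem mem_K_iff {x : G} : x ∈ d.K ↔ ∃ v ∈ d.V, ∃ i : ℕ, x = v * σ ^ i := Iff.rfl

theorem mul_pow_mem_K {v : G} (hv : v ∈ d.V) (i : ℕ) : v * σ ^ i ∈ d.K := ⟨v, hv, i, rfl⟩

theorem commute_J_of_mem_K {x : G} (hx : x ∈ d.K) : Commute (σ ^ M₀) x := by
  obtain ⟨v, hv, i, rfl⟩ := hx
  exact (d.commute_J hv).mul_right (d.commute_J_pow i)

theorem J_mem_K : σ ^ M₀ ∈ d.K := ⟨1, d.V.one_mem, M₀, (one_mul _).symm⟩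

theorem exponent_congr {v w : G} (hv : v ∈ d.V) (hw : w ∈ d.V) {i j : ℕ}
    (h : v * σ ^ i = w * σ ^ j) : i ≡ j [MOD 2 * M₀] := by
  rw [← d.hord]
  exact pow_eq_pow_iff_modEq.1 (d.mul_pow_inj hv hw h).2

/-- Powers of `σ` squaring to one. -/
theorem pow_eq_one_or_J {a : ℕ} (h : σ ^ a * σ ^ a = 1) : σ ^ a = 1 ∨ σ ^ a = σ ^ M₀ := by
  have hdvd : 2 * M₀ ∣ 2 * a := by
    rw [← d.hord, orderOf_dvd_iff_pow_eq_one, two_mul, pow_add, h]
  obtain ⟨e, he⟩ := Nat.dvd_of_mul_dvd_mul_left (by norm_num) hdvd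
  rcases Nat.even_or_odd e with ⟨f, hf⟩ | ⟨f, hf⟩
  · left
    rw [he, hf, show M₀ * (f + f) = 2 * M₀ * f by ring, pow_mul, d.sigma_pow_two_mul, one_pow]
  · right
    rw [he, hf, mul_add, mul_one, pow_add, show M₀ * (2 * f) = 2 * M₀ * f by ring, pow_mul,
      d.sigma_pow_two_mul, one_pow, one_mul]

/-- The only involution of `V⟨σ⟩` is `J`. -/
theorem eq_J_of_invol {x : G} (hx : x ∈ d.K) (h : x * x = 1) (hne : x ≠ 1) : x = σ ^ M₀ := by
  obtain ⟨v, hv, i, rfl⟩ := hx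
  have h1 : v * (σ ^ i * v * (σ ^ i)⁻¹) * σ ^ (i + i) = 1 * σ ^ 0 := by
    rw [pow_zero, mul_one, pow_add, ← h]; group
  obtain ⟨h2, h3⟩ := d.mul_pow_inj (mul_mem hv (d.norm_pow i hv)) d.V.one_mem h1
  rw [pow_zero, pow_add] at h3
  rcases d.pow_eq_one_or_J h3 with e | e
  · exfalso
    rw [e, one_mul, inv_one, mul_one] at h2
    exact hne (by rw [d.eq_one_of_sq hv h2, e, mul_one])
  · rw [e, (d.commute_J hv).eq, mul_inv_cancel_right] at h2
    rw [d.eq_one_of_sq hv h2, e, one_mul]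

/-- Every element of `K` off `V` has `J` as a power. -/
theorem exists_pow_eq_J {v : G} (hv : v ∈ d.V) {i : ℕ} (hi : σ ^ i ≠ 1) :
    ∃ e : ℕ, (v * σ ^ i) ^ e = σ ^ M₀ := by
  obtain ⟨k, hk⟩ := d.two_pow
  have hi2 : (σ ^ i) ^ 2 ^ k = 1 := by
    rw [← pow_mul, ← hk, mul_comm, pow_mul, pow_orderOf_eq_one, one_pow]
  obtain ⟨s, -, hs⟩ := (Nat.dvd_prime_pow Nat.prime_two).1 (orderOf_dvd_of_pow_eq_one hi2)
  obtain ⟨t, rfl⟩ : ∃ t, s = t + 1 := by
    rcases s with _ | t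
    · rw [pow_zero, orderOf_eq_one_iff] at hs; exact absurd hs hi
    · exact ⟨t, rfl⟩
  set m := 2 ^ t with hm
  have hJ : σ ^ (i * m) = σ ^ M₀ := by
    refine (d.pow_eq_one_or_J ?_).resolve_left fun h => ?_
    · rw [← pow_add, ← mul_two, mul_assoc, hm, ← pow_succ, pow_mul, ← hs, pow_orderOf_eq_one]
    · rw [pow_mul] at h
      have h1 := Nat.le_of_dvd (pow_pos (by norm_num) _) (orderOf_dvd_of_pow_eq_one h)
      rw [hs, pow_succ] at h1
      have : 0 < 2 ^ t := pow_pos (by norm_num) _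
      omega
  have hpow : ∀ a : ℕ, ∃ w ∈ d.V, (v * σ ^ i) ^ a = w * σ ^ (i * a) := by
    intro a
    induction a with
    | zero => exact ⟨1, d.V.one_mem, by simp⟩
    | succ a ih =>
      obtain ⟨w, hw, he⟩ := ih
      refine ⟨w * (σ ^ (i * a) * v * (σ ^ (i * a))⁻¹), mul_mem hw (d.norm_pow _ hv), ?_⟩
      rw [pow_succ (v * σ ^ i) a, he, mul_add, mul_one, pow_add]
      group
  obtain ⟨w, hw, hwe⟩ := hpow m
  rw [hJ] at hwe
  have hco : (Nat.card d.V).Coprime (orderOf (σ ^ M₀)) := by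
    rw [d.orderOf_J]; exact Nat.coprime_two_right.2 d.oddV
  obtain ⟨a, ha⟩ := GlauCyclic.mul_pow_eq_self hco
  exact ⟨m * a, by rw [pow_mul, hwe, ha w hw (d.commute_J hw).symm]⟩

/-- Conjugation inside `C(J)` fixes or inverts the rotation part. -/
theorem conj_tau {v : G} (hv : v ∈ d.V) (i : ℕ) :
    ∃ w ∈ d.V, τ * (v * σ ^ i) * τ⁻¹ = w * (σ ^ i)⁻¹ :=
  ⟨τ * v * τ⁻¹, d.normV τ d.commute_J_t v hv, by rw [← d.conj_pow_eq i]; group⟩

theorem tau_notin_K : τ ∉ d.K := by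
  rintro ⟨v, hv, i, h⟩
  exact d.mul_pow_ne hv d.V.one_mem i 0 (by rw [← h, pow_zero, one_mul, one_mul])

theorem mul_tau_notin_K {x : G} (hx : x ∈ d.K) : x * τ ∉ d.K := fun h =>
  d.tau_notin_K (by simpa using mul_mem (inv_mem hx) h)

theorem centralizer_cases {c : G} (hc : Commute (σ ^ M₀) c) :
    c ∈ d.K ∨ ∃ k ∈ d.K, c = k * τ := by
  obtain ⟨v, hv, i, h | h⟩ := d.decomp c hc
  · exact Or.inl ⟨v, hv, i, h⟩
  · exact Or.inr ⟨v * σ ^ i, d.mul_pow_mem_K hv i, by rw [h, mul_assoc]⟩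

/-- The root of unity. -/
noncomputable def zeta (_d : Core σ τ M₀) : ℂ :=
  Complex.exp (2 * Real.pi * Complex.I / (2 * M₀ : ℕ))

theorem isPrimitiveRoot_zeta : IsPrimitiveRoot d.zeta (2 * M₀) :=
  Complex.isPrimitiveRoot_exp _ (by have := d.hM0; omega)

theorem zeta_ne_zero : d.zeta ≠ 0 :=
  d.isPrimitiveRoot_zeta.ne_zero (by have := d.hM0; omega)

theorem zeta_pow_congr {i j : ℕ} (h : i ≡ j [MOD 2 * M₀]) : d.zeta ^ i = d.zeta ^ j := by
  have key : ∀ a, d.zeta ^ a = d.zeta ^ (a % (2 * M₀)) := fun a => by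
    conv_lhs => rw [← Nat.div_add_mod a (2 * M₀), pow_add, pow_mul,
      d.isPrimitiveRoot_zeta.pow_eq_one, one_pow, one_mul]
  rw [key i, key j, h]

theorem zeta_pow_M : d.zeta ^ M₀ = -1 := by
  have h := d.isPrimitiveRoot_zeta.pow (by have := d.hM0; omega) (mul_comm 2 M₀)
  exact h.eq_neg_one_of_two_right

theorem conj_zeta : conj d.zeta = d.zeta⁻¹ := by
  have h := Complex.inv_eq_conj (d.isPrimitiveRoot_zeta.norm'_eq_one (by have := d.hM0; omega))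
  exact h.symm

open Classical in
/-- The linear character of `V⟨σ⟩`. -/
noncomputable def lam : d.K →* ℂ where
  toFun k := d.zeta ^ k.2.choose_spec.2.choose
  map_one' := by
    set h := (1 : d.K).2
    have h1 := h.choose_spec.2.choose_spec
    have h2 : h.choose * σ ^ h.choose_spec.2.choose = 1 * σ ^ 0 := by
      rw [← h1, pow_zero, mul_one]; rfl
    exact (d.zeta_pow_congr (d.exponent_congr h.choose_spec.1 d.V.one_mem h2)).trans (pow_zero _)
  map_mul' a b := by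
    rw [← pow_add]
    refine d.zeta_pow_congr (d.exponent_congr (a * b).2.choose_spec.1
      (mul_mem a.2.choose_spec.1 (d.norm_pow a.2.choose_spec.2.choose b.2.choose_spec.1)) ?_)
    rw [← (a * b).2.choose_spec.2.choose_spec, Subgroup.coe_mul]
    conv_lhs => rw [a.2.choose_spec.2.choose_spec, b.2.choose_spec.2.choose_spec]
    rw [pow_add]
    group

theorem lam_apply {k : d.K} {v : G} (hv : v ∈ d.V) {i : ℕ} (h : (k : G) = v * σ ^ i) :
    d.lam k = d.zeta ^ i := by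
  show d.zeta ^ k.2.choose_spec.2.choose = _
  exact d.zeta_pow_congr (d.exponent_congr k.2.choose_spec.1 hv
    (k.2.choose_spec.2.choose_spec.symm.trans h))

theorem lam_of_mem_V {k : d.K} (h : (k : G) ∈ d.V) : d.lam k = 1 := by
  rw [d.lam_apply h (i := 0) (by rw [pow_zero, mul_one]), pow_zero]

/-- `K` as `V` times the residues of exponents. -/
theorem sum_K [Fintype d.V] [Fintype d.K] {R : Type*} [AddCommMonoid R] (f : G → R) :
    ∑ k : d.K, f k = ∑ i : Fin (2 * M₀), ∑ v : d.V, f ((v : G) * σ ^ (i : ℕ)) := by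
  rw [← Fintype.sum_prod_type' fun (i : Fin (2 * M₀)) (v : d.V) => f ((v : G) * σ ^ (i : ℕ))]
  refine (Fintype.sum_equiv (Equiv.ofBijective
    (fun p : Fin (2 * M₀) × d.V => (⟨(p.2 : G) * σ ^ (p.1 : ℕ), d.mul_pow_mem_K p.2.2 _⟩ : d.K))
    ⟨?_, ?_⟩) _ _ fun p => rfl).symm
  · rintro ⟨i, v⟩ ⟨j, w⟩ h
    have h' := congrArg Subtype.val h
    obtain ⟨h1, -⟩ := d.mul_pow_inj v.2 w.2 h'
    have h2 := d.exponent_congr v.2 w.2 h'
    exact Prod.ext (Fin.ext (h2.eq_of_lt_of_lt i.2 j.2)) (Subtype.ext h1)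
  · rintro ⟨_, v, hv, i, rfl⟩
    refine ⟨(⟨i % (2 * M₀), Nat.mod_lt _ (by have := d.hM0; omega)⟩, ⟨v, hv⟩), Subtype.ext ?_⟩
    show v * σ ^ (i % (2 * M₀)) = v * σ ^ i
    rw [← d.hord, pow_mod_orderOf]

theorem card_K : Nat.card d.K = 2 * M₀ * Nat.card d.V := by
  classical
  haveI := Fintype.ofFinite d.V
  haveI := Fintype.ofFinite d.K
  have h := d.sum_K (fun _ => (1 : ℕ))
  simpa [Nat.card_eq_fintype_card] using h

theorem sum_zeta_pow : ∑ i : Fin (2 * M₀), d.zeta ^ (i : ℕ) = 0 := by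
  rw [Fin.sum_univ_eq_sum_range fun i => d.zeta ^ i]
  exact d.isPrimitiveRoot_zeta.geom_sum_eq_zero (by have := d.hM0; omega)

theorem sum_zeta_sq_pow : ∑ i : Fin (2 * M₀), (d.zeta ^ (i : ℕ)) ^ 2 = 0 := by
  have h0 : 1 < M₀ := by
    obtain ⟨m, hm⟩ := d.hM
    have := d.hM0
    omega
  have h := d.isPrimitiveRoot_zeta.pow (by omega) (show 2 * M₀ = 2 * M₀ by rfl)
  rw [Fin.sum_univ_eq_sum_range fun i => (d.zeta ^ i) ^ 2]
  simp only [← pow_mul, mul_comm _ 2]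
  simp only [pow_mul]
  rw [two_mul M₀, Finset.sum_range_add, h.geom_sum_eq_zero h0, zero_add]
  simp only [pow_add, h.pow_eq_one, one_mul]
  exact h.geom_sum_eq_zero h0

theorem sum_zeta_inv_pow : ∑ i : Fin (2 * M₀), (d.zeta ^ (i : ℕ))⁻¹ = 0 := by
  simp only [← inv_pow]
  rw [Fin.sum_univ_eq_sum_range fun i => d.zeta⁻¹ ^ i]
  exact d.isPrimitiveRoot_zeta.inv.geom_sum_eq_zero (by have := d.hM0; omega)

end Core

end Cfsg.Agent.DihedralBlock
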