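import Cfsg.Agent.Lib.DihedralBlock.SevenWeights

/-!
# The case `|V| = 9`: the kernel of the fixed part of `D` on the centraliser of `D`

The mean of `χ` over `D = ⟨z⟩` is a character of `C(z)` of degree 7; its kernel `X` has odd order,
contains `V` and is normalised by the normaliser of `D`.
-/

set_option autoImplicit false
set_option linter.style.haveILetI false
set_option linter.unusedSectionVars false

namespace Cfsg.Agent.DihedralBlock.Seven

open Cfsg Subgroup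

universe u

/-- The data of the impossible case `|V| = 9`. -/
structure Nine {G : Type u} [Group G] [Fintype G] {σ τ : G} {M₀ : ℕ} (d : Data σ τ M₀)
    (χ : IrrCharacter G) (z : G) : Prop where
  ctx : Ctx d χ 15
  hD' : (d.V ⊓ centralizer ({σ * τ} : Set G) : Subgroup G) = ⊥
  hD : (d.V ⊓ centralizer ({τ} : Set G) : Subgroup G) = zpowers z
  hz : orderOf z = 3
  hE : Nat.card (d.V ⊓ centralizer ({σ} : Set G) : Subgroup G) = 3
  hG : Nat.card G = 68040

variable {G : Type u} [Group G] [Fintype G] [IsSimpleGroup G] {σ τ : G} {M₀ : ℕ} {d : Data σ τ M₀}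
  {χ : IrrCharacter G} {z : G}

namespace Nine

variable (c : Nine d χ z)
include c

theorem z_mem : z ∈ (d.V ⊓ centralizer ({τ} : Set G) : Subgroup G) := c.hD.symm ▸ mem_zpowers z

theorem z_ne_one : z ≠ 1 := fun h => by
  have := c.hz
  rw [h, orderOf_one] at this
  omega

theorem cardD : Nat.card (d.V ⊓ centralizer ({τ} : Set G) : Subgroup G) = 3 := by
  rw [c.hD, Nat.card_zpowers, c.hz]

theorem cardV : Nat.card d.V = 9 := by rw [c.ctx.card_V c.hD', c.cardD, c.hE]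

theorem J_z : Commute (σ ^ M₀) z := d.commute_J c.z_mem.1

theorem tau_z : Commute τ z := (mem_centralizer_singleton_iff.1 c.z_mem.2).symm

theorem apply_D {y : G} (hy : y ∈ zpowers z) (hy1 : y ≠ 1) : χ.1 y = 3 :=
  c.ctx.apply_eq_three (IsPGroup.of_card (n := 1) (c.cardD.trans (pow_one 3).symm)) rfl c.ctx.avgD
    (c.hD ▸ hy) hy1

theorem apply_E {y : G} (hy : y ∈ (d.V ⊓ centralizer ({σ} : Set G) : Subgroup G)) (hy1 : y ≠ 1) :
    χ.1 y = 3 :=
  c.ctx.apply_eq_three (IsPGroup.of_card (n := 1) (c.hE.trans (pow_one 3).symm)) rfl c.ctx.avgE hy hy1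

theorem tau_inv {b : G} (hb : b ∈ (d.V ⊓ centralizer ({σ} : Set G) : Subgroup G)) :
    τ * b * τ⁻¹ = b⁻¹ := by
  have h1 : σ⁻¹ * b * σ = b := by
    rw [mul_assoc, (mem_centralizer_singleton_iff.1 hb.2), inv_mul_cancel_left]
  calc τ * b * τ⁻¹ = τ * (σ⁻¹ * b * σ) * τ⁻¹ := by rw [h1]
    _ = (τ * σ⁻¹ * τ⁻¹) * (τ * b * τ⁻¹) * (τ * σ⁻¹ * τ⁻¹)⁻¹ := by group
    _ = σ * (τ * b * τ⁻¹) * σ⁻¹ := by rw [show τ * σ⁻¹ * τ⁻¹ = σ by rw [← conj_inv, d.inv, inv_inv]]
    _ = σ * τ * b * (σ * τ)⁻¹ := by group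
    _ = b⁻¹ := c.ctx.inverted c.hD' b hb.1

theorem apply_mixed {a b : G} (ha : a ∈ zpowers z) (ha1 : a ≠ 1)
    (hb : b ∈ (d.V ⊓ centralizer ({σ} : Set G) : Subgroup G)) (hb1 : b ≠ 1) :
    χ.1 (a * b) = 9 := by
  classical
  have haV : a ∈ d.V := ((c.hD.symm ▸ ha : a ∈ (d.V ⊓ centralizer ({τ} : Set G) : Subgroup G))).1
  have hat : Commute τ a := by
    obtain ⟨k, rfl⟩ := ha
    exact c.tau_z.zpow_right k
  obtain ⟨x, hx⟩ := c.ctx.exists_int (a * b)
  have hcl := Char.IsCharacter.isClassFunction (Char.irr_isCharacter χ)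
  -- the values on `(a^±1, b^±1)` agree
  have hx1 : χ.1 (a * b⁻¹) = x := by
    rw [← hx, ← hcl (a * b) τ]
    refine congrArg χ.1 ?_
    calc a * b⁻¹ = τ * a * τ⁻¹ * (τ * b * τ⁻¹) := by rw [c.tau_inv hb, hat.eq, mul_inv_cancel_right]
      _ = τ * (a * b) * τ⁻¹ := by group
  have hx2 : χ.1 (a⁻¹ * b⁻¹) = x := by
    rw [← hx, ← c.ctx.apply_inv (a * b), mul_inv_rev, (c.ctx.commV c.hD' (inv_mem hb.1) (inv_mem haV)).eq]
  have hx3 : χ.1 (a⁻¹ * b) = x := by
    rw [← hx1, ← c.ctx.apply_inv (a * b⁻¹), mul_inv_rev, inv_inv,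
      (c.ctx.commV c.hD' hb.1 (inv_mem haV)).eq]
  -- the sum over `V`
  haveI := Fintype.ofFinite d.V
  obtain ⟨k, hk⟩ := Char.IsCharacter.exists_nat_classInner
    (Char.IsCharacter.restrict (Char.irr_isCharacter χ) d.V) (Char.isCharacter_one (G := d.V))
  have ha3 : orderOf a = 3 := by
    have h := Subgroup.orderOf_dvd_natCard _ (c.hD.symm ▸ ha : a ∈ (d.V ⊓ centralizer ({τ} : Set G) : Subgroup G))
    rw [c.cardD] at h
    exact ((Nat.dvd_prime Nat.prime_three).1 h).resolve_left (fun e => ha1 (orderOf_eq_one_iff.1 e))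
  have hb3 : orderOf b = 3 := by
    have h := Subgroup.orderOf_dvd_natCard _ hb
    rw [c.hE] at h
    exact ((Nat.dvd_prime Nat.prime_three).1 h).resolve_left (fun e => hb1 (orderOf_eq_one_iff.1 e))
  let F : Fin 3 × Fin 3 → d.V := fun p =>
    ⟨a ^ (p.1 : ℕ) * b ^ (p.2 : ℕ), mul_mem (pow_mem haV _) (pow_mem hb.1 _)⟩
  have hbij : Function.Bijective F := by
    refine (Nat.bijective_iff_injective_and_card F).2 ⟨fun p q h => ?_, ?_⟩
    · have h' := congrArg Subtype.val h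
      simp only [F] at h'
      have hd := Subgroup.mul_injective_of_disjoint (disjoint_iff.2 (c.ctx.inf_eq_bot c.hD'))
        (a₁ := (⟨a ^ (p.1 : ℕ), pow_mem (c.hD.symm ▸ ha) _⟩, ⟨b ^ (p.2 : ℕ), pow_mem hb _⟩))
        (a₂ := (⟨a ^ (q.1 : ℕ), pow_mem (c.hD.symm ▸ ha) _⟩, ⟨b ^ (q.2 : ℕ), pow_mem hb _⟩)) h'
      have h1 : a ^ (p.1 : ℕ) = a ^ (q.1 : ℕ) := congrArg Subtype.val (congrArg Prod.fst hd)
      have h2 : b ^ (p.2 : ℕ) = b ^ (q.2 : ℕ) := congrArg Subtype.val (congrArg Prod.snd hd)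
      exact Prod.ext (Fin.ext (pow_injOn_Iio_orderOf (by simp [ha3, p.1.2]) (by simp [ha3, q.1.2]) h1))
        (Fin.ext (pow_injOn_Iio_orderOf (by simp [hb3, p.2.2]) (by simp [hb3, q.2.2]) h2))
    · rw [Nat.card_prod, Nat.card_eq_fintype_card, Fintype.card_fin, c.cardV]
  have ha2 : a ^ 2 = a⁻¹ := by
    rw [← mul_eq_one_iff_eq_inv, ← pow_succ, show 2 + 1 = orderOf a by rw [ha3], pow_orderOf_eq_one]
  have hb2 : b ^ 2 = b⁻¹ := by
    rw [← mul_eq_one_iff_eq_inv, ← pow_succ, show 2 + 1 = orderOf b by rw [hb3], pow_orderOf_eq_one]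
  have hsum : ∑ v : d.V, χ.1 (v : G) = 27 + 4 * (x : ℂ) := by
    rw [← Fintype.sum_bijective F hbij (fun p => χ.1 (F p : G)) _ fun p => rfl]
    simp only [F, Fintype.sum_prod_type, Fin.sum_univ_three, Fin.val_zero, Fin.val_one, Fin.val_two,
      pow_zero, pow_one, one_mul, mul_one, ha2, hb2]
    rw [c.ctx.deg, c.apply_E hb hb1, c.apply_E (inv_mem hb) (inv_ne_one.2 hb1), c.apply_D ha ha1,
      c.apply_D (inv_mem ha) (inv_ne_one.2 ha1), hx, hx1, hx2, hx3]
    push_cast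
    ring
  rw [classInner] at hk
  simp only [map_one, mul_one] at hk
  rw [hsum, c.cardV] at hk
  have hk' : 27 + 4 * x = 9 * (k : ℤ) := by
    apply (Int.cast_injective (α := ℂ))
    push_cast at hk ⊢
    linear_combination 9 * hk
  -- parity
  obtain ⟨w, hw⟩ : ∃ w : ℤ, (χ.1 (a * b) - 1) / 2 = w :=
    Char.exists_int_of_forall_pow c.ctx.avgJ (⟨a * b, mul_mem haV hb.1⟩ : d.V) fun j hj => by
      rw [← Subgroup.orderOf_coe] at hj
      simp only [Subgroup.coe_pow, c.ctx.fixed _ j hj]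
  have hodd : x = 2 * w + 1 := by
    apply (Int.cast_injective (α := ℂ))
    rw [hx] at hw
    push_cast
    linear_combination 2 * hw
  -- the bound
  have hbd := CharInt.norm_char_le (Char.irr_isCharacter χ) (a * b)
  rw [hx, c.ctx.deg, Complex.norm_natCast, Complex.norm_intCast] at hbd
  have hbd' : |x| ≤ 15 := by exact_mod_cast hbd
  rw [abs_le] at hbd'
  rw [hx]
  have : x = 9 := by omega
  exact_mod_cast this

/-- The mean of `χ` over `D`, as a function on `G`. -/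
noncomputable def psi (_ : Nine d χ z) (g : G) : ℂ :=
  (χ.1 g + χ.1 (z * g) + χ.1 (z⁻¹ * g)) / 3

theorem z_sq : z ^ 2 = z⁻¹ := by
  rw [← mul_eq_one_iff_eq_inv, ← pow_succ, show 2 + 1 = orderOf z by rw [c.hz], pow_orderOf_eq_one]

theorem isCharacter_psi :
    IsCharacter (centralizer ({z} : Set G)) fun g : centralizer ({z} : Set G) => c.psi g := by
  classical
  haveI := Fintype.ofFinite (zpowers z)
  have h := isCharacter_average (Char.irr_isCharacter χ) (zpowers z).subtype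
    (centralizer ({z} : Set G)).subtype (by
      rintro ⟨_, k, rfl⟩ ⟨y, hy⟩
      exact Commute.zpow_left (show Commute z y from (mem_centralizer_singleton_iff.1 hy).symm) k)
  have e : (fun g : centralizer ({z} : Set G) => c.psi g) = fun g : centralizer ({z} : Set G) =>
      (Nat.card (zpowers z) : ℂ)⁻¹ *
        ∑ a : zpowers z, χ.1 ((zpowers z).subtype a * (centralizer ({z} : Set G)).subtype g) := by
    funext g
    simp only [Subgroup.coe_subtype]
    rw [sum_zpowers (x := z) c.hz (fun a => χ.1 (a * (g : G))), Nat.card_zpowers, c.hz]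
    simp only [Finset.sum_range_succ, Finset.sum_range_zero, zero_add, pow_zero, pow_one, one_mul,
      c.z_sq, psi]
    push_cast
    ring
  rw [e]
  exact h

theorem psi_one : c.psi 1 = 7 := by
  rw [psi, mul_one, mul_one, c.ctx.deg, c.apply_D (mem_zpowers z) c.z_ne_one,
    c.apply_D (inv_mem (mem_zpowers z)) (inv_ne_one.2 c.z_ne_one)]
  norm_num

theorem psi_invol {u : G} (hu : orderOf u = 2) (huz : Commute u z) : c.psi u = -1 := by
  have ho : Odd (orderOf z) := by rw [c.hz]; decide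
  have h1 := c.ctx.val_inv u 1 hu (Commute.one_right u) (by rw [orderOf_one]; exact odd_one)
  rw [mul_one] at h1
  rw [psi, huz.symm.eq, huz.inv_right.symm.eq, h1, c.ctx.val_inv u z hu huz ho,
    c.ctx.val_inv u z⁻¹ hu huz.inv_right (by rwa [orderOf_inv])]
  norm_num

theorem eq_of_mem_zpowers {y : G} (hy : y ∈ zpowers z) : y = 1 ∨ y = z ∨ y = z⁻¹ := by
  classical
  obtain ⟨i, hi, rfl⟩ := Finset.mem_image.1 ((mem_zpowers_iff_mem_range_orderOf).1 hy)
  rw [Finset.mem_range, c.hz] at hi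
  obtain rfl | rfl | rfl : i = 0 ∨ i = 1 ∨ i = 2 := by omega
  · exact Or.inl (pow_zero z)
  · exact Or.inr (Or.inl (pow_one z))
  · exact Or.inr (Or.inr c.z_sq)

theorem psi_conj {g : G} (hg : g * z * g⁻¹ ∈ zpowers z) (x : G) : c.psi (g * x * g⁻¹) = c.psi x := by
  have hcl := Char.IsCharacter.isClassFunction (Char.irr_isCharacter χ)
  have hmove : ∀ w : G, χ.1 (g * w * g⁻¹ * (g * x * g⁻¹)) = χ.1 (w * x) := fun w => by
    rw [← hcl (w * x) g]; congr 1; group
  have hne : g * z * g⁻¹ ≠ 1 := fun e => c.z_ne_one (conj_eq_one_iff.1 e)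
  have h1 := hmove z
  have h2 := hmove z⁻¹
  rw [← conj_inv] at h2
  rcases (c.eq_of_mem_zpowers hg).resolve_left hne with e | e <;> rw [e] at h1 h2
  · rw [psi, psi, hcl x g, h1, h2]
  · rw [inv_inv] at h2
    rw [psi, psi, hcl x g, h1, h2]
    ring

/-- The kernel of the fixed part of `D`. -/
noncomputable def X (c : Nine d χ z) : Subgroup G :=
  (CharInt.charKernel c.isCharacter_psi).map (centralizer ({z} : Set G)).subtype

theorem mem_X {g : G} : g ∈ c.X ↔ Commute g z ∧ c.psi g = 7 := by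
  constructor
  · rintro ⟨g', hg, rfl⟩
    have h : c.psi (g' : G) = c.psi ((1 : centralizer ({z} : Set G)) : G) := hg
    rw [Subgroup.coe_one, c.psi_one] at h
    exact ⟨mem_centralizer_singleton_iff.1 g'.2, h⟩
  · rintro ⟨hgz, hg⟩
    refine ⟨⟨g, mem_centralizer_singleton_iff.2 hgz.eq⟩, ?_, rfl⟩
    show c.psi g = c.psi ((1 : centralizer ({z} : Set G)) : G)
    rw [hg, Subgroup.coe_one, c.psi_one]

theorem commute_z {x : G} (hx : x ∈ c.X) : Commute x z := (c.mem_X.1 hx).1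

theorem V_le_X : d.V ≤ c.X := by
  intro v hv
  refine c.mem_X.2 ⟨c.ctx.commV c.hD' hv c.z_mem.1, ?_⟩
  obtain ⟨a, ha, b, hb, rfl⟩ := c.ctx.exists_split c.hD' hv
  rw [c.hD] at ha
  have hzz : z * z = z⁻¹ := by rw [← pow_two, c.z_sq]
  have hzz' : z⁻¹ * z⁻¹ = z := by rw [← mul_inv_rev, hzz, inv_inv]
  rcases eq_or_ne b 1 with rfl | hb1
  · rw [mul_one]
    rcases c.eq_of_mem_zpowers ha with e | e | e <;> rw [e]
    · exact c.psi_one
    · rw [psi, inv_mul_cancel, hzz, c.apply_D (mem_zpowers z) c.z_ne_one,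
        c.apply_D (inv_mem (mem_zpowers z)) (inv_ne_one.2 c.z_ne_one), c.ctx.deg]
      norm_num
    · rw [psi, mul_inv_cancel, hzz', c.apply_D (inv_mem (mem_zpowers z)) (inv_ne_one.2 c.z_ne_one),
        c.apply_D (mem_zpowers z) c.z_ne_one, c.ctx.deg]
      norm_num
  · have hz1 := c.apply_mixed (mem_zpowers z) c.z_ne_one hb hb1
    have hz2 := c.apply_mixed (inv_mem (mem_zpowers z)) (inv_ne_one.2 c.z_ne_one) hb hb1
    have hb3 := c.apply_E hb hb1
    rw [psi, ← mul_assoc z, ← mul_assoc z⁻¹]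
    rcases c.eq_of_mem_zpowers ha with e | e | e <;> rw [e]
    · rw [one_mul, mul_one, mul_one, hz1, hz2, hb3]; norm_num
    · rw [hzz, inv_mul_cancel, one_mul, hz1, hz2, hb3]; norm_num
    · rw [mul_inv_cancel, hzz', one_mul, hz1, hz2, hb3]; norm_num

theorem odd_X : Odd (Nat.card c.X) := by
  by_contra h
  obtain ⟨x, hx⟩ := exists_prime_orderOf_dvd_card' (G := c.X) 2
    (even_iff_two_dvd.mp (Nat.not_odd_iff_even.mp h))
  rw [← Subgroup.orderOf_coe] at hx
  obtain ⟨hxz, hpsi⟩ := c.mem_X.1 x.2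
  rw [c.psi_invol hx hxz] at hpsi
  norm_num at hpsi

theorem conj_mem_X {g : G} (hg : g * z * g⁻¹ ∈ zpowers z) {x : G} (hx : x ∈ c.X) :
    g * x * g⁻¹ ∈ c.X := by
  obtain ⟨hxz, hpsi⟩ := c.mem_X.1 hx
  refine c.mem_X.2 ⟨?_, by rw [c.psi_conj hg, hpsi]⟩
  have h1 : Commute (g * x * g⁻¹) (g * z * g⁻¹) := by
    show _ = _
    rw [← conj_mul.symm, ← conj_mul.symm, hxz.eq]
  rcases (c.eq_of_mem_zpowers hg).resolve_left (fun e => c.z_ne_one (conj_eq_one_iff.1 e)) with e | e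
    <;> rw [e] at h1
  · exact h1
  · exact Commute.inv_right_iff.1 h1

theorem le_normalizer_X : normalizer ((zpowers z : Subgroup G) : Set G) ≤ normalizer (c.X : Set G) := by
  intro g hg
  have h1 : g * z * g⁻¹ ∈ zpowers z := (mem_normalizer_iff.1 hg z).1 (mem_zpowers z)
  have h2 : g⁻¹ * z * g⁻¹⁻¹ ∈ zpowers z :=
    (mem_normalizer_iff.1 (inv_mem hg) z).1 (mem_zpowers z)
  refine mem_normalizer_iff.2 fun x => ⟨c.conj_mem_X h1, fun hx => ?_⟩
  have := c.conj_mem_X h2 hx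
  simpa [mul_assoc] using this

end Nine

end Cfsg.Agent.DihedralBlock.Seven
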