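import Cfsg.Agent.Lib.DihedralBlock.SevenKernel
import Cfsg.Agent.Lib.Coprime.Sylow
import Cfsg.Agent.Lib.Offender.Thompson
import Cfsg.Agent.Lib.SmallSimple.Low
import Cfsg.Agent.Lib.Order2520.Main
import Mathlib.GroupTheory.IndexNormal

/-!
# The case `d' = 1 < d` gives `A₇`

For `|V| = 9` the kernel `X` is a 3-group of order 81 whose normaliser has index 35; as `35 ≢ 1`
modulo 3, `X` fixes a second point, which is impossible.  Hence `|G| = 2520`.
-/

set_option autoImplicit false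
set_option linter.style.haveILetI false
set_option linter.unusedSectionVars false

namespace Cfsg.Agent.DihedralBlock.Seven

open Cfsg Subgroup
open scoped Pointwise

universe u

variable {G : Type u} [Group G] [Fintype G] [IsSimpleGroup G] {σ τ : G} {M₀ : ℕ} {d : Data σ τ M₀}
  {χ : IrrCharacter G} {z : G}

namespace Nine

variable (c : Nine d χ z)
include c

theorem sigma_sq : σ * σ = σ ^ M₀ := by rw [c.ctx.two, pow_two]

theorem sigma_J : Commute σ (σ ^ M₀) := Commute.self_pow σ M₀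

/-- An element swapping `J` and `τ`. -/
theorem exists_swap : ∃ h : G, h * σ ^ M₀ * h⁻¹ = τ ∧ h * τ * h⁻¹ = σ ^ M₀ := by
  obtain ⟨g, hg⟩ := isConj_iff.1 (d.conjAll τ c.ctx.tau_order)
  set J := σ ^ M₀ with hJ
  set J' := g⁻¹ * J * g with hJ'
  have hgJ' : g * J' * g⁻¹ = J := by rw [hJ']; group
  have hJJ : Commute J J' := by
    refine (Commute.conj_iff g).1 ?_
    rw [hg, hgJ']
    exact d.commute_J_t.symm
  have hJ'2 : J' * J' = 1 := by
    rw [hJ']
    calc g⁻¹ * J * g * (g⁻¹ * J * g) = g⁻¹ * (J * J) * g := by group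
      _ = 1 := by rw [hJ, d.J_sq]; group
  have hJ'1 : J' ≠ 1 := fun e => d.J_ne_one (by rw [← hJ, ← hgJ', e]; group)
  have hJ'J : J' ≠ J := fun e => c.ctx.tau_ne_one (by
    have h1 : τ = J := by rw [← hg]; conv_lhs => rw [← e]
                          exact hgJ'
    exfalso
    refine d.mul_tau_notin_K d.K.one_mem ?_
    rw [one_mul]
    exact Eq.substr (p := fun x => x ∈ d.K) h1 (by rw [hJ]; simpa using d.mul_pow_mem_K d.V.one_mem M₀))
  obtain ⟨v, hv, i, hi⟩ := d.decomp J' hJJ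
  rcases hi with hi | hi
  · exfalso
    have h0 : v * σ ^ i * (v * σ ^ i) = 1 * σ ^ 0 := by rw [← hi, hJ'2, pow_zero, one_mul]
    rw [show v * σ ^ i * (v * σ ^ i) = v * (σ ^ i * v * (σ ^ i)⁻¹) * σ ^ (i + i) by
      rw [pow_add]; group] at h0
    obtain ⟨h1, h2⟩ := d.mul_pow_inj (mul_mem hv (d.normV _ (d.commute_J_pow i) v hv)) d.V.one_mem h0
    rcases d.pow_eq_one_or_J (show σ ^ i * σ ^ i = 1 by rw [← pow_add, h2, pow_zero]) with e | e
    · rw [e, mul_one] at hi
      exact hJ'1 (hi.trans (d.eq_one_of_sq hv (by rw [← hi, hJ'2])))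
    · rw [e] at hi h1
      rw [(d.commute_J hv).eq, mul_inv_cancel_right] at h1
      rw [d.eq_one_of_sq hv h1, one_mul] at hi
      exact hJ'J hi
  set r := σ ^ i * τ with hr
  have hr2 : r * r = 1 := by
    rw [hr, mul_assoc, ← mul_assoc τ, d.t_mul_pow, mul_assoc, d.tsq, mul_one, mul_inv_cancel]
  have hrv : r * v * r⁻¹ = v⁻¹ := by
    refine eq_inv_of_mul_eq_one_right ?_
    calc v * (r * v * r⁻¹) = (v * r) * (v * r) * (r * r)⁻¹ := by group
      _ = 1 := by rw [← hi, hJ'2, hr2]; group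
  obtain ⟨j, hj⟩ := d.odd_of_mem hv
  set w := v ^ (j + 1) with hw
  have hwc : w * r * w⁻¹ = J' := by
    have h1 : r * w⁻¹ * r⁻¹ = w := by rw [hw, ← conj_inv, ← conj_pow, hrv, inv_pow, inv_inv]
    calc w * r * w⁻¹ = w * (r * w⁻¹ * r⁻¹) * r := by group
      _ = w * w * r := by rw [h1]
      _ = J' := by rw [hi, hw, ← pow_add, show j + 1 + (j + 1) = orderOf v + 1 by omega, pow_succ,
                    pow_orderOf_eq_one, one_mul]
  have hwJ : Commute J w := (d.commute_J hv).pow_right _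
  have hconjm : ∀ m : ℕ, ∀ x : ℕ, σ ^ m * (σ ^ x * τ) * (σ ^ m)⁻¹ = σ ^ (m + x + m) * τ := by
    intro m x
    have : τ * (σ ^ m)⁻¹ = σ ^ m * τ := by
      have h := d.conj_pow_eq m
      rw [mul_inv_eq_iff_eq_mul] at h
      calc τ * (σ ^ m)⁻¹ = τ * ((σ ^ m)⁻¹ * τ) * τ⁻¹ := by group
        _ = τ * (τ * σ ^ m) * τ⁻¹ := by rw [h]
        _ = τ * τ * σ ^ m * τ⁻¹ := by group
        _ = σ ^ m * τ := by rw [d.tsq, one_mul, d.tinv]
    rw [pow_add, pow_add]
    calc σ ^ m * (σ ^ x * τ) * (σ ^ m)⁻¹ = σ ^ m * σ ^ x * (τ * (σ ^ m)⁻¹) := by group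
      _ = _ := by rw [this, ← mul_assoc]
  obtain ⟨m, hm | hm⟩ : ∃ m : ℕ, i = 2 * m ∨ i = 2 * m + 1 := ⟨i / 2, by omega⟩
  · have hk : (w * σ ^ m) * τ * (w * σ ^ m)⁻¹ = J' := by
      rw [← hwc, hr, hm, show 2 * m = m + 0 + m by omega, ← hconjm, pow_zero, one_mul]; group
    have hkJ : Commute J (w * σ ^ m) := hwJ.mul_right (d.commute_J_pow m)
    refine ⟨g * (w * σ ^ m), ?_, ?_⟩
    · calc g * (w * σ ^ m) * J * (g * (w * σ ^ m))⁻¹
          = g * ((w * σ ^ m) * J * (w * σ ^ m)⁻¹) * g⁻¹ := by group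
        _ = τ := by rw [← hkJ.eq, mul_inv_cancel_right, hg]
    · calc g * (w * σ ^ m) * τ * (g * (w * σ ^ m))⁻¹
          = g * ((w * σ ^ m) * τ * (w * σ ^ m)⁻¹) * g⁻¹ := by group
        _ = J := by rw [hk, hgJ']
  · exfalso
    have hk : (w * σ ^ m) * (σ * τ) * (w * σ ^ m)⁻¹ = J' := by
      rw [← hwc, hr, hm, show 2 * m + 1 = m + 1 + m by omega, ← hconjm, pow_one]; group
    set h := g * (w * σ ^ m) with hh
    have hhJ : h * J * h⁻¹ = τ := by
      rw [hh]
      calc g * (w * σ ^ m) * J * (g * (w * σ ^ m))⁻¹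
          = g * ((w * σ ^ m) * J * (w * σ ^ m)⁻¹) * g⁻¹ := by group
        _ = τ := by rw [← (hwJ.mul_right (d.commute_J_pow m)).eq, mul_inv_cancel_right, hg]
    have hhs : h * (σ * τ) * h⁻¹ = J := by
      rw [hh]
      calc g * (w * σ ^ m) * (σ * τ) * (g * (w * σ ^ m))⁻¹
          = g * ((w * σ ^ m) * (σ * τ) * (w * σ ^ m)⁻¹) * g⁻¹ := by group
        _ = J := by rw [hk, hgJ']
    have hz' : h⁻¹ * z * h ∈ (d.V ⊓ centralizer ({σ * τ} : Set G) : Subgroup G) := by
      have e : h * (h⁻¹ * z * h) * h⁻¹ = z := by group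
      refine Subgroup.mem_inf.2 ⟨(d.mem_V _).2 ⟨?_, ?_⟩, mem_centralizer_singleton_iff.2 ?_⟩
      · exact (Commute.conj_iff h).1 (by rw [hhJ, e]; exact c.tau_z)
      · have := (MulAut.conj h⁻¹).orderOf_eq z
        rw [MulAut.conj_apply, inv_inv] at this
        rw [this, c.hz]; decide
      · exact ((Commute.conj_iff h).1 (by rw [hhs, e]; exact c.J_z)).symm.eq
    rw [c.hD', mem_bot] at hz'
    exact c.z_ne_one (by
      calc z = h * (h⁻¹ * z * h) * h⁻¹ := by group
        _ = 1 := by rw [hz']; group)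

theorem sigma_z : σ * z * σ⁻¹ = z⁻¹ := by
  calc σ * z * σ⁻¹ = σ * τ * (τ⁻¹ * z * τ) * (σ * τ)⁻¹ := by group
    _ = σ * τ * z * (σ * τ)⁻¹ := by
        rw [mul_assoc τ⁻¹, ← c.tau_z.eq, inv_mul_cancel_left]
    _ = z⁻¹ := c.ctx.inverted c.hD' z c.z_mem.1

theorem mem_normalizer_z {g : G} (hg : g * z * g⁻¹ ∈ zpowers z) :
    g ∈ normalizer ((zpowers z : Subgroup G) : Set G) := by
  rw [mem_normalizer_iff_map_conj_eq]
  refine eq_of_le_of_card_ge ?_ (le_of_eq (card_map_of_injective (MulAut.conj g).injective).symm)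
  rw [MonoidHom.map_zpowers, zpowers_le]
  exact hg

theorem sigma_mem : σ ∈ normalizer ((zpowers z : Subgroup G) : Set G) :=
  c.mem_normalizer_z (by rw [c.sigma_z]; exact inv_mem (mem_zpowers z))

theorem tau_mem : τ ∈ normalizer ((zpowers z : Subgroup G) : Set G) :=
  c.mem_normalizer_z (by rw [c.tau_z.eq, mul_inv_cancel_right]; exact mem_zpowers z)

/-- An element of `N(D)` of 3-power order permuting the three involutions cyclically. -/
theorem exists_rot : ∃ r : G, (∃ k : ℕ, r ^ 3 ^ k = 1) ∧ Commute r z ∧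
    r * σ ^ M₀ * r⁻¹ = σ ^ M₀ * τ ∧ r * τ * r⁻¹ = σ ^ M₀ ∧ r * (σ ^ M₀ * τ) * r⁻¹ = τ := by
  obtain ⟨h, h1, h2⟩ := c.exists_swap
  set J := σ ^ M₀ with hJ
  have hsτ : σ * τ * σ⁻¹ = J * τ := by
    calc σ * τ * σ⁻¹ = σ * (τ * σ⁻¹ * τ⁻¹) * τ := by group
      _ = σ * σ * τ := by rw [show τ * σ⁻¹ * τ⁻¹ = σ by rw [← conj_inv, d.inv, inv_inv]]
      _ = J * τ := by rw [c.sigma_sq]
  have hsJ : σ * J * σ⁻¹ = J := by rw [c.sigma_J.eq, mul_inv_cancel_right]
  have hJτ : Commute J τ := d.commute_J_t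
  set q := σ * h with hq
  have q1 : q * J * q⁻¹ = J * τ := by
    rw [hq, ← hsτ]; conv_rhs => rw [← h1]
    group
  have q2 : q * τ * q⁻¹ = J := by
    rw [hq]; conv_rhs => rw [← hsJ, ← h2]
    group
  have q3 : q * (J * τ) * q⁻¹ = τ := by
    rw [conj_mul.symm, q1, q2, mul_assoc, ← hJτ.eq, ← mul_assoc, hJ, d.J_sq, one_mul]
  have step : ∀ (a b : G) (n : ℕ), q ^ n * a * (q ^ n)⁻¹ = b →
      q ^ (n + 1) * a * (q ^ (n + 1))⁻¹ = q * b * q⁻¹ := fun a b n e => by
    rw [← e, pow_succ']; group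
  have p1 : q ^ 1 * J * (q ^ 1)⁻¹ = J * τ := by rw [pow_one]; exact q1
  have p2 : q ^ 2 * J * (q ^ 2)⁻¹ = τ := (step J (J * τ) 1 p1).trans q3
  have p3 : q ^ 3 * J * (q ^ 3)⁻¹ = J := (step J τ 2 p2).trans q2
  have t1 : q ^ 1 * τ * (q ^ 1)⁻¹ = J := by rw [pow_one]; exact q2
  have t2 : q ^ 2 * τ * (q ^ 2)⁻¹ = J * τ := (step τ J 1 t1).trans q1
  have t3 : q ^ 3 * τ * (q ^ 3)⁻¹ = τ := (step τ (J * τ) 2 t2).trans q3
  have hq3 : q ^ 3 ∈ centralizer ({J, τ} : Set G) := by
    refine mem_centralizer_iff.2 ?_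
    rintro x (rfl | rfl)
    · exact (mul_inv_eq_iff_eq_mul.1 p3).symm
    · exact (mul_inv_eq_iff_eq_mul.1 t3).symm
  have h12 : Nat.card (centralizer ({J, τ} : Set G)) = 12 := by
    rw [hJ, d.card_centralizer_pair, c.cardD]
  have hq36 : (q ^ 3) ^ 12 = 1 := by
    have h := pow_card_eq_one' (x := (⟨q ^ 3, hq3⟩ : centralizer ({J, τ} : Set G)))
    rw [h12] at h
    simpa using congrArg Subtype.val h
  have r3 : ∀ a : G, (a = J ∨ a = τ ∨ a = J * τ) → q ^ 3 * a * (q ^ 3)⁻¹ = a := by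
    rintro a (rfl | rfl | rfl)
    · exact p3
    · exact t3
    · rw [conj_mul.symm, p3, t3]
  have r4 : ∀ a : G, (a = J ∨ a = τ ∨ a = J * τ) → q ^ 4 * a * (q ^ 4)⁻¹ = q * a * q⁻¹ :=
    fun a ha => step a a 3 (r3 a ha)
  refine ⟨q ^ 4, ⟨2, ?_⟩, ?_, (r4 J (Or.inl rfl)).trans q1, (r4 τ (Or.inr (Or.inl rfl))).trans q2,
    (r4 _ (Or.inr (Or.inr rfl))).trans q3⟩
  · rw [← pow_mul] at hq36 ⊢
    exact hq36
  · have hqz : q * z * q⁻¹ ∈ zpowers z := by
      have hzD : q * z * q⁻¹ ∈ (d.V ⊓ centralizer ({τ} : Set G) : Subgroup G) := by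
        have hc : ∀ a, Commute a z → Commute (q * a * q⁻¹) (q * z * q⁻¹) := fun a ha =>
          (Commute.conj_iff q).2 ha
        refine Subgroup.mem_inf.2 ⟨(d.mem_V _).2 ⟨?_, ?_⟩, mem_centralizer_singleton_iff.2 ?_⟩
        · have := hc τ c.tau_z; rwa [q2] at this
        · rw [← MulAut.conj_apply, MulEquiv.orderOf_eq, c.hz]; decide
        · have := hc (J * τ) (c.J_z.mul_left c.tau_z); rw [q3] at this; exact this.symm.eq
      rwa [c.hD] at hzD
    have hne : q * z * q⁻¹ ≠ 1 := fun e => c.z_ne_one (conj_eq_one_iff.1 e)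
    have key : q ^ 2 * z * (q ^ 2)⁻¹ = z := by
      rcases (c.eq_of_mem_zpowers hqz).resolve_left hne with e | e
      · rw [pow_two]; calc q * q * z * (q * q)⁻¹ = q * (q * z * q⁻¹) * q⁻¹ := by group
          _ = z := by rw [e, e]
      · rw [pow_two]; calc q * q * z * (q * q)⁻¹ = q * (q * z * q⁻¹) * q⁻¹ := by group
          _ = z := by rw [e, ← conj_inv, e, inv_inv]
    have h2c : Commute (q ^ 2) z := mul_inv_eq_iff_eq_mul.1 key
    rw [show q ^ 4 = q ^ 2 * q ^ 2 by rw [← pow_add]]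
    exact h2c.mul_left h2c

theorem conj_invert {a v : G} (hv : v ∈ normalizer ((zpowers z : Subgroup G) : Set G))
    (ha : a ∈ c.X) : v * a * v⁻¹ ∈ c.X :=
  c.conj_mem_X ((mem_normalizer_iff.1 hv z).1 (mem_zpowers z)) ha

theorem X_inf_le {x : G} (hx : x ∈ c.X) (hJ : Commute (σ ^ M₀) x) : x ∈ d.V :=
  (d.mem_V x).2 ⟨hJ, c.odd_X.of_dvd_nat (Subgroup.orderOf_dvd_natCard c.X hx)⟩

theorem rot_mem_normalizer {r : G} (hr : Commute r z) :
    r ∈ normalizer ((zpowers z : Subgroup G) : Set G) :=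
  c.mem_normalizer_z (by rw [hr.eq, mul_inv_cancel_right]; exact mem_zpowers z)

/-- A subgroup of `X` containing `V` and invariant under `σ` and a rotation has at least 81 elements. -/
theorem card_ge {r : G} (hrz : Commute r z) (hr : r * σ ^ M₀ * r⁻¹ = σ ^ M₀ * τ)
    (hr2 : r * τ * r⁻¹ = σ ^ M₀) {Y : Subgroup G} (hYX : Y ≤ c.X) (hVY : d.V ≤ Y)
    (hrY : ∀ y ∈ Y, r * y * r⁻¹ ∈ Y) : 81 ≤ Nat.card Y := by
  classical
  set J := σ ^ M₀ with hJ
  obtain ⟨b, hbE, hb1⟩ := (Subgroup.bot_or_exists_ne_one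
    (d.V ⊓ centralizer ({σ} : Set G) : Subgroup G)).resolve_left (fun e => by
      have := c.hE
      rw [e, Subgroup.card_bot] at this
      omega)
  have hb3 : orderOf b = 3 := by
    have h := Subgroup.orderOf_dvd_natCard _ hbE
    rw [c.hE] at h
    exact ((Nat.dvd_prime Nat.prime_three).1 h).resolve_left (fun e => hb1 (orderOf_eq_one_iff.1 e))
  have hJτ : Commute J τ := d.commute_J_t
  have hJb : J * b * J⁻¹ = b := by rw [(d.commute_J hbE.1).eq, mul_inv_cancel_right]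
  have hτb := c.tau_inv hbE
  -- `f` centralises `Jτ`, `e` centralises `τ`
  set f := r * b * r⁻¹ with hf
  set e := r * f * r⁻¹ with he
  have hrJτ : r * (J * τ) * r⁻¹ = τ := by
    rw [conj_mul.symm, hr, hr2, mul_assoc, ← hJτ.eq, ← mul_assoc, hJ, d.J_sq, one_mul]
  have transp : ∀ a x y : G, a * x * a⁻¹ = y →
      (r * a * r⁻¹) * (r * x * r⁻¹) * (r * a * r⁻¹)⁻¹ = r * y * r⁻¹ := fun a x y h => by
    rw [← h]; group
  have fJτ : (J * τ) * f * (J * τ)⁻¹ = f := by
    have := transp J b b hJb; rwa [hr] at this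
  have fJ : J * f * J⁻¹ = f⁻¹ := by
    have := transp τ b b⁻¹ hτb; rwa [hr2, ← conj_inv] at this
  have eτ : τ * e * τ⁻¹ = e := by
    have := transp (J * τ) f f fJτ; rwa [hrJτ] at this
  have eJτ : (J * τ) * e * (J * τ)⁻¹ = e⁻¹ := by
    have := transp J f f⁻¹ fJ; rwa [hr, ← conj_inv] at this
  have eJ : J * e * J⁻¹ = e⁻¹ := by
    calc J * e * J⁻¹ = J * (τ * e * τ⁻¹) * J⁻¹ := by rw [eτ]
      _ = (J * τ) * e * (J * τ)⁻¹ := by group
      _ = e⁻¹ := eJτ
  have fτ : τ * f * τ⁻¹ = f⁻¹ := by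
    calc τ * f * τ⁻¹ = (J * J) * τ * f * τ⁻¹ * (J * J)⁻¹ := by rw [d.J_sq]; group
      _ = J * ((J * τ) * f * (J * τ)⁻¹) * J⁻¹ := by group
      _ = f⁻¹ := by rw [fJτ, fJ]
  have hf3 : orderOf f = 3 := by rw [hf, ← MulAut.conj_apply, MulEquiv.orderOf_eq, hb3]
  have he3 : orderOf e = 3 := by rw [he, ← MulAut.conj_apply, MulEquiv.orderOf_eq, hf3]
  have hfY : f ∈ Y := hrY b (hVY hbE.1)
  have heY : e ∈ Y := hrY f hfY
  have hodd : ∀ y ∈ Y, Odd (orderOf y) := fun y hy =>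
    c.odd_X.of_dvd_nat (Subgroup.orderOf_dvd_natCard c.X (hYX hy))
  let s : Fin 3 × Fin 3 → G := fun p => e ^ (p.1 : ℕ) * f ^ (p.2 : ℕ) * e ^ (p.1 : ℕ)
  have hsY : ∀ p, s p ∈ Y := fun p => mul_mem (mul_mem (pow_mem heY _) (pow_mem hfY _)) (pow_mem heY _)
  have hsJ : ∀ p, J * s p * J⁻¹ = (s p)⁻¹ := fun p => by
    simp only [s]
    rw [conj_mul.symm, conj_mul.symm, ← conj_pow, ← conj_pow, eJ, fJ, inv_pow, inv_pow]
    group
  have hinj : Function.Injective s := by
    intro p q h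
    simp only [s] at h
    set a := (e ^ (p.1 : ℕ))⁻¹ * e ^ (q.1 : ℕ) with ha
    have hee : Commute ((e ^ (p.1 : ℕ))⁻¹) (e ^ (q.1 : ℕ)) := (Commute.pow_pow_self e _ _).inv_left
    have key : f ^ (p.2 : ℕ) = a * f ^ (q.2 : ℕ) * a := by
      conv_rhs => rw [ha]
                  arg 2
                  rw [hee.eq]
      calc f ^ (p.2 : ℕ) = (e ^ (p.1 : ℕ))⁻¹ * (e ^ (p.1 : ℕ) * f ^ (p.2 : ℕ) * e ^ (p.1 : ℕ)) *
            (e ^ (p.1 : ℕ))⁻¹ := by group
        _ = _ := by rw [h]; group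
    have haτ : τ * a * τ⁻¹ = a := by
      rw [ha, conj_mul.symm, ← conj_inv, ← conj_pow, ← conj_pow, eτ]
    have key2 : f ^ (p.2 : ℕ) = a⁻¹ * f ^ (q.2 : ℕ) * a⁻¹ := by
      have h' := congrArg (fun x => (τ * x * τ⁻¹)⁻¹) key
      beta_reduce at h'
      rw [← conj_pow, fτ, inv_pow, inv_inv, conj_mul.symm, conj_mul.symm, haτ, ← conj_pow, fτ,
        inv_pow] at h'
      rw [h']; group
    have h5 : f ^ (q.2 : ℕ) * (a * a) * (f ^ (q.2 : ℕ))⁻¹ = (a * a)⁻¹ := by
      have h6 : a * f ^ (q.2 : ℕ) * a = a⁻¹ * f ^ (q.2 : ℕ) * a⁻¹ := key.symm.trans key2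
      calc f ^ (q.2 : ℕ) * (a * a) * (f ^ (q.2 : ℕ))⁻¹
          = a⁻¹ * (a * f ^ (q.2 : ℕ) * a) * a * (f ^ (q.2 : ℕ))⁻¹ := by group
        _ = a⁻¹ * (a⁻¹ * f ^ (q.2 : ℕ) * a⁻¹) * a * (f ^ (q.2 : ℕ))⁻¹ := by rw [h6]
        _ = (a * a)⁻¹ := by group
    have haY : a ∈ Y := mul_mem (inv_mem (pow_mem heY _)) (pow_mem heY _)
    have haa : a * a = 1 := eq_one_of_conj_inv (hodd _ (pow_mem hfY _)) (hodd _ (mul_mem haY haY)) h5
    have ha1 : a = 1 := by
      obtain ⟨k, hk⟩ := hodd a haY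
      have := pow_orderOf_eq_one a
      rwa [hk, pow_succ, pow_mul, pow_two, haa, one_pow, one_mul] at this
    rw [ha1, one_mul, mul_one] at key
    rw [ha, inv_mul_eq_one] at ha1
    exact Prod.ext (Fin.ext (pow_injOn_Iio_orderOf (by simp [he3, p.1.2]) (by simp [he3, q.1.2]) ha1))
      (Fin.ext (pow_injOn_Iio_orderOf (by simp [hf3, p.2.2]) (by simp [hf3, q.2.2]) key))
  let F : d.V × (Fin 3 × Fin 3) → Y := fun p => ⟨(p.1 : G) * s p.2, mul_mem (hVY p.1.2) (hsY _)⟩
  have hF : Function.Injective F := by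
    rintro ⟨v, p⟩ ⟨w, q⟩ h
    have h' : (v : G) * s p = w * s q := congrArg Subtype.val h
    set u := (w : G)⁻¹ * v with hu
    have huV : u ∈ d.V := mul_mem (inv_mem w.2) v.2
    have hus : u * s p = s q := by rw [hu, mul_assoc, h', inv_mul_cancel_left]
    have hJu : J * u * J⁻¹ = u := by rw [(d.commute_J huV).eq, mul_inv_cancel_right]
    have h2 : u * (s p)⁻¹ = (s q)⁻¹ := by
      rw [← hsJ p, ← hsJ q, ← hus]; conv_rhs => rw [conj_mul.symm, hJu]
    have h3 : s p * u * (s p)⁻¹ = u⁻¹ := by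
      calc s p * u * (s p)⁻¹ = s p * (u * (s p)⁻¹) := by group
        _ = s p * (s q)⁻¹ := by rw [h2]
        _ = u⁻¹ := by rw [← hus]; group
    have hu1 : u = 1 := eq_one_of_conj_inv (hodd _ (hsY p)) (hodd _ (hVY huV)) h3
    rw [hu1, one_mul] at hus
    rw [hu, inv_mul_eq_one] at hu1
    exact Prod.ext (Subtype.ext hu1.symm) (hinj hus)
  have := Nat.card_le_card_of_injective F hF
  rwa [Nat.card_prod, Nat.card_prod, c.cardV, Nat.card_eq_fintype_card, Fintype.card_fin] at this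

theorem orderOf_dvd_nine {x : G} (hx : x ∈ c.X) {u : G} (hu : u = σ ^ M₀ ∨ u = τ) (hux : Commute u x) :
    orderOf x ∣ 9 := by
  rcases hu with rfl | rfl
  · exact c.cardV ▸ Subgroup.orderOf_dvd_natCard _ (c.X_inf_le hx hux)
  · obtain ⟨r, -, hrz, -, hr2, -⟩ := c.exists_rot
    have h1 := c.conj_invert (c.rot_mem_normalizer hrz) hx
    have h2 : r * x * r⁻¹ ∈ d.V := c.X_inf_le h1 (hr2 ▸ (Commute.conj_iff r).2 hux)
    rw [← MulEquiv.orderOf_eq (MulAut.conj r) x]
    exact c.cardV ▸ Subgroup.orderOf_dvd_natCard _ h2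

theorem isPGroup_X : IsPGroup 3 c.X := by
  classical
  refine IsPGroup.of_card (n := (Nat.card c.X).primeFactorsList.length)
    (Nat.eq_prime_pow_of_unique_prime_dvd Nat.card_pos.ne' fun {p} hp hpX => ?_)
  by_contra h3
  haveI : Fact p.Prime := ⟨hp⟩
  set J := σ ^ M₀ with hJ
  have hτJ : τ * J = J * τ := d.commute_J_t.symm.eq
  have hJ2 : J * J = 1 := d.J_sq
  have hJτ2 : J * (J * τ) = τ := by rw [← mul_assoc, hJ2, one_mul]
  have hτ2 : τ * τ = 1 := d.tsq
  have hττ : τ * (J * τ) = J := by rw [← mul_assoc, hτJ, mul_assoc, hτ2, mul_one]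
  have hJi : J⁻¹ = J := inv_eq_of_mul_eq_one_right hJ2
  have hτi : τ⁻¹ = τ := inv_eq_of_mul_eq_one_right hτ2
  have hJτi : (J * τ)⁻¹ = J * τ := inv_eq_of_mul_eq_one_right c.ctx.jtau_sq
  let Q : Subgroup G :=
    { carrier := {x | x = 1 ∨ x = J ∨ x = τ ∨ x = J * τ}
      one_mem' := Or.inl rfl
      mul_mem' := by
        rintro _ _ (rfl | rfl | rfl | rfl) (rfl | rfl | rfl | rfl) <;>
          simp only [Set.mem_ofPred_eq, one_mul, mul_one, hJ2, hJτ2, hτ2, hτJ, hττ, mul_assoc] <;> tauto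
      inv_mem' := by
        rintro _ (rfl | rfl | rfl | rfl) <;>
          simp only [Set.mem_ofPred_eq, inv_one, hJi, hτi, hJτi, eq_self_iff_true, or_true, true_or] }
  have hQp : IsPGroup 2 Q := fun x => ⟨1, Subtype.ext (by
    show (x : G) ^ 2 = 1
    rcases x.2 with e | e | e | e <;> rw [e, pow_two]
    exacts [one_mul 1, hJ2, hτ2, c.ctx.jtau_sq])⟩
  have hQX : Q ≤ normalizer (c.X : Set G) := by
    have hJn : J ∈ normalizer ((zpowers z : Subgroup G) : Set G) :=
      c.mem_normalizer_z (by rw [c.J_z.eq, mul_inv_cancel_right]; exact mem_zpowers z)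
    rintro x (rfl | rfl | rfl | rfl)
    · exact one_mem _
    · exact c.le_normalizer_X hJn
    · exact c.le_normalizer_X c.tau_mem
    · exact c.le_normalizer_X (mul_mem hJn c.tau_mem)
  have hcop : (Nat.card Q).Coprime (Nat.card c.X) := by
    obtain ⟨k, hk⟩ := hQp.exists_card_eq
    rw [hk]; exact (Nat.coprime_two_left.2 c.odd_X).pow_left k
  haveI : Fact (Nat.Prime 2) := ⟨Nat.prime_two⟩
  haveI := hQp.isNilpotent
  obtain ⟨R, hR⟩ := Coprime.exists_invariant_sylow hQX hcop (Or.inl inferInstance) p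
  set R' := (R : Subgroup c.X).map c.X.subtype with hR'
  have hR'X : R' ≤ c.X := map_subtype_le _
  have hR'p : IsPGroup p R' := R.2.map _
  have key : ∀ x ∈ R', ∀ u : G, (u = J ∨ u = τ) → Commute u x → x = 1 := by
    intro x hx u hu hux
    obtain ⟨k, hk⟩ := hR'p ⟨x, hx⟩
    have h1 : orderOf x ∣ p ^ k := orderOf_dvd_of_pow_eq_one (congrArg Subtype.val hk)
    exact orderOf_eq_one_iff.1 (Nat.eq_one_of_dvd_coprimes
      ((((Nat.coprime_primes hp Nat.prime_three).2 h3).pow k 2)) h1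
      (by simpa using c.orderOf_dvd_nine (hR'X hx) hu hux))
  have hinv : ∀ u : G, (u = J ∨ u = τ) → ∀ x ∈ R', u * x * u⁻¹ = x⁻¹ := by
    intro u hu
    have huQ : u ∈ Q := by rcases hu with e | e <;> rw [e]
                           · exact Or.inr (Or.inl rfl)
                           · exact Or.inr (Or.inr (Or.inl rfl))
    refine conj_eq_inv (by rcases hu with e | e <;> rw [e]; exacts [hJ2, hτ2])
      (fun x hx => (mem_normalizer_iff.1 (hR huQ) x).1 hx) (fun x hx => key x hx u hu)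
  have hR1 : R' = ⊥ := by
    rw [Subgroup.eq_bot_iff_forall]
    intro x hx
    have h1 : Commute (J * τ) x := by
      refine mul_inv_eq_iff_eq_mul.1 ?_
      calc J * τ * x * (J * τ)⁻¹ = J * (τ * x * τ⁻¹) * J⁻¹ := by group
        _ = x := by rw [hinv τ (Or.inr rfl) x hx, ← conj_inv, hinv J (Or.inl rfl) x hx, inv_inv]
    obtain ⟨r, -, hrz, -, -, hr3⟩ := c.exists_rot
    have h2 : Commute τ (r * x * r⁻¹) := hr3 ▸ (Commute.conj_iff r).2 h1
    have h4 := c.orderOf_dvd_nine (c.conj_invert (c.rot_mem_normalizer hrz) (hR'X hx))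
      (Or.inr rfl) h2
    rw [← MulAut.conj_apply, MulEquiv.orderOf_eq] at h4
    obtain ⟨k, hk⟩ := hR'p ⟨x, hx⟩
    exact orderOf_eq_one_iff.1 (Nat.eq_one_of_dvd_coprimes
      ((((Nat.coprime_primes hp Nat.prime_three).2 h3).pow k 2))
      (orderOf_dvd_of_pow_eq_one (congrArg Subtype.val hk)) (by simpa using h4))
  rw [hR', map_eq_bot_iff_of_injective _ c.X.subtype_injective] at hR1
  exact Sylow.ne_bot_of_dvd_card R hpX hR1

theorem le_six {k : ℕ} (hk : 3 ^ k ∣ 68040) : k ≤ 5 := by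
  by_contra h
  have := (pow_dvd_pow 3 (show 6 ≤ k by omega)).trans hk
  norm_num at this

theorem false_nine : False := by
  classical
  haveI : Fact (Nat.Prime 3) := ⟨Nat.prime_three⟩
  obtain ⟨r, ⟨k, hrk⟩, hrz, hr1, hr2, hr3⟩ := c.exists_rot
  set J := σ ^ M₀ with hJ
  set N := normalizer ((zpowers z : Subgroup G) : Set G) with hN
  set M := normalizer (c.X : Set G) with hM
  have hNM : N ≤ M := c.le_normalizer_X
  have hrN : r ∈ N := c.rot_mem_normalizer hrz
  have hXN : c.X ≤ N := fun x hx => c.rot_mem_normalizer (c.commute_z hx)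
  have hrX : r ∉ c.X := by
    intro hr
    -- `[r, J]` would be an involution of `X`
    have hJn : J ∈ N := c.mem_normalizer_z (by rw [c.J_z.eq, mul_inv_cancel_right]; exact mem_zpowers z)
    have h1 : r * (J * r⁻¹ * J⁻¹) ∈ c.X := mul_mem hr (c.conj_invert hJn (inv_mem hr))
    have h2 : r * (J * r⁻¹ * J⁻¹) = τ := by
      calc r * (J * r⁻¹ * J⁻¹) = (r * J * r⁻¹) * J⁻¹ := by group
        _ = τ := by rw [hr1, hJ, d.J_inv, ← hJ, d.commute_J_t.eq, mul_assoc, d.J_sq, mul_one]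
    rw [h2] at h1
    have := c.odd_X.of_dvd_nat (Subgroup.orderOf_dvd_natCard _ h1)
    rw [c.ctx.tau_order] at this
    exact absurd this (by decide)
  have hrp : IsPGroup 3 (zpowers r) := by
    rintro ⟨_, m, rfl⟩
    refine ⟨k, Subtype.ext ?_⟩
    show (r ^ m) ^ 3 ^ k = 1
    rw [← zpow_natCast, ← zpow_mul, mul_comm, zpow_mul, zpow_natCast, hrk, one_zpow]
  set P := zpowers r ⊔ c.X with hP
  have hPp : IsPGroup 3 P := IsPGroup.to_sup_of_normal_right' hrp c.isPGroup_X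
    ((zpowers_le.2 hrN).trans hNM)
  have hX81 : 81 ≤ Nat.card c.X := c.card_ge hrz hr1 hr2 le_rfl c.V_le_X
    fun y hy => c.conj_invert hrN hy
  obtain ⟨a, ha⟩ := c.isPGroup_X.exists_card_eq
  obtain ⟨b, hb⟩ := hPp.exists_card_eq
  have hab : Nat.card c.X < Nat.card P := by
    refine lt_of_le_of_ne (card_le_of_le le_sup_right) fun e => hrX ?_
    have := eq_of_le_of_card_ge (le_sup_right : c.X ≤ P) e.ge
    rw [this]
    exact mem_sup_left (mem_zpowers r)
  have hb5 : b ≤ 5 := le_six (c := c) (hb ▸ c.hG ▸ Subgroup.card_subgroup_dvd_card P)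
  rw [ha] at hX81 hab
  rw [hb] at hab
  have hab' : a < b := (Nat.pow_lt_pow_iff_right (by norm_num)).1 hab
  have ha4 : 4 ≤ a := by
    by_contra h
    have : 3 ^ a ≤ 3 ^ 3 := Nat.pow_le_pow_right (by norm_num) (by omega)
    norm_num at this
    omega
  obtain ⟨rfl, rfl⟩ : a = 4 ∧ b = 5 := by omega
  rw [show (3 : ℕ) ^ 4 = 81 by norm_num] at ha
  rw [show (3 : ℕ) ^ 5 = 243 by norm_num] at hb
  -- the normalisers of `X` and of `D` have index 35
  haveI : Fact (Nat.Prime 2) := ⟨Nat.prime_two⟩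
  have hP8 : Nat.card (zpowers σ ⊔ zpowers τ : Subgroup G) % 8 = 0 := by
    have hle : zpowers τ ≤ normalizer ((zpowers σ : Subgroup G) : Set G) := by
      rw [zpowers_le, mem_normalizer_iff_map_conj_eq]
      refine eq_of_le_of_card_ge ?_ (le_of_eq (card_map_of_injective (MulAut.conj τ).injective).symm)
      rw [MonoidHom.map_zpowers, zpowers_le]
      show τ * σ * τ⁻¹ ∈ zpowers σ
      rw [d.inv]; exact inv_mem (mem_zpowers σ)
    have h := Offender.card_sup_mul_card_inf hle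
    have hbot : zpowers τ ⊓ zpowers σ = ⊥ := by
      rw [Subgroup.eq_bot_iff_forall]
      rintro x ⟨hx1, hx2⟩
      obtain ⟨i, hi, rfl⟩ := Finset.mem_image.1 ((mem_zpowers_iff_mem_range_orderOf).1 hx1)
      rw [Finset.mem_range, c.ctx.tau_order] at hi
      obtain rfl | rfl : i = 0 ∨ i = 1 := by omega
      · exact pow_zero τ
      · exfalso
        rw [pow_one] at hx2
        obtain ⟨j, -, hj⟩ := Finset.mem_image.1 ((mem_zpowers_iff_mem_range_orderOf).1 hx2)
        refine d.mul_tau_notin_K d.K.one_mem ?_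
        have := d.mul_pow_mem_K d.V.one_mem j
        rw [hj] at this
        exact this
    rw [hbot, Subgroup.card_bot, mul_one, Nat.card_zpowers, Nat.card_zpowers, c.ctx.tau_order,
      c.ctx.sigma_order] at h
    rw [sup_comm, h]
  have hindex : ∀ L : Subgroup G, L ≠ ⊤ → N ≤ L → L.index = 35 := by
    intro L hL hNL
    have h243 : 243 ∣ Nat.card L :=
      hb ▸ Subgroup.card_dvd_of_le ((sup_le (zpowers_le.2 hrN) hXN).trans hNL)
    have h8 : 8 ∣ Nat.card L := (Nat.dvd_of_mod_eq_zero hP8).trans (Subgroup.card_dvd_of_le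
      ((sup_le (zpowers_le.2 c.sigma_mem) (zpowers_le.2 c.tau_mem)).trans hNL))
    have h1944 : 1944 ∣ Nat.card L :=
      (Nat.Coprime.mul_dvd_of_dvd_of_dvd (by norm_num : Nat.Coprime 8 243) h8 h243)
    have hmul := L.card_mul_index
    obtain ⟨q, hq⟩ := h1944
    rw [hq, c.hG] at hmul
    have h35 : L.index ∣ 35 := ⟨q, by nlinarith⟩
    have hfac := SmallSimple.card_dvd_factorial hL
    rw [c.hG] at hfac
    have hle := Nat.le_of_dvd (by norm_num) h35
    have hpos : L.index ≠ 0 := Subgroup.index_ne_zero_of_finite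
    by_contra hne
    obtain ⟨q', hq'⟩ := h35
    have hq2 : 2 ≤ q' := by
      rcases q' with _ | _ | q'
      · omega
      · omega
      · omega
    have h7 : L.index ≤ 7 := by
      by_contra h
      have : 8 ≤ L.index := by omega
      interval_cases L.index <;> omega
    interval_cases L.index <;> norm_num [Nat.factorial] at hfac
  have hproper : ∀ {Y : Subgroup G}, Y ≠ ⊥ → Y ≠ ⊤ → normalizer (Y : Set G) ≠ ⊤ := by
    intro Y h0 h1 h
    haveI : Y.Normal := normalizer_eq_top_iff.mp h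
    rcases Subgroup.Normal.eq_bot_or_eq_top (H := Y) inferInstance with e | e
    · exact h0 e
    · exact h1 e
  have hX0 : c.X ≠ ⊥ := fun e => by rw [e, Subgroup.card_bot] at ha; omega
  have hXT : c.X ≠ ⊤ := fun e => by rw [e, Subgroup.card_top, c.hG] at ha; omega
  have hMi : M.index = 35 := hindex M (hproper hX0 hXT) hNM
  have hz0 : zpowers z ≠ ⊥ := fun e => c.z_ne_one (Subgroup.zpowers_eq_bot.1 e)
  have hzT : zpowers z ≠ ⊤ := fun e => by
    have := congrArg (fun Y : Subgroup G => Nat.card Y) e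
    simp only [Nat.card_zpowers, c.hz, Subgroup.card_top, c.hG] at this
    omega
  have hNi : N.index = 35 := hindex N (hproper hz0 hzT) le_rfl
  have hMN : M = N := by
    refine (Subgroup.eq_of_le_of_card_ge hNM (le_of_eq ?_)).symm
    have h1 := M.card_mul_index
    have h2 := N.card_mul_index
    rw [hMi] at h1
    rw [hNi] at h2
    exact Nat.eq_of_mul_eq_mul_right (by norm_num) (h1.trans h2.symm)
  -- a second fixed point
  have hfix : ∃ q : G ⧸ M, q ∈ MulAction.fixedPoints c.X (G ⧸ M) ∧ q ≠ ((1 : G) : G ⧸ M) := by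
    have hmod := c.isPGroup_X.card_modEq_card_fixedPoints (G ⧸ M)
    rw [← Subgroup.index_eq_card, hMi] at hmod
    by_contra hcon
    push Not at hcon
    haveI : Subsingleton (MulAction.fixedPoints c.X (G ⧸ M)) :=
      ⟨fun a b => Subtype.ext ((hcon a a.2).trans (hcon b b.2).symm)⟩
    have hle : Nat.card (MulAction.fixedPoints c.X (G ⧸ M)) ≤ 1 :=
      Finite.card_le_one_iff_subsingleton.2 inferInstance
    have hx : Nat.card (MulAction.fixedPoints c.X (G ⧸ M)) % 3 = 2 := by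
      unfold Nat.ModEq at hmod; omega
    omega
  obtain ⟨q, hq, hq1⟩ := hfix
  obtain ⟨g, rfl⟩ := QuotientGroup.mk_surjective q
  have hgM : g ∉ M := fun h => hq1 (QuotientGroup.eq.2 (by simpa using inv_mem h))
  set z' := g * z * g⁻¹ with hz'
  have hz'3 : orderOf z' = 3 := by rw [hz', ← MulAut.conj_apply, MulEquiv.orderOf_eq, c.hz]
  have hXz' : ∀ x ∈ c.X, Commute x z' := by
    intro x hx
    have h1 := hq ⟨x, hx⟩
    change x • (g : G ⧸ M) = (g : G ⧸ M) at h1
    rw [MulAction.Quotient.smul_mk, QuotientGroup.eq, smul_eq_mul] at h1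
    have h2 : g⁻¹ * x⁻¹ * g ∈ N := by rw [← hMN]; simpa [mul_assoc] using h1
    have h3 := c.eq_of_mem_zpowers ((mem_normalizer_iff.1 h2 z).1 (mem_zpowers z))
    -- an element of odd order inverting `z` would centralise it
    have hne : g⁻¹ * x⁻¹ * g * z * (g⁻¹ * x⁻¹ * g)⁻¹ ≠ 1 := fun e => c.z_ne_one (conj_eq_one_iff.1 e)
    have hcm : Commute (g⁻¹ * x⁻¹ * g) z := by
      rcases h3.resolve_left hne with e | e
      · exact mul_inv_eq_iff_eq_mul.1 e
      · refine absurd (eq_one_of_conj_inv ?_ (by rw [c.hz]; decide) e) c.z_ne_one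
        have := (MulAut.conj g⁻¹).orderOf_eq x⁻¹
        rw [MulAut.conj_apply, inv_inv] at this
        rw [this, orderOf_inv]
        exact c.odd_X.of_dvd_nat (Subgroup.orderOf_dvd_natCard _ hx)
    have h4 := (Commute.conj_iff g).2 hcm
    rw [show g * (g⁻¹ * x⁻¹ * g) * g⁻¹ = x⁻¹ by group] at h4
    exact Commute.inv_left_iff.1 h4
  have hz'M : z' ∈ M := by
    refine mem_normalizer_iff.2 fun x => ⟨fun hx => ?_, fun hx => ?_⟩
    · rw [(hXz' x hx).symm.eq, mul_inv_cancel_right]; exact hx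
    · have h := hXz' _ hx
      have e : z' * x * z'⁻¹ = x := by
        have h2 : z' * (z' * x * z'⁻¹) = z' * x * z'⁻¹ * z' := h.symm.eq
        rw [inv_mul_cancel_right] at h2
        exact mul_left_cancel h2
      rwa [e] at hx
  have hz'D : z' ∉ zpowers z := fun h => hgM (hMN ▸ c.mem_normalizer_z h)
  -- `z'` lies in the centre of `X`
  set C := centralizer (c.X : Set G) with hC
  have hCM : C ≤ M := centralizer_le_normalizer _
  have hMC : M ≤ normalizer (C : Set G) := by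
    intro m hm
    refine mem_normalizer_iff.2 fun y => ?_
    have key : ∀ m ∈ M, ∀ y ∈ C, m * y * m⁻¹ ∈ C := fun m hm y hy => by
      refine mem_centralizer_iff.2 fun x hx => ?_
      have h' : m⁻¹ * x * m ∈ c.X := by
        have := (mem_normalizer_iff.1 (inv_mem hm) x).1 hx; simpa using this
      have h2 := mem_centralizer_iff.1 hy _ h'
      calc x * (m * y * m⁻¹) = m * ((m⁻¹ * x * m) * y) * m⁻¹ := by group
        _ = m * (y * (m⁻¹ * x * m)) * m⁻¹ := by rw [h2]
        _ = m * y * m⁻¹ * x := by group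
    exact ⟨key m hm y, fun h => by simpa [mul_assoc] using key m⁻¹ (inv_mem hm) _ h⟩
  have hC3 : IsPGroup 3 C := by
    have hodd : Odd (Nat.card C) := by
      by_contra h
      obtain ⟨u, hu⟩ := exists_prime_orderOf_dvd_card' (G := C) 2
        (even_iff_two_dvd.mp (Nat.not_odd_iff_even.mp h))
      rw [← Subgroup.orderOf_coe] at hu
      obtain ⟨y, hy⟩ := isConj_iff.1 (d.conjAll _ hu)
      have hsub : c.X.map (MulAut.conj y⁻¹).toMonoidHom ≤ d.V := by
        rintro _ ⟨x, hx, rfl⟩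
        refine (d.mem_V _).2 ⟨(Commute.conj_iff y).1 ?_, ?_⟩
        · rw [hy]
          simp only [MulEquiv.coe_toMonoidHom, MulAut.conj_apply, inv_inv]
          rw [show y * (y⁻¹ * x * y) * y⁻¹ = x by group]
          exact (mem_centralizer_iff.1 u.2 x hx).symm
        · rw [MulEquiv.coe_toMonoidHom, MulEquiv.orderOf_eq]
          exact c.odd_X.of_dvd_nat (Subgroup.orderOf_dvd_natCard _ hx)
      have := Subgroup.card_le_of_le hsub
      rw [card_map_of_injective (MulAut.conj y⁻¹).injective, ha, c.cardV] at this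
      omega
    have hdvd : Nat.card C ∣ 243 := by
      have h1 : Nat.card M = 1944 := by
        have h := M.card_mul_index
        rw [hMi, c.hG] at h
        omega
      have h2 : Nat.card C ∣ 8 * 243 := (Subgroup.card_dvd_of_le hCM).trans (dvd_of_eq h1)
      exact ((Nat.coprime_two_right.2 hodd).pow_right 3 |>.dvd_of_dvd_mul_left h2)
    obtain ⟨j, -, hj⟩ := (Nat.dvd_prime_pow Nat.prime_three).1 (show Nat.card C ∣ 3 ^ 5 from hdvd.trans (dvd_of_eq (by norm_num)))
    exact IsPGroup.of_card hj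
  have hz'X : z' ∈ c.X := by
    by_contra hout
    have hz'C : z' ∈ C := mem_centralizer_iff.2 fun x hx => (hXz' x hx).eq
    set T := C ⊔ c.X with hT
    have hTp : IsPGroup 3 T := IsPGroup.to_sup_of_normal_right' hC3 c.isPGroup_X hCM
    obtain ⟨t, ht⟩ := hTp.exists_card_eq
    have htb : t ≤ 5 := le_six (c := c) (ht ▸ c.hG ▸ Subgroup.card_subgroup_dvd_card T)
    have hlt : Nat.card c.X < Nat.card T := by
      refine lt_of_le_of_ne (card_le_of_le le_sup_right) fun e => hout ?_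
      rw [eq_of_le_of_card_ge (le_sup_right : c.X ≤ T) e.ge]
      exact mem_sup_left hz'C
    -- `T` is a normal Sylow 3-subgroup of `M`, so contains `r`
    have hMT : M ≤ normalizer (T : Set G) :=
      (le_inf hMC le_rfl).trans (normalizer_inf_normalizer_le_normalizer_sup C c.X)
    have hrT : r ∈ T := by
      have hU : IsPGroup 3 (zpowers r ⊔ T : Subgroup G) :=
        IsPGroup.to_sup_of_normal_right' hrp hTp (((zpowers_le.2 hrN).trans hNM).trans hMT)
      obtain ⟨w, hw⟩ := hU.exists_card_eq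
      have hw5 : w ≤ 5 := le_six (c := c) (hw ▸ c.hG ▸ Subgroup.card_subgroup_dvd_card _)
      have h81 : 3 ^ 5 ≤ Nat.card T := by
        rw [ha, ht] at hlt
        have : 4 < t := by
          by_contra h
          have := Nat.pow_le_pow_right (show 0 < 3 by norm_num) (show t ≤ 4 by omega)
          norm_num at this
          omega
        rw [ht]; exact Nat.pow_le_pow_right (by norm_num) this
      have heq : T = zpowers r ⊔ T := eq_of_le_of_card_ge le_sup_right (by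
        rw [hw]; exact (Nat.pow_le_pow_right (by norm_num) hw5).trans h81)
      rw [heq]; exact mem_sup_left (mem_zpowers r)
    have hJM : J ∈ M := hNM (c.mem_normalizer_z (by rw [c.J_z.eq, mul_inv_cancel_right]; exact mem_zpowers z))
    have hτT : τ ∈ T := by
      have h1 : r * (J * r⁻¹ * J⁻¹) ∈ T :=
        mul_mem hrT ((mem_normalizer_iff.1 (hMT hJM) _).1 (inv_mem hrT))
      have h2 : r * (J * r⁻¹ * J⁻¹) = τ := by
        calc r * (J * r⁻¹ * J⁻¹) = (r * J * r⁻¹) * J⁻¹ := by group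
          _ = τ := by rw [hr1, hJ, d.J_inv, ← hJ, d.commute_J_t.eq, mul_assoc, d.J_sq, mul_one]
      rwa [h2] at h1
    obtain ⟨w, hw⟩ := hTp ⟨τ, hτT⟩
    have h2 : orderOf τ ∣ 3 ^ w := orderOf_dvd_of_pow_eq_one (congrArg Subtype.val hw)
    rw [c.ctx.tau_order] at h2
    exact absurd (Nat.prime_two.dvd_of_dvd_pow h2) (by norm_num)
  -- `X` is abelian
  set Z := C ⊓ c.X with hZ
  have hZM : M ≤ normalizer (Z : Set G) := fun m hm => inf_normalizer_le_normalizer_inf ⟨hMC hm, hm⟩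
  have hz'Z : z' ∈ Z := ⟨mem_centralizer_iff.2 fun x hx => (hXz' x hx).eq, hz'X⟩
  have hJN : J ∈ N := c.mem_normalizer_z (by rw [c.J_z.eq, mul_inv_cancel_right]; exact mem_zpowers z)
  have hcZ : ∀ {m : G}, m ∈ N → ∀ y ∈ Z, m * y * m⁻¹ ∈ Z := fun {m} hm y hy =>
    (mem_normalizer_iff.1 (hZM (hNM hm)) y).1 hy
  have hzcomm : ∀ y ∈ Z, ∀ w ∈ Z, Commute y w := fun y hy w hw =>
    (mem_centralizer_iff.1 hw.1 y hy.2)
  obtain ⟨y, hyZ, hyV, hyD⟩ : ∃ y, y ∈ Z ∧ y ∈ d.V ∧ y ∉ zpowers z := by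
    by_contra hcon
    push Not at hcon
    have hJinv : J⁻¹ = J := d.J_inv
    -- the three norms of `z'`
    set a := z' * (J * z' * J⁻¹) with haDef
    have hnorm : ∀ y ∈ Z, y * (J * y * J⁻¹) ∈ zpowers z := by
      intro y hy
      have hJy := hcZ hJN y hy
      have hm : y * (J * y * J⁻¹) ∈ Z := mul_mem hy hJy
      refine hcon _ hm (c.X_inf_le hm.2 ?_)
      refine (mul_inv_eq_iff_eq_mul.1 ?_)
      rw [conj_mul.symm, show J * (J * y * J⁻¹) * J⁻¹ = y by
        calc J * (J * y * J⁻¹) * J⁻¹ = (J * J) * y * (J * J)⁻¹ := by group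
          _ = y := by rw [hJ, d.J_sq]; group]
      exact (hzcomm _ hy _ hJy).symm.eq
    have hconjz : ∀ {m : G}, m ∈ N → ∀ w ∈ zpowers z, m * w * m⁻¹ ∈ zpowers z := fun {m} hm w hw =>
      (mem_normalizer_iff.1 hm w).1 hw
    -- transport by powers of `r`
    have hnτ : ∀ y ∈ Z, y * (τ * y * τ⁻¹) ∈ zpowers z := by
      intro y hy
      have h := hconjz (inv_mem hrN) _ (hnorm _ (hcZ hrN y hy))
      rw [inv_inv] at h
      have e : r⁻¹ * J * r = τ := by rw [← hr2]; group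
      convert h using 1
      rw [← e]; group
    have hnJτ : ∀ y ∈ Z, y * ((J * τ) * y * (J * τ)⁻¹) ∈ zpowers z := by
      intro y hy
      have h := hconjz hrN _ (hnorm _ (hcZ (inv_mem hrN) y hy))
      rw [inv_inv] at h
      convert h using 1
      rw [← hr1]; group
    have hz'2 : z' * z' ∈ zpowers z := by
      have h1 := hnorm z' hz'Z
      have h2 := hnτ z' hz'Z
      have h3 := hnJτ z' hz'Z
      have h4 := hnorm _ (hcZ c.tau_mem z' hz'Z)
      rw [show J * (τ * z' * τ⁻¹) * J⁻¹ = J * τ * z' * (J * τ)⁻¹ by group] at h4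
      have hb := hcZ c.tau_mem z' hz'Z
      set b := τ * z' * τ⁻¹
      set e := J * τ * z' * (J * τ)⁻¹
      -- `z'^2 = (z' b)(z' e)(b e)⁻¹`
      have := mul_mem (mul_mem h2 h3) (inv_mem h4)
      convert this using 1
      rw [mul_inv_rev]
      calc z' * z' = z' * z' * (b * b⁻¹) := by group
        _ = z' * (b * z') * b⁻¹ := by rw [(hzcomm b hb z' hz'Z).eq]; group
        _ = z' * b * (z' * e) * (e⁻¹ * b⁻¹) := by group
    refine hz'D ?_
    have hz'3' : z' = (z' * z') * (z' * z') := by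
      have h := pow_orderOf_eq_one z'
      rw [hz'3] at h
      calc z' = z' ^ 3 * z' := by rw [h, one_mul]
        _ = _ := by rw [pow_succ, pow_two]; group
    rw [hz'3']
    exact mul_mem hz'2 hz'2
  have hVZ : d.V ≤ Z := by
    set W := Z ⊓ d.V
    have hzW : z ∈ W := ⟨⟨mem_centralizer_iff.2 fun x hx => (c.commute_z hx).eq,
      c.V_le_X c.z_mem.1⟩, c.z_mem.1⟩
    obtain ⟨j, hj, hjW⟩ := (Nat.dvd_prime_pow Nat.prime_three).1
      (show Nat.card W ∣ 3 ^ 2 by
        have := Subgroup.card_dvd_of_le (inf_le_right : W ≤ d.V)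
        rwa [c.cardV] at this)
    have h3 : zpowers z ≤ W := zpowers_le.2 hzW
    have hlt : 3 < Nat.card W := by
      rw [← c.hz, ← Nat.card_zpowers]
      refine lt_of_le_of_ne (card_le_of_le h3) fun e => hyD ?_
      rw [eq_of_le_of_card_ge h3 e.ge]
      exact ⟨hyZ, hyV⟩
    have : j = 2 := by
      interval_cases j <;> omega
    intro v hv
    have hWV : W = d.V := eq_of_le_of_card_ge inf_le_right (by rw [hjW, this, c.cardV]; norm_num)
    rw [← hWV] at hv
    exact hv.1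
  have hZX : Z = c.X := eq_of_le_of_card_ge inf_le_right (by
    rw [ha]
    exact c.card_ge hrz hr1 hr2 inf_le_right hVZ fun y hy => hcZ hrN y hy)
  have habel : ∀ x ∈ c.X, ∀ y ∈ c.X, Commute x y := fun x hx y hy =>
    hzcomm x (hZX.symm ▸ hx) y (hZX.symm ▸ hy)
  -- the conjugate `X'` of `X`
  set X' := c.X.map (MulAut.conj g).toMonoidHom with hX'
  have hXX' : c.X ≤ normalizer (X' : Set G) := by
    intro x hx
    refine mem_normalizer_iff.2 fun y => ?_
    have hgx : g⁻¹ * x * g ∈ M := by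
      rw [hMN]
      refine c.rot_mem_normalizer ((Commute.conj_iff g).1 ?_)
      rw [show g * (g⁻¹ * x * g) * g⁻¹ = x by group]
      exact hXz' x hx
    simp only [hX', Subgroup.mem_map_equiv, MulAut.conj_symm_apply]
    have := mem_normalizer_iff.1 hgx (g⁻¹ * y * g)
    rw [this]
    simp [mul_assoc]
  have hX'card : Nat.card X' = 81 := by rw [hX', card_map_of_injective (MulAut.conj g).injective, ha]
  have hX'ne : c.X ≠ X' := by
    intro e
    refine hgM ?_
    rw [hM, mem_normalizer_iff_map_conj_eq]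
    exact e.symm
  set U := c.X ⊔ X' with hU
  have hUp : IsPGroup 3 U := IsPGroup.to_sup_of_normal_right' c.isPGroup_X
    (c.isPGroup_X.map _) hXX'
  obtain ⟨w, hw⟩ := hUp.exists_card_eq
  have hw5 : w ≤ 5 := le_six (c := c) (hw ▸ c.hG ▸ Subgroup.card_subgroup_dvd_card _)
  have hlt : Nat.card c.X < Nat.card U := by
    refine lt_of_le_of_ne (card_le_of_le le_sup_left) fun e => hX'ne ?_
    have h1 := eq_of_le_of_card_ge (le_sup_left : c.X ≤ U) e.ge
    exact (eq_of_le_of_card_ge (h1 ▸ le_sup_right : X' ≤ c.X) (by rw [hX'card, ha])).symm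
  obtain rfl : w = 5 := by
    rw [ha, hw] at hlt
    have : 4 < w := by
      by_contra h
      have := Nat.pow_le_pow_right (show 0 < 3 by norm_num) (show w ≤ 4 by omega)
      norm_num at this
      omega
    omega
  rw [show (3 : ℕ) ^ 5 = 243 by norm_num] at hw
  have hinf : Nat.card (c.X ⊓ X' : Subgroup G) = 27 := by
    have h := Offender.card_sup_mul_card_inf hXX'
    rw [ha, hX'card, show c.X ⊔ X' = U from rfl, hw] at h
    omega
  -- `U` is a Sylow 3-subgroup of `M`, conjugate to `P`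
  have hXn : (c.X.subgroupOf U).Normal := by
    refine normal_of_index_eq_minFac_card ?_
    have h1 := (c.X.subgroupOf U).card_mul_index
    rw [Nat.card_congr (subgroupOfEquivOfLe (le_sup_left : c.X ≤ U)).toEquiv, ha, hw] at h1
    rw [hw, show Nat.minFac 243 = 3 by norm_num]
    omega
  have hUM : U ≤ M := (normal_subgroupOf_iff_le_normalizer le_sup_left).1 hXn
  have hPM : P ≤ M := (sup_le (zpowers_le.2 hrN) hXN).trans hNM
  have hM1944 : Nat.card M = 1944 := by
    have h := M.card_mul_index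
    rw [hMi, c.hG] at h
    omega
  have hsyl : ∀ {L : Subgroup G}, L ≤ M → Nat.card L = 243 → ∃ S : Sylow 3 M, (S : Subgroup M) = L.subgroupOf M := by
    intro L hL hc
    refine ⟨Sylow.ofCard (L.subgroupOf M) ?_, Sylow.coe_ofCard _ _⟩
    rw [Nat.card_congr (subgroupOfEquivOfLe hL).toEquiv, hc, hM1944]
    rw [show (1944 : ℕ) = 2 ^ 3 * 3 ^ 5 by norm_num,
      Nat.factorization_mul (by norm_num) (by norm_num), Finsupp.add_apply,
      Nat.prime_two.factorization_pow, Nat.prime_three.factorization_pow, Finsupp.single_eq_same,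
      Finsupp.single_eq_of_ne (by norm_num)]
    norm_num
  obtain ⟨S₁, hS₁⟩ := hsyl hUM hw
  obtain ⟨S₂, hS₂⟩ := hsyl hPM hb
  obtain ⟨m, hm⟩ := MulAction.exists_smul_eq M S₁ S₂
  have hmU : ∀ u ∈ U, (m : G) * u * (m : G)⁻¹ ∈ P := by
    intro u hu
    have h1 : (⟨u, hUM hu⟩ : M) ∈ (S₁ : Subgroup M) := by rw [hS₁]; exact mem_subgroupOf.2 hu
    have h2 : MulAut.conj m • (⟨u, hUM hu⟩ : M) ∈ ((m • S₁ : Sylow 3 M) : Subgroup M) := by
      rw [Sylow.coe_subgroup_smul]
      exact smul_mem_pointwise_smul _ _ _ h1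
    rw [hm, hS₂, mem_subgroupOf] at h2
    simpa using h2
  -- `r` centralises a subgroup of order 27 of `X`
  obtain ⟨p, hp', hpX⟩ : ∃ p ∈ X', p ∉ c.X := by
    by_contra hcon
    push Not at hcon
    exact hX'ne (eq_of_le_of_card_ge hcon (by rw [hX'card, ha])).symm
  have hpP := hmU p (mem_sup_right hp')
  have hset : (P : Set G) = (zpowers r : Set G) * (c.X : Set G) :=
    Subgroup.coe_mul_of_left_le_normalizer_right (zpowers r) c.X ((zpowers_le.2 hrN).trans hNM)
  have hpP' : (m : G) * p * (m : G)⁻¹ ∈ (zpowers r : Set G) * (c.X : Set G) := hset ▸ hpP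
  obtain ⟨s, ⟨n, rfl⟩, x₀, hx₀, hprod⟩ := hpP'
  set I := (c.X ⊓ X').map (MulAut.conj (m : G)).toMonoidHom with hI
  have hIcard : Nat.card I = 27 := by rw [hI, card_map_of_injective (MulAut.conj (m : G)).injective, hinf]
  have hIX : I ≤ c.X := by
    rintro _ ⟨x, hx, rfl⟩
    exact (mem_normalizer_iff.1 m.2 x).1 hx.1
  have hIs : ∀ y ∈ I, Commute (r ^ n) y := by
    rintro _ ⟨x, hx, rfl⟩
    have hxp : Commute p x := by
      obtain ⟨p₀, hp₀, rfl⟩ := hp'
      obtain ⟨x₁, hx₁, hxe⟩ := hx.2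
      rw [← hxe]
      exact (habel p₀ hp₀ x₁ hx₁).map (MulAut.conj g).toMonoidHom
    have h1 : Commute (r ^ n * x₀) (MulAut.conj (m : G) x) := by
      rw [show r ^ n * x₀ = (m : G) * p * (m : G)⁻¹ from hprod]
      exact hxp.map (MulAut.conj (m : G)).toMonoidHom
    have h2 : Commute x₀ (MulAut.conj (m : G) x) :=
      habel _ hx₀ _ ((mem_normalizer_iff.1 m.2 x).1 hx.1)
    have := h1.mul_left h2.inv_left
    rwa [mul_inv_cancel_right] at this
  -- `r` is a power of `r ^ n` times an element of `X`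
  have hrnX : r ^ n ∉ c.X := by
    intro h
    have h5 : (m : G) * p * (m : G)⁻¹ ∈ c.X := hprod ▸ mul_mem h hx₀
    exact hpX (((mem_normalizer_iff.1 m.2) p).2 h5)
  obtain ⟨l, hl⟩ : ∃ l : ℤ, r * ((r ^ n) ^ l)⁻¹ ∈ c.X := by
    have hr3X : r ^ 3 ∈ c.X := by
      have hsub : c.X.subgroupOf P ≤ ⊤ := le_top
      haveI : (c.X.subgroupOf P).Normal :=
        (normal_subgroupOf_iff_le_normalizer le_sup_right).2 hPM
      have h3 : (c.X.subgroupOf P).index = 3 := by
        have h1 := (c.X.subgroupOf P).card_mul_index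
        rw [Nat.card_congr (subgroupOfEquivOfLe (le_sup_right : c.X ≤ P)).toEquiv, ha, hb] at h1
        omega
      have := Subgroup.pow_index_mem (c.X.subgroupOf P) ⟨r, mem_sup_left (mem_zpowers r)⟩
      rw [h3] at this
      simpa [mem_subgroupOf] using this
    have hn3 : ¬ (3 : ℤ) ∣ n := by
      rintro ⟨e, rfl⟩
      refine hrnX ?_
      rw [zpow_mul]
      exact zpow_mem (by simpa [zpow_natCast] using hr3X) e
    have hgcd : Int.gcd n 3 = 1 := by
      rcases (Nat.dvd_prime Nat.prime_three).1 (Int.natCast_dvd_natCast.1 (Int.gcd_dvd_right n 3)) with e | e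
      · exact e
      · have h' := Int.gcd_dvd_left n 3
        rw [e] at h'
        exact absurd h' hn3
    refine ⟨Int.gcdA n 3, ?_⟩
    have hbez := Int.gcd_eq_gcd_ab n 3
    rw [hgcd] at hbez
    have : r * ((r ^ n) ^ Int.gcdA n 3)⁻¹ = (r ^ (3 : ℤ)) ^ Int.gcdB n 3 := by
      rw [← zpow_mul, ← zpow_mul, ← zpow_neg, ← zpow_one_add]
      congr 1
      push_cast at hbez
      linarith
    rw [this]
    exact zpow_mem (by exact_mod_cast hr3X) _
  have hIr : ∀ y ∈ I, Commute r y := by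
    intro y hy
    have h1 : Commute ((r ^ n) ^ l) y := (hIs y hy).zpow_left l
    have h2 := (habel _ hl _ (hIX hy) : Commute _ y).mul_left h1
    rwa [inv_mul_cancel_right] at h2
  -- the norm map is injective on the fixed points of `r`
  let φ : I → d.V := fun y => ⟨(y : G) * (J * y * J⁻¹), c.X_inf_le
    (mul_mem (hIX y.2) (c.conj_invert hJN (hIX y.2))) (mul_inv_eq_iff_eq_mul.1 (by
      rw [conj_mul.symm, show J * (J * (y : G) * J⁻¹) * J⁻¹ = y by
        calc J * (J * (y : G) * J⁻¹) * J⁻¹ = (J * J) * y * (J * J)⁻¹ := by group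
          _ = y := by rw [hJ, d.J_sq]; group]
      exact ((habel _ (hIX y.2) _ (c.conj_invert hJN (hIX y.2))).symm.eq)))⟩
  have hφ : Function.Injective φ := by
    intro a b hab'
    have h := congrArg Subtype.val hab'
    simp only [φ] at h
    set y := (a : G) * (b : G)⁻¹ with hy
    have hyI : y ∈ I := mul_mem a.2 (inv_mem b.2)
    have hJy : J * y * J⁻¹ = y⁻¹ := by
      have hbX := hIX b.2
      have haX := hIX a.2
      have hJb := c.conj_invert hJN hbX
      rw [hy, mul_inv_rev, inv_inv, show J * ((a : G) * (b : G)⁻¹) * J⁻¹ =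
        J * (a : G) * J⁻¹ * (J * (b : G) * J⁻¹)⁻¹ by group]
      calc J * (a : G) * J⁻¹ * (J * (b : G) * J⁻¹)⁻¹
          = (a : G)⁻¹ * ((a : G) * (J * (a : G) * J⁻¹)) * (J * (b : G) * J⁻¹)⁻¹ := by group
        _ = (a : G)⁻¹ * ((b : G) * (J * (b : G) * J⁻¹)) * (J * (b : G) * J⁻¹)⁻¹ := by rw [h]
        _ = (a : G)⁻¹ * (b : G) := by group
        _ = (b : G) * (a : G)⁻¹ := (habel _ (inv_mem haX) _ hbX).eq
    have hry : r * y * r⁻¹ = y := by rw [(hIr y hyI).eq, mul_inv_cancel_right]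
    have t1 : (J * τ) * y * (J * τ)⁻¹ = y⁻¹ := by
      conv_lhs => rw [← hr1, ← hry]
      rw [show r * J * r⁻¹ * (r * y * r⁻¹) * (r * J * r⁻¹)⁻¹ = r * (J * y * J⁻¹) * r⁻¹ by group,
        hJy, ← conj_inv, hry]
    have t2 : τ * y * τ⁻¹ = y⁻¹ := by
      conv_lhs => rw [← hr3, ← hry]
      rw [show r * (J * τ) * r⁻¹ * (r * y * r⁻¹) * (r * (J * τ) * r⁻¹)⁻¹ =
        r * ((J * τ) * y * (J * τ)⁻¹) * r⁻¹ by group, t1, ← conj_inv, hry]
    have hy1 : y = 1 := by
      have h1 : y = y⁻¹ := by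
        calc y = (J * τ) * y⁻¹ * (J * τ)⁻¹ := by rw [← conj_inv, t1, inv_inv]
          _ = J * (τ * y * τ⁻¹)⁻¹ * J⁻¹ := by group
          _ = y⁻¹ := by rw [t2, inv_inv, hJy]
      have h2 : y ^ 2 = 1 := by rw [pow_two]; exact mul_eq_one_iff_eq_inv.2 h1
      refine orderOf_eq_one_iff.1 (Nat.eq_one_of_dvd_coprimes ?_ (orderOf_dvd_of_pow_eq_one h2) dvd_rfl)
      exact Nat.coprime_two_left.2 (c.odd_X.of_dvd_nat (Subgroup.orderOf_dvd_natCard _ (hIX hyI)))
    rw [hy, mul_inv_eq_one] at hy1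
    exact Subtype.ext hy1
  have := Nat.card_le_card_of_injective φ hφ
  rw [hIcard, c.cardV] at this
  omega

end Nine

end Cfsg.Agent.DihedralBlock.Seven

namespace Cfsg.Agent.DihedralBlock.Data

open Cfsg Subgroup
open scoped Pointwise

universe u

variable {G : Type u} [Group G] [Fintype G] [IsSimpleGroup G] {σ τ : G} {M₀ : ℕ}

/-- `d' = 1 < d` only occurs in `A₇`. -/
theorem iso_alternating_seven (d : Data σ τ M₀) (P : Sylow 2 G) (hσ : σ ∈ (P : Subgroup G))
    (hτ : τ ∈ (P : Subgroup G))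
    (hform : ∀ x ∈ (P : Subgroup G), ∃ i : ℕ, x = σ ^ i ∨ x = σ ^ i * τ)
    (hD : (d.V ⊓ centralizer ({τ} : Set G) : Subgroup G) ≠ ⊥)
    (hD' : (d.V ⊓ centralizer ({σ * τ} : Set G) : Subgroup G) = ⊥) :
    Nonempty (G ≃* alternatingGroup (Fin 7)) := by
  haveI : Fact (Nat.Prime 3) := ⟨Nat.prime_three⟩
  obtain ⟨χ, n, D, h⟩ := d.exists_small P hσ hτ hform hD hD'
  have c := h.ctx
  rcases h.cases' with ⟨rfl, rfl, hG⟩ | ⟨rfl, -⟩
  swap
  · exact absurd rfl (c.ne_seven hD)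
  have hV := c.card_V hD'
  rw [h.cardD] at hV
  rcases (Nat.dvd_prime Nat.prime_three).1 (c.cardE_dvd rfl) with e | e <;> rw [e] at hV <;>
    norm_num at hV <;> rw [hV] at hG <;> norm_num at hG
  · exact Order2520.iso_alternating_seven (by rw [Nat.card_eq_fintype_card]; omega)
  · exfalso
    have := isCyclic_of_prime_card (α := (d.V ⊓ centralizer ({τ} : Set G) : Subgroup G)) h.cardD
    obtain ⟨z₀, hz₀⟩ := IsCyclic.exists_generator
      (α := (d.V ⊓ centralizer ({τ} : Set G) : Subgroup G))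
    obtain ⟨z, hz⟩ : ∃ z : G, zpowers z = d.V ⊓ centralizer ({τ} : Set G) := by
      refine ⟨z₀, le_antisymm (zpowers_le.2 z₀.2) fun x hx => ?_⟩
      obtain ⟨k, hk⟩ := hz₀ ⟨x, hx⟩
      exact ⟨k, by simpa using congrArg Subtype.val hk⟩
    refine Seven.Nine.false_nine (c := (?_ : Seven.Nine d χ z))
    exact ⟨c, hD', hz.symm, by rw [← Nat.card_zpowers, hz, h.cardD], e, by rw [Nat.card_eq_fintype_card]; omega⟩

end Cfsg.Agent.DihedralBlock.Data
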