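import Cfsg.Agent.Lib.DihedralBlock.SignedDegrees
import Cfsg.Agent.Lib.DihedralBlock.Average
import Cfsg.Agent.Lib.CharInt.Galois
import Cfsg.Agent.Lib.BlockCount.Criterion
import Cfsg.Agent.Lib.ZStar.Assemble

/-!
# The case `d' = 1 < d`: a rational character of degree 15 or 7

If only one of the two four groups of the Sylow 2-subgroup has a centraliser with non-trivial odd
part, the principal block contains a rational character `χ` of degree `n = 15` or `7` with value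
`-1` on every element `u v`, `u` an involution and `v` of odd order commuting with it.
-/

set_option autoImplicit false
set_option linter.style.haveILetI false
set_option linter.unusedSectionVars false

namespace Cfsg.Agent.DihedralBlock

open Cfsg
open scoped ComplexConjugate

universe u

variable {G : Type u} [Group G] [Fintype G] {σ τ : G} {M₀ : ℕ}

namespace Seven

/-- The properties of the small character. -/
structure Ctx (d : Data σ τ M₀) (χ : IrrCharacter G) (n : ℕ) : Prop where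
  two : M₀ = 2
  deg : χ.1 1 = n
  val_inv : ∀ u y : G, orderOf u = 2 → Commute u y → Odd (orderOf y) → χ.1 (u * y) = -1
  val_sigma : ∀ e ∈ d.V, Commute σ e → ∀ l : ℕ, 0 < l → l < 4 → χ.1 (σ ^ l * e) = -1
  fixed : ∀ (g : G) (k : ℕ), k.Coprime (orderOf g) → χ.1 (g ^ k) = χ.1 g

/-- The data of the case `d' = 1`, `d = |D| > 1`. -/
structure Small (d : Data σ τ M₀) (χ : IrrCharacter G) (n D : ℕ) : Prop where
  ctx : Ctx d χ n
  cardD : Nat.card (d.V ⊓ Subgroup.centralizer ({τ} : Set G) : Subgroup G) = D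
  cases' : n = 15 ∧ D = 3 ∧ 3 * Nat.card G = 280 * Nat.card d.V ^ 3 ∨ n = 7 ∧ D = 5

end Seven

namespace Data

variable (d : Data σ τ M₀) (P : Sylow 2 G) (hσ : σ ∈ (P : Subgroup G)) (hτ : τ ∈ (P : Subgroup G))
  (hform : ∀ x ∈ (P : Subgroup G), ∃ i : ℕ, x = σ ^ i ∨ x = σ ^ i * τ)
include d hσ hτ hform

/-- Galois conjugates of `χ₁` equal `χ₁` when its degree is unique among the four characters. -/
theorem map_eq_self {M : Ideal AlgInt} (hM : IsPModular 2 M) {χ₁ χ₂ χ₃ : IrrCharacter G}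
    {δ₁ δ₂ δ₃ : ℤ} (h1 : δ₁ = 1 ∨ δ₁ = -1) (h2 : δ₂ = 1 ∨ δ₂ = -1) (h3 : δ₃ = 1 ∨ δ₃ = -1)
    (m1 : χ₁ ∈ principalBlock M G) (m2 : χ₂ ∈ principalBlock M G) (m3 : χ₃ ∈ principalBlock M G)
    (n1 : χ₁ ≠ Char.trivialChar G) (n2 : χ₂ ≠ Char.trivialChar G) (n3 : χ₃ ≠ Char.trivialChar G)
    (n12 : χ₁ ≠ χ₂) (n13 : χ₁ ≠ χ₃) (n23 : χ₂ ≠ χ₃)
    (hval : ∀ l : ℕ, 0 < l → l < 2 * M₀ →
      χ₁.1 (σ ^ l) = δ₁ ∧ χ₂.1 (σ ^ l) = δ₂ * (-1) ^ (l + 1) ∧ χ₃.1 (σ ^ l) = δ₃ * (-1) ^ (l + 1))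
    (e1 : charDegree χ₁.1 ≠ 1) (e2 : charDegree χ₂.1 ≠ charDegree χ₁.1)
    (e3 : charDegree χ₃.1 ≠ charDegree χ₁.1) (f : ℂ →+* ℂ) (g : G) : f (χ₁.1 g) = χ₁.1 g := by
  classical
  haveI := hM.2.1
  set ψ : IrrCharacter G := ⟨fun g => f (χ₁.1 g), CharInt.isIrrCharacter_map χ₁.2 f⟩ with hψ
  have hψmem : ψ ∈ principalBlock M G := by
    rw [BlockCount.mem_principalBlock_iff hM] at m1 ⊢
    intro h0
    refine m1 (f.injective ?_)
    rw [map_zero, ← h0, BlockCount.pregSum, BlockCount.pregSum, map_sum]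
  have hodd : ∀ {l : ℕ}, l % 2 = 1 → ((-1 : ℂ) ^ (l + 1)) = 1 := fun {l} hl => by
    rw [Even.neg_one_pow (Nat.even_iff.2 (by omega))]
  obtain ⟨m, hm, hinner⟩ := Char.IsGeneralizedCharacter.exists_decomp
    (d.isGeneralized_Psi d.isPrimitiveRoot_zeta M₀)
  have hmt : m (Char.trivialChar G) = 1 := by
    have h := d.classInner_SgnPsi_principal hM (χ := Char.trivialChar G)
      (Blocks.sameBlock_refl _) 1 (fun l _ _ _ => by simp)
    rw [Core.SgnPsi, hinner] at h; exact_mod_cast h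
  have hm1 : m χ₁ = δ₁ := by
    have h := d.classInner_SgnPsi_principal hM m1 δ₁ (fun l h0 hl _ => (hval l h0 hl).1)
    rw [Core.SgnPsi, hinner] at h; exact_mod_cast h
  have hm2 : m χ₂ = δ₂ := by
    have h := d.classInner_SgnPsi_principal hM m2 δ₂
      (fun l h0 hl ho => by rw [(hval l h0 hl).2.1, hodd ho, mul_one])
    rw [Core.SgnPsi, hinner] at h; exact_mod_cast h
  have hm3 : m χ₃ = δ₃ := by
    have h := d.classInner_SgnPsi_principal hM m3 δ₃
      (fun l h0 hl ho => by rw [(hval l h0 hl).2.2, hodd ho, mul_one])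
    rw [Core.SgnPsi, hinner] at h; exact_mod_cast h
  have hmψ : m ψ = δ₁ := by
    have h := d.classInner_SgnPsi_principal hM hψmem δ₁
      (fun l h0 hl _ => by show f (χ₁.1 (σ ^ l)) = _; rw [(hval l h0 hl).1, map_intCast])
    rw [Core.SgnPsi, hinner] at h; exact_mod_cast h
  have hnorm : ∑ χ, m χ ^ 2 = 4 := by
    have h := Char.IsGeneralizedCharacter.classInner_self_eq_sum hm
    rw [d.classInner_Psi_Psi d.isPrimitiveRoot_zeta d.hM0 le_rfl d.hM0 le_rfl, if_pos rfl,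
      if_pos rfl] at h
    exact_mod_cast h.symm
  by_contra hne
  have hdeg : charDegree ψ.1 = charDegree χ₁.1 := by
    have : (charDegree ψ.1 : ℂ) = charDegree χ₁.1 := by
      rw [Char.charDegree_cast]
      show f (χ₁.1 1) = _
      rw [← Char.charDegree_cast, map_natCast]
    exact_mod_cast this
  have p1 : ψ ≠ χ₁ := fun e => hne (congrFun (congrArg Subtype.val e) g)
  have p0 : ψ ≠ Char.trivialChar G := fun e => by
    refine e1 ?_
    rw [← hdeg, e]
    exact_mod_cast (Char.charDegree_cast (Char.trivialChar G)).trans (Char.trivialChar_apply (1 : G))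
  have p2 : ψ ≠ χ₂ := fun e => e2 (by rw [← e, hdeg])
  have p3 : ψ ≠ χ₃ := fun e => e3 (by rw [← e, hdeg])
  have hle := Finset.sum_le_sum_of_subset_of_nonneg (s := {Char.trivialChar G, χ₁, χ₂, χ₃, ψ})
    (t := Finset.univ) (f := fun χ => m χ ^ 2) (Finset.subset_univ _) fun χ _ _ => sq_nonneg _
  have hsq : ∀ e : ℤ, (e = 1 ∨ e = -1) → e ^ 2 = 1 := by rintro e (rfl | rfl) <;> norm_num
  rw [hnorm, Finset.sum_insert (by simp [n1.symm, n2.symm, n3.symm, p0.symm]),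
    Finset.sum_insert (by simp [n12, n13, p1.symm]), Finset.sum_insert (by simp [n23, p2.symm]),
    Finset.sum_pair p3.symm, hmt, hm1, hm2, hm3, hmψ, hsq _ h1, hsq _ h2, hsq _ h3] at hle
  norm_num at hle

/-- The small character. -/
theorem exists_small (hD : (d.V ⊓ Subgroup.centralizer ({τ} : Set G) : Subgroup G) ≠ ⊥)
    (hD' : (d.V ⊓ Subgroup.centralizer ({σ * τ} : Set G) : Subgroup G) = ⊥) :
    ∃ (χ : IrrCharacter G) (n D : ℕ), Seven.Small d χ n D := by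
  classical
  obtain ⟨M, hM⟩ := ZStar.exists_isPModular_two
  haveI := hM.2.1
  obtain ⟨χ₁, χ₂, χ₃, δ₁, δ₂, δ₃, a, b, c, h1, h2, h3, m1, m2, m3, n1, n2, n3, n12, n13, n23, hval,
    ha, hb, hc, ha1, hrel, hca, hcb, hcc, heq⟩ := d.signed_degrees P hσ hτ hform hM
  set D := Nat.card (d.V ⊓ Subgroup.centralizer ({τ} : Set G) : Subgroup G) with hDdef
  have hp := d.card_centralizer_pair
  have hq : Nat.card (Subgroup.centralizer ({σ ^ M₀, σ * τ} : Set G)) = 4 := by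
    rw [d.toCore.shift.card_centralizer_pair, show d.toCore.shift.V = d.V from rfl, hD',
      Subgroup.card_bot, mul_one]
  have hDodd : Odd D := d.oddV.of_dvd_nat (Subgroup.card_dvd_of_le inf_le_left)
  have hD3 : 3 ≤ D := by
    have := Subgroup.one_lt_card_iff_ne_bot _ |>.2 hD
    obtain ⟨k, hk⟩ := hDodd
    omega
  rw [hp, hq, ← hDdef] at heq
  push_cast at heq
  obtain ⟨j, hj⟩ := d.hM
  have hM0 := d.hM0
  have ha8 : a % 8 = 1 := by
    have h' : (8 : ℤ) ∣ a - 1 := (Dvd.intro (j : ℤ) (by rw [hj]; push_cast; ring)).trans hca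
    omega
  have hb4 : b % 4 = 1 := by
    have h' : (4 : ℤ) ∣ b - (1 + 2 * M₀) := (Dvd.intro (M₀ : ℤ) rfl).trans hcb
    rw [hj] at h'; push_cast at h'; omega
  have hc4 : c % 4 = 1 := by
    have h' : (4 : ℤ) ∣ c - (1 + 2 * M₀) := (Dvd.intro (M₀ : ℤ) rfl).trans hcc
    rw [hj] at h'; push_cast at h'; omega
  have hb1 : b ≠ 1 := by
    rintro rfl
    obtain ⟨k, hk⟩ := hcb
    have : (2 * M₀ : ℤ) * (2 * k + 1) = 0 := by linear_combination -hk
    rcases mul_eq_zero.1 this with e | e <;> omega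
  have hc1 : c ≠ 1 := by
    rintro rfl
    obtain ⟨k, hk⟩ := hcc
    have : (2 * M₀ : ℤ) * (2 * k + 1) = 0 := by linear_combination -hk
    rcases mul_eq_zero.1 this with e | e <;> omega
  have hbc : (b - c) % 8 = 0 := by
    have h' : (8 : ℤ) ∣ (b - (1 + 2 * M₀)) - (c - (1 + 2 * M₀)) :=
      (Dvd.intro (j : ℤ) (by rw [hj]; push_cast; ring)).trans (dvd_sub hcb hcc)
    omega
  have key := SignArith.small (d := (D : ℤ)) (by exact_mod_cast hD3)
    (by exact_mod_cast Nat.odd_iff.1 hDodd) hrel ha8 ha1 hb4 hb1 hc4 hc1 hbc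
    (mul_left_cancel₀ (show (16 : ℤ) ≠ 0 by norm_num) (by linear_combination heq))
  have hδ1 : δ₁ = -1 := by
    rcases h1 with rfl | rfl
    · rcases key with ⟨-, e, -⟩ | ⟨-, e, -⟩ <;> omega
    · rfl
  have hM2 : M₀ = 2 := by
    have h16 : (M₀ : ℤ) ∣ 4 := by
      rcases key with ⟨-, rfl, -⟩ | ⟨-, rfl, -⟩
      · obtain ⟨k, hk⟩ := hca; exact ⟨-k, by linarith⟩
      · obtain ⟨k, hk⟩ := hca; exact ⟨-(2 * k), by linarith⟩
    have h16' : M₀ ∣ 4 := by exact_mod_cast h16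
    have hle : M₀ ≤ 4 := Nat.le_of_dvd (by norm_num) h16'
    have : M₀ = 2 ∨ M₀ = 4 := by omega
    rcases this with e | e
    · exact e
    · exfalso
      rw [e] at hcb hcc hca
      rcases key with ⟨-, rfl, ⟨rfl, rfl⟩ | ⟨rfl, rfl⟩⟩ | ⟨-, rfl, ⟨rfl, rfl⟩ | ⟨rfl, rfl⟩⟩ <;>
        norm_num at *
  subst hδ1
  obtain ⟨n, hn, hn15⟩ : ∃ n, charDegree χ₁.1 = n ∧ (n = 15 ∧ D = 3 ∨ n = 7 ∧ D = 5) := by
    refine ⟨_, rfl, ?_⟩
    rcases key with ⟨e, e', -⟩ | ⟨e, e', -⟩ <;> omega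
  have e1 : charDegree χ₁.1 ≠ 1 := by omega
  have e23 : charDegree χ₂.1 ≠ charDegree χ₁.1 ∧ charDegree χ₃.1 ≠ charDegree χ₁.1 := by
    rcases h2 with rfl | rfl <;> rcases h3 with rfl | rfl <;>
      rcases key with ⟨e, e', ⟨p, q⟩ | ⟨p, q⟩⟩ | ⟨e, e', ⟨p, q⟩ | ⟨p, q⟩⟩ <;> omega
  have hχJ : χ₁.1 (σ ^ M₀) = -1 := by
    rw [(hval M₀ d.hM0 (by omega)).1]; norm_num
  have hcl := Char.IsCharacter.isClassFunction (Char.irr_isCharacter χ₁)
  have hctx : Seven.Ctx d χ₁ n := by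
    refine ⟨hM2, by rw [← Char.charDegree_cast, hn], fun u y hu huy hy => ?_,
      fun e he hse l hl0 hl4 => ?_, fun g k hk => ?_⟩
    · obtain ⟨h, hh⟩ := isConj_iff.1 (d.conjAll u hu)
      have hv : h⁻¹ * y * h ∈ d.V := by
        refine (d.mem_V _).2 ⟨?_, ?_⟩
        · have h5 : σ ^ M₀ = h⁻¹ * u * h := by rw [← hh]; group
          rw [h5, Commute, SemiconjBy]
          calc h⁻¹ * u * h * (h⁻¹ * y * h) = h⁻¹ * (u * y) * h := by group
            _ = h⁻¹ * (y * u) * h := by rw [huy.eq]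
            _ = _ := by group
        · have := (MulAut.conj h⁻¹).orderOf_eq y
          rw [MulAut.conj_apply, inv_inv] at this
          rwa [this]
      rw [← hcl (u * y) h⁻¹, inv_inv,
        show h⁻¹ * (u * y) * h = (h⁻¹ * u * h) * (h⁻¹ * y * h) by group,
        show h⁻¹ * u * h = σ ^ M₀ by rw [← hh]; group,
        Seven.apply_mul_of_complement hM ⟨1, by rw [d.orderOf_J, pow_one]⟩ (fun v => d.mem_V v) m1 hv,
        hχJ]
    · have hne : σ ^ l ≠ 1 := pow_ne_one_of_lt_orderOf hl0.ne' (by rw [d.hord, hM2]; omega)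
      obtain ⟨k, hk⟩ := d.two_pow
      have hk' : ∃ s, orderOf (σ ^ l) = 2 ^ s := by
        obtain ⟨s, -, hs⟩ := (Nat.dvd_prime_pow Nat.prime_two).1
          (hk ▸ orderOf_pow_dvd (x := σ) l : orderOf (σ ^ l) ∣ 2 ^ k)
        exact ⟨s, hs⟩
      obtain ⟨i, hi⟩ := d.exists_pow_eq_J d.V.one_mem hne
      rw [one_mul] at hi
      have hN : ∀ v, v ∈ d.V ⊓ Subgroup.centralizer ({σ ^ l} : Set G) ↔
          Commute (σ ^ l) v ∧ Odd (orderOf v) := fun v => by
        rw [Subgroup.mem_inf, Subgroup.mem_centralizer_singleton_iff]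
        exact ⟨fun h => ⟨h.2.symm, d.odd_of_mem h.1⟩,
          fun h => ⟨(d.mem_V v).2 ⟨hi ▸ h.1.pow_left i, h.2⟩, h.1.symm.eq⟩⟩
      rw [Seven.apply_mul_of_complement hM hk' hN m1
        ((hN e).2 ⟨hse.pow_left l, d.odd_of_mem he⟩), (hval l hl0 (by omega)).1]
      norm_num
    · obtain ⟨m, hm, hmk⟩ := CharInt.exists_coprime_pow_eq g hk
      obtain ⟨f, hf⟩ := CharInt.exists_ringHom_pow Nat.card_pos.ne' hm
      rw [← hmk, ← CharInt.map_char_eq_pow (Char.irr_isCharacter χ₁) hf g]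
      exact d.map_eq_self P hσ hτ hform hM (Or.inr rfl) h2 h3 m1 m2 m3 n1 n2 n3 n12 n13 n23 hval
        e1 e23.1 e23.2 f g
  refine ⟨χ₁, n, D, hctx, rfl, ?_⟩
  rcases hn15 with ⟨rfl, hD3'⟩ | h7
  · refine Or.inl ⟨rfl, hD3', ?_⟩
    obtain ⟨-, hord⟩ := d.order_formula hM m1
      (fun e => n1 (Subtype.ext e)) (Or.inr rfl) fun l h0 hl => (hval l h0 hl).1
    rw [hn, d.card_centralizer_J, d.card_K, hp, hq, ← hDdef, hD3'] at hord
    push_cast [hM2] at hord
    push_cast at hord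
    have : (3 : ℂ) * Nat.card G = 280 * (Nat.card d.V : ℂ) ^ 3 := by linear_combination (3 / 256) * hord
    exact_mod_cast this
  · exact Or.inr h7

end Data

end Cfsg.Agent.DihedralBlock
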