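import Cfsg.Agent.Lib.DihedralBlock.SevenValues

/-!
# The case `d' = 1 < d`: the odd part of the centraliser of an involution has order 3 or 9

Weights of the rational character of degree 15 or 7: degree 7 is impossible, `D` has order 3 and
`E = C_V(σ)` has order dividing 3.
-/

set_option autoImplicit false
set_option linter.style.haveILetI false
set_option linter.unusedSectionVars false

namespace Cfsg.Agent.DihedralBlock.Seven

open Cfsg Subgroup
open scoped ComplexConjugate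

universe u

variable {G : Type u} [Group G] [Fintype G] [IsSimpleGroup G] {σ τ : G} {M₀ : ℕ} {d : Data σ τ M₀}
  {χ : IrrCharacter G} {n : ℕ}

namespace Ctx

variable (c : Ctx d χ n)
include c

theorem apply_inv (g : G) : χ.1 g⁻¹ = χ.1 g := by
  have ho := orderOf_pos g
  have h : g⁻¹ = g ^ (orderOf g - 1) := by
    refine inv_eq_of_mul_eq_one_right ?_
    rw [← pow_succ', Nat.sub_add_cancel ho, pow_orderOf_eq_one]
  rw [h]
  refine c.fixed g _ ?_
  rw [Nat.coprime_comm]
  exact (Nat.coprime_self_sub_right ho).2 (Nat.coprime_one_right _)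

theorem exists_int (g : G) : ∃ z : ℤ, χ.1 g = z :=
  Char.exists_int_of_forall_pow (Char.irr_isCharacter χ) g (fun k hk => c.fixed g k hk)

theorem J_order : orderOf (σ ^ M₀) = 2 := d.orderOf_J

theorem tau_ne_one : τ ≠ 1 := fun h => d.mul_tau_notin_K d.K.one_mem (by
  rw [one_mul]
  exact Eq.substr (p := fun x => x ∈ d.K) h d.K.one_mem)

theorem tau_order : orderOf τ = 2 :=
  orderOf_eq_prime (by rw [pow_two]; exact d.tsq) c.tau_ne_one

theorem jtau_sq : (σ ^ M₀ * τ) * (σ ^ M₀ * τ) = 1 := by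
  rw [mul_assoc, ← mul_assoc τ, ← d.commute_J_t.eq, mul_assoc (σ ^ M₀), d.tsq, mul_one, d.J_sq]

theorem jtau_order : orderOf (σ ^ M₀ * τ) = 2 :=
  orderOf_eq_prime (by rw [pow_two]; exact c.jtau_sq) fun h =>
    d.mul_tau_notin_K (by simpa using d.mul_pow_mem_K d.V.one_mem M₀) (h ▸ d.K.one_mem)

theorem sigma_order : orderOf σ = 4 := by rw [d.hord, c.two]

/-- The mean over `⟨J, τ⟩` on `D`. -/
theorem avgD : IsCharacter (d.V ⊓ centralizer ({τ} : Set G) : Subgroup G)
    (fun y => (χ.1 (y : G) - 3) / 4) := by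
  classical
  haveI := Fintype.ofFinite (zpowers (σ ^ M₀))
  haveI := Fintype.ofFinite (zpowers τ)
  set D : Subgroup G := d.V ⊓ centralizer ({τ} : Set G)
  have hty : ∀ (t : zpowers τ) (y : D), Commute (t : G) (y : G) := by
    rintro ⟨_, k, rfl⟩ ⟨y, hy⟩
    exact Commute.zpow_left (show Commute τ y from (mem_centralizer_singleton_iff.1 hy.2).symm) k
  let i : zpowers τ × D →* G := (zpowers τ).subtype.noncommCoprod D.subtype hty
  have hc : ∀ (a : zpowers (σ ^ M₀)) (p : zpowers τ × D),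
      Commute ((zpowers (σ ^ M₀)).subtype a) (i p) := by
    rintro ⟨_, k, rfl⟩ ⟨⟨_, l, rfl⟩, ⟨y, hy⟩⟩
    exact ((d.commute_J_t.zpow_right l).mul_right (d.commute_J hy.1)).zpow_left k
  have h1 := isCharacter_average (Char.irr_isCharacter χ) (zpowers (σ ^ M₀)).subtype i hc
  have h2 := isCharacter_average h1 (MonoidHom.inl (zpowers τ) D) (MonoidHom.inr (zpowers τ) D)
    fun a y => by simp [Commute, SemiconjBy]
  have e : (fun y : D => (χ.1 (y : G) - 3) / 4) =
      fun y : D => (Nat.card (zpowers τ) : ℂ)⁻¹ * ∑ t : zpowers τ,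
        (Nat.card (zpowers (σ ^ M₀)) : ℂ)⁻¹ * ∑ a : zpowers (σ ^ M₀),
          χ.1 ((zpowers (σ ^ M₀)).subtype a *
            i (MonoidHom.inl (zpowers τ) D t * MonoidHom.inr (zpowers τ) D y)) := by
    funext y
    have hyt : Commute τ (y : G) := (mem_centralizer_singleton_iff.1 y.2.2).symm
    have hyo := d.odd_of_mem y.2.1
    simp only [MonoidHom.inl_apply, MonoidHom.inr_apply, Prod.mk_mul_mk, mul_one, one_mul]
    change _ = (Nat.card (zpowers τ) : ℂ)⁻¹ * ∑ t : zpowers τ,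
      (Nat.card (zpowers (σ ^ M₀)) : ℂ)⁻¹ * ∑ a : zpowers (σ ^ M₀),
        χ.1 ((a : G) * ((t : G) * (y : G)))
    rw [sum_zpowers (x := τ) c.tau_order (fun t => (Nat.card (zpowers (σ ^ M₀)) : ℂ)⁻¹ *
      ∑ a : zpowers (σ ^ M₀), χ.1 ((a : G) * (t * (y : G))))]
    simp only [Finset.sum_range_succ, Finset.sum_range_zero, zero_add, pow_zero, pow_one, one_mul,
      Nat.card_zpowers, c.tau_order, c.J_order]
    rw [sum_zpowers (x := σ ^ M₀) c.J_order (fun a => χ.1 (a * (y : G))),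
      sum_zpowers (x := σ ^ M₀) c.J_order (fun a => χ.1 (a * (τ * (y : G))))]
    simp only [Finset.sum_range_succ, Finset.sum_range_zero, zero_add, pow_zero, pow_one, one_mul]
    rw [c.val_inv (σ ^ M₀) y c.J_order (d.commute_J y.2.1) hyo,
      c.val_inv τ y c.tau_order hyt hyo, ← mul_assoc (σ ^ M₀),
      c.val_inv (σ ^ M₀ * τ) y c.jtau_order ((d.commute_J y.2.1).mul_left hyt) hyo]
    push_cast
    ring
  rw [e]
  exact h2

/-- The mean over `⟨σ⟩` on `E`. -/
theorem avgE : IsCharacter (d.V ⊓ centralizer ({σ} : Set G) : Subgroup G)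
    (fun y => (χ.1 (y : G) - 3) / 4) := by
  classical
  haveI := Fintype.ofFinite (zpowers σ)
  set E : Subgroup G := d.V ⊓ centralizer ({σ} : Set G)
  have h := isCharacter_average (Char.irr_isCharacter χ) (zpowers σ).subtype E.subtype (by
    rintro ⟨_, k, rfl⟩ ⟨y, hy⟩
    exact Commute.zpow_left (show Commute σ y from (mem_centralizer_singleton_iff.1 hy.2).symm) k)
  have e : (fun y : E => (χ.1 (y : G) - 3) / 4) = fun y : E =>
      (Nat.card (zpowers σ) : ℂ)⁻¹ * ∑ a : zpowers σ, χ.1 ((zpowers σ).subtype a * E.subtype y) := by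
    funext y
    have hys : Commute σ (y : G) := (mem_centralizer_singleton_iff.1 y.2.2).symm
    simp only [Subgroup.coe_subtype]
    rw [sum_zpowers (x := σ) c.sigma_order (fun a => χ.1 (a * (y : G))), Nat.card_zpowers,
      c.sigma_order]
    simp only [Finset.sum_range_succ, Finset.sum_range_zero, zero_add, pow_zero, one_mul]
    rw [c.val_sigma _ y.2.1 hys 1 (by norm_num) (by norm_num),
      c.val_sigma _ y.2.1 hys 2 (by norm_num) (by norm_num),
      c.val_sigma _ y.2.1 hys 3 (by norm_num) (by norm_num)]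
    push_cast
    ring
  rw [e]
  exact h

/-- The mean over `⟨J⟩` on `V`. -/
theorem avgJ : IsCharacter d.V (fun y => (χ.1 (y : G) - 1) / 2) := by
  classical
  haveI := Fintype.ofFinite (zpowers (σ ^ M₀))
  have h := isCharacter_average (Char.irr_isCharacter χ) (zpowers (σ ^ M₀)).subtype d.V.subtype (by
    rintro ⟨_, k, rfl⟩ ⟨y, hy⟩
    exact (d.commute_J hy).zpow_left k)
  have e : (fun y : d.V => (χ.1 (y : G) - 1) / 2) = fun y : d.V =>
      (Nat.card (zpowers (σ ^ M₀)) : ℂ)⁻¹ *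
        ∑ a : zpowers (σ ^ M₀), χ.1 ((zpowers (σ ^ M₀)).subtype a * d.V.subtype y) := by
    funext y
    simp only [Subgroup.coe_subtype]
    rw [sum_zpowers (x := σ ^ M₀) c.J_order (fun a => χ.1 (a * (y : G))), Nat.card_zpowers,
      c.J_order]
    simp only [Finset.sum_range_succ, Finset.sum_range_zero, zero_add, pow_zero, pow_one, one_mul]
    rw [c.val_inv (σ ^ M₀) y c.J_order (d.commute_J y.2) (d.odd_of_mem y.2)]
    push_cast
    ring
  rw [e]
  exact h

theorem faithful (hn : n ≠ 1) {g : G} (hg : χ.1 g = n) : g = 1 :=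
  eq_one_of_apply_eq (by rw [c.deg]; exact_mod_cast hn) (by rw [hg, c.deg])

/-- The weights kill degree 7. -/
theorem ne_seven (hD : (d.V ⊓ centralizer ({τ} : Set G) : Subgroup G) ≠ ⊥) : n ≠ 7 := by
  intro hn
  obtain ⟨y, hy, hy1⟩ := (Subgroup.bot_or_exists_ne_one _).resolve_left hD
  set Y : (d.V ⊓ centralizer ({τ} : Set G) : Subgroup G) := ⟨y, hy⟩
  obtain ⟨k, μ, hk, hμ, hpow⟩ := CharInt.exists_roots c.avgD Y
  have hk1 : k = 1 := by
    have : ((χ.1 ((1 : (d.V ⊓ centralizer ({τ} : Set G) : Subgroup G)) : G) - 3) / 4 : ℂ) = k := hk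
    rw [Subgroup.coe_one, c.deg, hn] at this
    norm_num at this
    exact_mod_cast this.symm
  subst hk1
  have hval : ∀ j : ℕ, (χ.1 (y ^ j) - 3) / 4 = μ 0 ^ j := fun j => by
    have := hpow j
    simpa [Y] using this
  have hodd : Odd (orderOf y) := d.odd_of_mem hy.1
  have hoY : orderOf Y = orderOf y := (Subgroup.orderOf_coe Y).symm
  have hord : μ 0 ^ orderOf y = 1 := hoY ▸ hμ 0
  have h1 : μ 0 ^ (orderOf y - 1) = μ 0 := by
    have hinv : y ^ (orderOf y - 1) = y⁻¹ := by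
      refine eq_inv_of_mul_eq_one_right ?_
      rw [← pow_succ', Nat.sub_add_cancel (orderOf_pos y), pow_orderOf_eq_one]
    rw [← hval, hinv, c.apply_inv, ← pow_one (μ 0), ← hval, pow_one]
  have h2 : μ 0 * μ 0 = 1 := by
    calc μ 0 * μ 0 = μ 0 * μ 0 ^ (orderOf y - 1) := by rw [h1]
      _ = 1 := by rw [← pow_succ', Nat.sub_add_cancel (orderOf_pos y), hord]
  obtain ⟨j, hj⟩ := hodd
  have h3 : μ 0 = 1 := by
    rw [hj, pow_succ, pow_mul, pow_two, h2, one_pow, one_mul] at hord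
    exact hord
  refine hy1 (c.faithful (by omega) ?_)
  have := hval 1
  rw [pow_one, pow_one, h3] at this
  rw [hn]
  push_cast
  linear_combination 4 * this

/-- Off the identity, the character takes the value 3 on a `3`-subgroup of `D` or `E`. -/
theorem apply_eq_three {H : Subgroup G} (hH : IsPGroup 3 H) (h15 : n = 15)
    (hav : IsCharacter H fun y => (χ.1 (y : G) - 3) / 4) {y : G} (hy : y ∈ H) (hy1 : y ≠ 1) :
    χ.1 y = 3 := by
  have h := apply_eq_zero_of_degree_three hH hav (g := ⟨y, hy⟩)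
    (by rw [Subgroup.coe_one, c.deg, h15]; norm_num)
    (fun e => hy1 (c.faithful (by omega) (by
      simp only [Subgroup.coe_one, c.deg, h15] at e
      rw [h15]
      linear_combination 4 * e)))
    (fun k hk => by
      rw [← Subgroup.orderOf_coe] at hk
      simp only [Subgroup.coe_pow, c.fixed y k hk])
  linear_combination 4 * h

theorem cardE_dvd (h15 : n = 15) : Nat.card (d.V ⊓ centralizer ({σ} : Set G) : Subgroup G) ∣ 3 := by
  set E : Subgroup G := d.V ⊓ centralizer ({σ} : Set G)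
  refine (Nat.dvd_iff_prime_pow_dvd_dvd _ _).2 fun p k hp hpk => ?_
  haveI : Fact p.Prime := ⟨hp⟩
  rcases Nat.eq_zero_or_pos k with rfl | hk0
  · simp
  obtain ⟨Q, hQ⟩ := Sylow.exists_subgroup_card_pow_prime p hpk
  have hch := Char.IsCharacter.restrict c.avgE Q
  have hb := Char.card_dvd_of_rational hp (IsPGroup.of_card hQ) hch (d := 3) (n := 3)
    (by show (χ.1 (((1 : Q) : E) : G) - 3) / 4 = _
        rw [Subgroup.coe_one, Subgroup.coe_one, c.deg, h15]; norm_num) le_rfl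
    (fun g => Char.exists_int_of_forall_pow hch g fun j hj => by
      show (χ.1 (((g ^ j : Q) : E) : G) - 3) / 4 = (χ.1 ((g : E) : G) - 3) / 4
      rw [Subgroup.coe_pow, Subgroup.coe_pow, c.fixed _ j (by rwa [Subgroup.orderOf_coe, Subgroup.orderOf_coe])])
  have hker : CharInt.charKernel hch = ⊥ := by
    rw [Subgroup.eq_bot_iff_forall]
    intro g hg
    have h0 : (χ.1 ((g : E) : G) - 3) / 4 = (χ.1 (((1 : Q) : E) : G) - 3) / 4 := hg
    rw [Subgroup.coe_one, Subgroup.coe_one, c.deg] at h0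
    exact Subtype.ext (Subtype.ext (c.faithful (by omega) (by linear_combination 4 * h0)))
  rw [hker, Subgroup.card_bot, one_mul, hQ] at hb
  have hodd : p ≠ 2 := by
    rintro rfl
    have h2 : (2 : ℕ) ∣ Nat.card d.V :=
      ((dvd_pow_self 2 hk0.ne').trans hpk).trans (Subgroup.card_dvd_of_le inf_le_left)
    exact Nat.not_even_iff_odd.2 d.oddV (even_iff_two_dvd.2 h2)
  rcases eq_or_ne p 3 with rfl | h3
  · norm_num at hb
    exact hb
  · have h5 : 5 ≤ p := hp.five_le_of_ne_two_of_ne_three hodd h3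
    rw [Nat.div_eq_of_lt (show 3 < p - 1 by omega)] at hb
    simp only [pow_zero, Nat.factorial_zero, mul_one] at hb
    exact hb.trans (one_dvd _)

theorem inverted (hD' : (d.V ⊓ centralizer ({σ * τ} : Set G) : Subgroup G) = ⊥) :
    ∀ v ∈ d.V, σ * τ * v * (σ * τ)⁻¹ = v⁻¹ := by
  refine conj_eq_inv d.toCore.shift.tsq (fun v hv => ?_) fun v hv hcm => ?_
  · have hJ : Commute (σ ^ M₀) (σ * τ) := (Commute.pow_self σ M₀).mul_right d.commute_J_t
    exact d.normV _ hJ v hv
  · have : v ∈ (d.V ⊓ centralizer ({σ * τ} : Set G) : Subgroup G) :=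
      ⟨hv, mem_centralizer_singleton_iff.2 hcm.symm.eq⟩
    rwa [hD', Subgroup.mem_bot] at this

theorem commV (hD' : (d.V ⊓ centralizer ({σ * τ} : Set G) : Subgroup G) = ⊥) {v w : G}
    (hv : v ∈ d.V) (hw : w ∈ d.V) : Commute v w := by
  have h := c.inverted hD' _ (mul_mem hv hw)
  rw [conj_mul.symm, c.inverted hD' v hv, c.inverted hD' w hw, mul_inv_rev] at h
  have h' := congrArg (fun x => x⁻¹) h
  show v * w = w * v
  simpa using h'.symm

/-- Every element of `V` is a product of one in `D` and one in `E`. -/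
theorem exists_split (hD' : (d.V ⊓ centralizer ({σ * τ} : Set G) : Subgroup G) = ⊥) {v : G}
    (hv : v ∈ d.V) :
    ∃ a ∈ (d.V ⊓ centralizer ({τ} : Set G) : Subgroup G),
      ∃ b ∈ (d.V ⊓ centralizer ({σ} : Set G) : Subgroup G), v = a * b := by
  obtain ⟨j, hj⟩ := d.odd_of_mem hv
  set w := v ^ (j + 1) with hw
  have hwV : w ∈ d.V := pow_mem hv _
  have hvw : v = w * w := by
    rw [hw, ← pow_add, show j + 1 + (j + 1) = orderOf v + 1 by omega, pow_succ, pow_orderOf_eq_one,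
      one_mul]
  have hw' : τ * w * τ⁻¹ ∈ d.V := d.normV _ d.commute_J_t _ hwV
  have htt : τ * (τ * w * τ⁻¹) * τ⁻¹ = w := by
    calc τ * (τ * w * τ⁻¹) * τ⁻¹ = τ * τ * w * (τ * τ)⁻¹ := by group
      _ = w := by rw [d.tsq]; group
  have hsig : ∀ b ∈ d.V, τ * b * τ⁻¹ = b⁻¹ → σ * b * σ⁻¹ = b := by
    intro b hb hbt
    calc σ * b * σ⁻¹ = σ * τ * (τ⁻¹ * b * τ) * (σ * τ)⁻¹ := by group
      _ = σ * τ * b⁻¹ * (σ * τ)⁻¹ := by rw [d.tinv, show τ * b * τ = b⁻¹ by rw [← hbt, d.tinv]]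
      _ = b := by rw [c.inverted hD' _ (inv_mem hb), inv_inv]
  refine ⟨w * (τ * w * τ⁻¹), Subgroup.mem_inf.2 ⟨mul_mem hwV hw', ?_⟩, w * (τ * w * τ⁻¹)⁻¹,
    Subgroup.mem_inf.2 ⟨mul_mem hwV (inv_mem hw'), ?_⟩, ?_⟩
  · refine mem_centralizer_singleton_iff.2 (mul_inv_eq_iff_eq_mul.1 ?_).symm
    rw [conj_mul.symm, htt, (c.commV hD' hw' hwV).eq]
  · refine mem_centralizer_singleton_iff.2 (mul_inv_eq_iff_eq_mul.1 (hsig _ (mul_mem hwV (inv_mem hw')) ?_)).symm
    rw [conj_mul.symm, ← conj_inv, htt, mul_inv_rev, inv_inv]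
  · calc v = w * w := hvw
      _ = w * ((τ * w * τ⁻¹) * (τ * w * τ⁻¹)⁻¹) * w := by group
      _ = w * (τ * w * τ⁻¹) * (w * (τ * w * τ⁻¹)⁻¹) := by
        rw [(c.commV hD' hwV (inv_mem hw')).eq]; group

theorem inf_eq_bot (hD' : (d.V ⊓ centralizer ({σ * τ} : Set G) : Subgroup G) = ⊥) :
    (d.V ⊓ centralizer ({τ} : Set G)) ⊓ (d.V ⊓ centralizer ({σ} : Set G)) = (⊥ : Subgroup G) := by
  rw [Subgroup.eq_bot_iff_forall]
  rintro v ⟨⟨hv, ht⟩, ⟨-, hs⟩⟩
  have : v ∈ (d.V ⊓ centralizer ({σ * τ} : Set G) : Subgroup G) := by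
    refine ⟨hv, mem_centralizer_singleton_iff.2 ?_⟩
    exact ((show Commute v σ from mem_centralizer_singleton_iff.1 hs).mul_right
      (show Commute v τ from mem_centralizer_singleton_iff.1 ht)).eq
  rwa [hD', Subgroup.mem_bot] at this

theorem card_V (hD' : (d.V ⊓ centralizer ({σ * τ} : Set G) : Subgroup G) = ⊥) :
    Nat.card d.V = Nat.card (d.V ⊓ centralizer ({τ} : Set G) : Subgroup G) *
      Nat.card (d.V ⊓ centralizer ({σ} : Set G) : Subgroup G) := by
  rw [← Nat.card_prod]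
  refine (Nat.card_congr (Equiv.ofBijective (fun p :
      (d.V ⊓ centralizer ({τ} : Set G) : Subgroup G) × (d.V ⊓ centralizer ({σ} : Set G) : Subgroup G) =>
        (⟨(p.1 : G) * p.2, mul_mem p.1.2.1 p.2.2.1⟩ : d.V)) ⟨?_, ?_⟩)).symm
  · exact fun p q h => Subgroup.mul_injective_of_disjoint (disjoint_iff.2 (c.inf_eq_bot hD'))
      (congrArg Subtype.val h)
  · rintro ⟨v, hv⟩
    obtain ⟨a, ha, b, hb, e⟩ := c.exists_split hD' hv
    exact ⟨(⟨a, ha⟩, ⟨b, hb⟩), Subtype.ext e.symm⟩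

end Ctx

end Cfsg.Agent.DihedralBlock.Seven
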