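import Cfsg.Agent.Lib.DihedralBlock.SignOrder

/-!
# Consequences of the two order formulas

With signed degrees `a`, `b`, `c` (`b + c = a + 1`, all congruent to 1 mod 4, `a` to 1 mod 8) the
two formulas give `4 d d' bc (a-1)^2 = (d+d')^2 (b-1)(c-1) (a+1)^2`.  Hence `d = d'` gives
`b = c`, and `d' = 1 < d` leaves `(a,b,c,d) = (-15,-35,21,3), (-7,-27,21,5)` up to swapping `b, c`.
-/

set_option autoImplicit false
set_option linter.style.haveILetI false
set_option linter.unusedSectionVars false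

namespace Cfsg.Agent.DihedralBlock.SignArith

/-- The two order formulas combined. -/
theorem combine {N J a b c p q : ℤ} (hN : N ≠ 0) (hJ : J ≠ 0) (ha : a ≠ 0) (hp : p ≠ 0) (hq : q ≠ 0)
    (h1 : N * ((a + 1) * ((b - 1) * (c - 1))) * (p * q) = 8 * J ^ 3 * (a * (b * c)))
    (h2 : N * (a - 1) ^ 2 * (p * q) ^ 2 = 2 * a * (a + 1) * J ^ 3 * (p + q) ^ 2) :
    4 * (p * q) * (b * c) * (a - 1) ^ 2 = (p + q) ^ 2 * ((b - 1) * (c - 1)) * (a + 1) ^ 2 := by
  have hX : (2 * a * J ^ 3) ≠ 0 := by positivity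
  refine mul_left_cancel₀ hX ?_
  have hcan : N * (p * q) ≠ 0 := mul_ne_zero hN (mul_ne_zero hp hq)
  have e1 : (2 * a * J ^ 3) * (4 * (p * q) * (b * c) * (a - 1) ^ 2) =
      (N * (p * q)) * ((p * q) * (a - 1) ^ 2 * ((a + 1) * ((b - 1) * (c - 1)))) := by
    linear_combination (-(p * q) * (a - 1) ^ 2) * h1
  have e2 : (2 * a * J ^ 3) * ((p + q) ^ 2 * ((b - 1) * (c - 1)) * (a + 1) ^ 2) =
      (N * (p * q)) * ((p * q) * (a - 1) ^ 2 * ((a + 1) * ((b - 1) * (c - 1)))) := by
    linear_combination (-(a + 1) * ((b - 1) * (c - 1))) * h2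
  rw [e1, e2]

/-- Equal centralisers give equal degrees. -/
theorem eq_of_eq {a b c d : ℤ} (hd : d ≠ 0) (ha : a ≠ 0) (hs : b + c = a + 1)
    (h : 4 * (d * d) * (b * c) * (a - 1) ^ 2 = (d + d) ^ 2 * ((b - 1) * (c - 1)) * (a + 1) ^ 2) :
    b = c := by
  have h0 : 4 * d ^ 2 * (a * (b - c) ^ 2) = 0 := by
    have ha' : a = b + c - 1 := by linarith
    subst ha'
    linear_combination h
  rcases mul_eq_zero.1 h0 with h1 | h1
  · exact absurd h1 (by positivity)
  · rcases mul_eq_zero.1 h1 with h2 | h2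
    · exact absurd h2 ha
    · exact sub_eq_zero.1 (sq_eq_zero_iff.1 h2)

theorem pos_pos {b c : ℤ} (hb : 5 ≤ b) (hc : 5 ≤ c) :
    3 * (b * c) * (b + c - 2) ^ 2 < 4 * ((b - 1) * (c - 1)) * (b + c) ^ 2 := by
  obtain ⟨u, rfl⟩ : ∃ u : ℕ, b = 5 + u := ⟨(b - 5).toNat, by omega⟩
  obtain ⟨v, rfl⟩ : ∃ v : ℕ, c = 5 + v := ⟨(c - 5).toNat, by omega⟩
  have hu : (0 : ℤ) ≤ u := Int.natCast_nonneg u
  have hv : (0 : ℤ) ≤ v := Int.natCast_nonneg v
  nlinarith [mul_nonneg hu hv, pow_nonneg hu 3, pow_nonneg hv 3, pow_nonneg hu 2, pow_nonneg hv 2,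
    mul_nonneg (mul_nonneg hu hv) (sq_nonneg ((u : ℤ) + v)), mul_nonneg (mul_nonneg hu hv) hu,
    mul_nonneg (mul_nonneg hu hv) hv]

theorem neg_neg_large {p q : ℤ} (hp : 0 < p) (hq : 0 < q) (hs : 14 ≤ p + q) :
    3 * (p * q) * (p + q + 2) ^ 2 < 4 * ((p + 1) * (q + 1)) * (p + q) ^ 2 := by
  have h1 : 3 * (p + q + 2) ^ 2 ≤ 4 * (p + q) ^ 2 := by
    nlinarith [mul_le_mul_of_nonneg_right hs (by linarith : (0 : ℤ) ≤ p + q)]
  have h2 : p * q < (p + 1) * (q + 1) := by nlinarith
  have h3 : 0 < (p + q) ^ 2 := by positivity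
  nlinarith [mul_le_mul_of_nonneg_left h1 (mul_pos hp hq).le, mul_lt_mul_of_pos_right h2 h3]

/-- The only solution with `d' = 1 < d`, with `b` positive and `c = -e` negative. -/
theorem opposite {b e d : ℤ} (hd : 3 ≤ d) (hd2 : d % 2 = 1) (hb : 5 ≤ b) (hb4 : b % 4 = 1)
    (he : 3 ≤ e) (hs8 : (b - e) % 8 = 2) (hs2 : b - e ≠ 2) (hbe : (b + e) % 8 = 0)
    (h : 4 * d * (b * e) * (b - e - 2) ^ 2 = (d + 1) ^ 2 * ((b - 1) * (e + 1)) * (b - e) ^ 2) :
    (b = 21 ∧ e = 35 ∧ d = 3) ∨ (b = 21 ∧ e = 27 ∧ d = 5) := by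
  have hfac : (0 : ℤ) ≤ (3 * d - 1) * (d - 3) := mul_nonneg (by linarith) (by linarith)
  have hP : 0 ≤ (b * e) * (b - e - 2) ^ 2 := by positivity
  have hineq : 4 * ((b - 1) * (e + 1)) * (b - e) ^ 2 ≤ 3 * (b * e) * (b - e - 2) ^ 2 := by
    have hd1 : (0 : ℤ) < (d + 1) ^ 2 := by positivity
    refine le_of_mul_le_mul_left ?_ hd1
    calc (d + 1) ^ 2 * (4 * ((b - 1) * (e + 1)) * (b - e) ^ 2)
        = 16 * d * ((b * e) * (b - e - 2) ^ 2) := by linear_combination (-4 : ℤ) * h
      _ ≤ (3 * (d + 1) ^ 2) * ((b * e) * (b - e - 2) ^ 2) :=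
          mul_le_mul_of_nonneg_right (by nlinarith) hP
      _ = _ := by ring
  have hbe0 : 0 < b * e := by positivity
  have h5 : 4 * (b * e) ≤ 5 * ((b - 1) * (e + 1)) := by nlinarith
  rcases lt_or_ge (b - e) 0 with hneg | hpos
  swap
  · exfalso
    have h1 : (b - e - 2) ^ 2 < (b - e) ^ 2 := by nlinarith [show 3 ≤ b - e by omega]
    nlinarith [mul_lt_mul_of_pos_left h1 hbe0, mul_le_mul_of_nonneg_right h5 (sq_nonneg (b - e))]
  rcases le_or_gt (b - e) (-22) with hfar | hnear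
  · exfalso
    have hd3 : d = 3 := by
      have h1 : 121 * (b - e - 2) ^ 2 ≤ 144 * (b - e) ^ 2 := by nlinarith
      have h6 : 121 * (d + 1) ^ 2 ≤ 720 * d := by
        have hQ : 0 < ((b * e) * (b - e) ^ 2) := by
          have : (b - e) ≠ 0 := by omega
          positivity
        have h7 : 4 * (121 * (d + 1) ^ 2) ≤ 4 * (720 * d) := by
          refine le_of_mul_le_mul_left ?_ hQ
          calc ((b * e) * (b - e) ^ 2) * (4 * (121 * (d + 1) ^ 2))
              = 121 * (d + 1) ^ 2 * (b - e) ^ 2 * (4 * (b * e)) := by ring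
            _ ≤ 121 * (d + 1) ^ 2 * (b - e) ^ 2 * (5 * ((b - 1) * (e + 1))) :=
                mul_le_mul_of_nonneg_left h5 (by positivity)
            _ = 20 * d * (b * e) * (121 * (b - e - 2) ^ 2) := by linear_combination (-605 : ℤ) * h
            _ ≤ 20 * d * (b * e) * (144 * (b - e) ^ 2) := mul_le_mul_of_nonneg_left h1 (by positivity)
            _ = _ := by ring
        linarith
      by_contra hne
      have h7 : 5 ≤ d := by omega
      nlinarith [mul_le_mul_of_nonneg_right h7 (show 0 ≤ d by linarith)]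
    subst hd3
    have hb9 : b ≤ 9 := by
      by_contra hgt
      have h13 : 13 ≤ b := by omega
      have h8 : 12 * (b * e) ≤ 13 * ((b - 1) * (e + 1)) := by nlinarith
      have h9 : 39 * (b - e - 2) ^ 2 < 48 * (b - e) ^ 2 := by nlinarith
      nlinarith [mul_lt_mul_of_pos_left h9 hbe0,
        mul_le_mul_of_nonneg_right h8 (sq_nonneg (b - e))]
    obtain rfl | rfl : b = 5 ∨ b = 9 := by omega
    · have he' : e ≤ 60 := by
        by_contra hgt
        nlinarith [mul_nonneg (mul_nonneg (show (0 : ℤ) ≤ e by linarith) (show (0 : ℤ) ≤ e by linarith))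
          (show (0 : ℤ) ≤ e - 61 by omega), mul_nonneg (show (0 : ℤ) ≤ e by linarith)
          (show (0 : ℤ) ≤ e - 61 by omega)]
      interval_cases e <;> omega
    · have he' : e ≤ 60 := by
        by_contra hgt
        nlinarith [mul_nonneg (mul_nonneg (show (0 : ℤ) ≤ e by linarith) (show (0 : ℤ) ≤ e by linarith))
          (show (0 : ℤ) ≤ e - 61 by omega), mul_nonneg (show (0 : ℤ) ≤ e by linarith)
          (show (0 : ℤ) ≤ e - 61 by omega)]
      interval_cases e <;> omega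
  · obtain hs | hs : b - e = -6 ∨ b - e = -14 := by omega
    · obtain rfl : e = b + 6 := by omega
      rw [show b - (b + 6) = -6 by ring, show (-6 : ℤ) - 2 = -8 by ring] at h
      have hdle : d ≤ 6 := by
        by_contra hgt
        nlinarith [mul_le_mul_of_nonneg_right (show 7 ≤ d by omega) (show 0 ≤ d by linarith),
          mul_le_mul_of_nonneg_left h5 (show (0 : ℤ) ≤ (d + 1) ^ 2 by positivity)]
      obtain rfl | rfl : d = 3 ∨ d = 5 := by omega
      · exfalso; nlinarith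
      · right
        have : (b - 21) * (b + 27) = 0 := by nlinarith
        rcases mul_eq_zero.1 this with h1 | h1 <;> omega
    · obtain rfl : e = b + 14 := by omega
      rw [show b - (b + 14) = -14 by ring, show (-14 : ℤ) - 2 = -16 by ring] at h
      have hdle : d ≤ 4 := by
        by_contra hgt
        nlinarith [mul_le_mul_of_nonneg_right (show 5 ≤ d by omega) (show 0 ≤ d by linarith),
          mul_le_mul_of_nonneg_left h5 (show (0 : ℤ) ≤ (d + 1) ^ 2 by positivity)]
      obtain rfl : d = 3 := by omega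
      left
      have : (b - 21) * (b + 35) = 0 := by nlinarith
      rcases mul_eq_zero.1 this with h1 | h1 <;> omega

/-- The case `d' = 1 < d`. -/
theorem small {a b c d : ℤ} (hd : 3 ≤ d) (hd2 : d % 2 = 1) (hs : b + c = a + 1) (ha8 : a % 8 = 1)
    (ha1 : a ≠ 1) (hb4 : b % 4 = 1) (hb1 : b ≠ 1) (hc4 : c % 4 = 1) (hc1 : c ≠ 1)
    (hbc : (b - c) % 8 = 0)
    (h : 4 * (d * 1) * (b * c) * (a - 1) ^ 2 = (d + 1) ^ 2 * ((b - 1) * (c - 1)) * (a + 1) ^ 2) :
    (d = 3 ∧ a = -15 ∧ ((b = -35 ∧ c = 21) ∨ (b = 21 ∧ c = -35))) ∨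
      (d = 5 ∧ a = -7 ∧ ((b = -27 ∧ c = 21) ∨ (b = 21 ∧ c = -27))) := by
  obtain rfl : a = b + c - 1 := by linarith
  have hfac : (0 : ℤ) ≤ (3 * d - 1) * (d - 3) := mul_nonneg (by linarith) (by linarith)
  have hbig : ∀ {P Q : ℤ}, 0 ≤ P → 4 * d * P = (d + 1) ^ 2 * Q → 4 * Q ≤ 3 * P := fun {P Q} hP hE => by
    refine le_of_mul_le_mul_left ?_ (show (0 : ℤ) < (d + 1) ^ 2 by positivity)
    nlinarith
  rcases lt_trichotomy b 0 with hb | hb | hb <;> rcases lt_trichotomy c 0 with hc | hc | hc <;>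
    try omega
  · exfalso
    have hle := hbig (P := (-b) * (-c) * (-b + -c + 2) ^ 2)
      (Q := (-b + 1) * (-c + 1) * (-b + -c) ^ 2) (by have : 0 < -b := by omega
                                                     have : 0 < -c := by omega
                                                     positivity) (by linear_combination h)
    rcases le_or_gt 14 (-b + -c) with h14 | h14
    · have := neg_neg_large (p := -b) (q := -c) (by omega) (by omega) h14
      linarith
    · obtain ⟨rfl, rfl⟩ : b = -3 ∧ c = -3 := by omega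
      norm_num at hle
  · rcases opposite (b := c) (e := -b) (d := d) hd hd2 (by omega) hc4 (by omega) (by omega) (by omega)
      (by omega) (by linear_combination -h) with ⟨h1, h2, h3⟩ | ⟨h1, h2, h3⟩
    · left; omega
    · right; omega
  · rcases opposite (b := b) (e := -c) (d := d) hd hd2 (by omega) hb4 (by omega) (by omega) (by omega)
      (by omega) (by linear_combination -h) with ⟨h1, h2, h3⟩ | ⟨h1, h2, h3⟩
    · left; omega
    · right; omega
  · exfalso
    have h5b : 5 ≤ b := by omega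
    have h5c : 5 ≤ c := by omega
    have hle := hbig (P := b * c * (b + c - 2) ^ 2) (Q := (b - 1) * (c - 1) * (b + c) ^ 2)
      (by positivity) (by linear_combination h)
    have := pos_pos h5b h5c
    linarith

end Cfsg.Agent.DihedralBlock.SignArith
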