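import Cfsg.Agent.Lib.DihedralBlock.Order
import Cfsg.Agent.Lib.DihedralBlock.Principal

/-!
# A second order formula: the class structure weighted by the sign of the rotation

With `a = δ₁χ₁(1)`, `b = -δ₂χ₂(1)`, `c = -δ₃χ₃(1)` for the three odd degree characters of the
principal block (so `b + c = a + 1`) the number of pairs of involutions with product an odd power
of a rotation gives `|G| (a+1) (b-1) (c-1) c_τ c_στ = 8 c_J³ a b c`.
-/

set_option autoImplicit false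
set_option linter.style.haveILetI false
set_option linter.unusedSectionVars false

namespace Cfsg.Agent.DihedralBlock

open Cfsg
open scoped ComplexConjugate

universe u

variable {G : Type u} [Group G] [Fintype G] {σ τ : G} {M₀ : ℕ}

namespace Core

variable (d : Core σ τ M₀)
include d

/-- The sign weight: `1 - (-1)^i` at `v σ^i`. -/
noncomputable def sgnWt : d.K → ℂ := d.wtJ d.isPrimitiveRoot_zeta M₀

/-- The generalized character induced from the sign weight. -/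
noncomputable def SgnPsi : G → ℂ := d.Psi d.isPrimitiveRoot_zeta M₀

theorem extend_sgnWt {v : G} (hv : v ∈ d.V) (i : ℕ) :
    extendByZero d.K d.sgnWt (v * σ ^ i) = 1 - (-1) ^ i := by
  rw [sgnWt, d.extend_wtJ_mul_pow d.isPrimitiveRoot_zeta hv, d.zeta_pow_M]

theorem extend_sgnWt_outer (p q : d.Outer) :
    extendByZero d.K d.sgnWt (d.outerElt p * d.outerElt q) =
      1 - (-1) ^ (p.1 : ℕ) * (-1) ^ (q.1 : ℕ) := by
  obtain ⟨m, hm⟩ := d.exists_pow_inv (q.1 : ℕ)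
  have hw : σ ^ (p.1 : ℕ) * τ * (q.2.1 : G) * (σ ^ (p.1 : ℕ) * τ)⁻¹ ∈ d.V :=
    d.normV _ ((d.commute_J_pow _).mul_right d.commute_J_t) _ q.2.1.2
  have e : d.outerElt p * d.outerElt q =
      (p.2.1 : G) * (σ ^ (p.1 : ℕ) * τ * (q.2.1 : G) * (σ ^ (p.1 : ℕ) * τ)⁻¹) *
        σ ^ ((p.1 : ℕ) + m) := by
    rw [pow_add, hm, outerElt, outerElt]
    calc (p.2.1 : G) * (σ ^ (p.1 : ℕ) * τ) * ((q.2.1 : G) * (σ ^ (q.1 : ℕ) * τ))
        = (p.2.1 : G) * (σ ^ (p.1 : ℕ) * τ * (q.2.1 : G) * (σ ^ (p.1 : ℕ) * τ)⁻¹) *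
            (σ ^ (p.1 : ℕ) * (τ * σ ^ (q.1 : ℕ) * τ)) := by group
      _ = _ := by rw [d.t_mul_pow, mul_assoc (σ ^ (q.1 : ℕ))⁻¹, d.tsq, mul_one]
  rw [e, d.extend_sgnWt (mul_mem p.2.1.2 hw), pow_add]
  congr 2
  have h1 : (q.1 : ℕ) + m ≡ 0 [MOD orderOf σ] :=
    pow_eq_pow_iff_modEq.1 (by rw [pow_add, hm, mul_inv_cancel, pow_zero])
  rw [d.hord, Nat.modEq_zero_iff_dvd] at h1
  obtain ⟨k, hk⟩ := dvd_trans (Dvd.intro M₀ rfl) h1
  have hqq : ((-1 : ℂ) ^ (q.1 : ℕ)) * (-1) ^ (q.1 : ℕ) = 1 := by rw [← mul_pow]; norm_num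
  have hqm : ((-1 : ℂ) ^ (q.1 : ℕ)) * (-1) ^ m = 1 := by
    rw [← pow_add, hk, pow_mul]; norm_num
  exact mul_left_cancel₀ (left_ne_zero_of_mul_eq_one hqq) (hqm.trans hqq.symm)

theorem sum_num_sgn :
    ∑ i : Fin (2 * M₀), (d.num i : ℂ) * (-1) ^ (i : ℕ) =
      M₀ * ((d.num 0 : ℂ) - d.num 1) := by
  rw [Fin.sum_univ_eq_sum_range fun i => (d.num i : ℂ) * (-1) ^ i, sum_range_two_mul,
    Finset.sum_congr rfl fun m _ => show (d.num (2 * m) : ℂ) * (-1) ^ (2 * m) +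
        d.num (2 * m + 1) * (-1) ^ (2 * m + 1) = (d.num 0 : ℂ) - d.num 1 by
      rw [d.num_two_mul, d.num_two_mul_add_one, pow_succ, pow_mul]; norm_num; ring,
    Finset.sum_const, Finset.card_range, nsmul_eq_mul]

theorem sum_outer_pairs_sgn :
    ∑ p : d.Outer, ∑ q : d.Outer, extendByZero d.K d.sgnWt (d.outerElt p * d.outerElt q) =
      4 * (M₀ : ℂ) ^ 2 * d.num 0 * d.num 1 := by
  simp only [d.extend_sgnWt_outer, Finset.sum_sub_distrib, ← Finset.mul_sum, Finset.sum_const,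
    Finset.card_univ]
  rw [← Finset.sum_mul, d.sum_outer (fun i => (-1 : ℂ) ^ i), d.sum_num_sgn]
  have h := d.sum_outer (fun _ => (1 : ℂ))
  simp only [Finset.sum_const, Finset.card_univ, nsmul_eq_mul, mul_one] at h
  simp only [nsmul_eq_mul, mul_one]
  rw [h, d.sum_num]
  ring

theorem exists_outer_of_sgn_ne_zero {s t : G} (hs : IsConj (σ ^ M₀) s) (ht : IsConj (σ ^ M₀) t)
    (hne : extendByZero d.K d.sgnWt (s * t) ≠ 0) :
    ∃ p q : d.Outer, d.outerElt p = s ∧ d.outerElt q = t := by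
  refine d.exists_outer_of_ne_zero hs ht fun h => hne ?_
  by_cases hk : s * t ∈ d.K
  · obtain ⟨v, hv, i, hvi⟩ := id hk
    rw [hvi, d.extend_wt_mul_pow hv, sub_eq_zero] at h
    have h2 : 2 * M₀ ∣ i := d.isPrimitiveRoot_zeta.pow_eq_one_iff_dvd i |>.1 h.symm
    obtain ⟨k, hk'⟩ := dvd_trans (Dvd.intro M₀ rfl) h2
    rw [hvi, d.extend_sgnWt hv, hk', pow_mul]
    norm_num
  · exact Char.extendByZero_of_notMem _ _ hk

end Core

namespace Data

variable (d : Data σ τ M₀)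
include d

/-- The class structure weighted by the sign of the rotation. -/
theorem sum_pairs_sgn :
    ∑ p : G × G, extendByZero d.K d.sgnWt (p.1 * σ ^ M₀ * p.1⁻¹ * (p.2 * σ ^ M₀ * p.2⁻¹)) =
      (Nat.card (Subgroup.centralizer ({σ ^ M₀} : Set G)) : ℂ) ^ 2 *
        (4 * (M₀ : ℂ) ^ 2 * d.num 0 * d.num 1) := by
  classical
  set C := Finset.univ.filter fun s : G => IsConj (σ ^ M₀) s
  set c : ℂ := (Nat.card (Subgroup.centralizer ({σ ^ M₀} : Set G)) : ℂ)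
  have hfib : ∀ f : G → ℂ, ∑ a : G, f (a * σ ^ M₀ * a⁻¹) = c * ∑ s ∈ C, f s := by
    intro f
    rw [← Finset.sum_fiberwise_of_maps_to (s := Finset.univ) (t := C)
      (g := fun a => a * σ ^ M₀ * a⁻¹) (fun a _ =>
        Finset.mem_filter.2 ⟨Finset.mem_univ _, isConj_iff.2 ⟨a, rfl⟩⟩), Finset.mul_sum]
    refine Finset.sum_congr rfl fun s hs => ?_
    rw [Finset.sum_congr rfl fun a ha => congrArg f (Finset.mem_filter.1 ha).2, Finset.sum_const,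
      d.card_conj_fiber _ (Finset.mem_filter.1 hs).2, nsmul_eq_mul]
  rw [Fintype.sum_prod_type,
    hfib fun s => ∑ b : G, extendByZero d.K d.sgnWt (s * (b * σ ^ M₀ * b⁻¹)),
    Finset.sum_congr rfl fun s _ => hfib fun t => extendByZero d.K d.sgnWt (s * t),
    ← Finset.mul_sum, ← mul_assoc, ← pow_two]
  congr 1
  rw [← Finset.sum_product' (f := fun s t => extendByZero d.K d.sgnWt (s * t)),
    ← d.sum_outer_pairs_sgn,
    ← Fintype.sum_prod_type' fun p q => extendByZero d.K d.sgnWt (d.outerElt p * d.outerElt q)]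
  refine Eq.symm (Finset.sum_bij_ne_zero (fun pq _ _ => (d.outerElt pq.1, d.outerElt pq.2))
    (fun pq _ _ => Finset.mem_product.2
      ⟨Finset.mem_filter.2 ⟨Finset.mem_univ _, d.conjAll _ (d.orderOf_outerElt _)⟩,
        Finset.mem_filter.2 ⟨Finset.mem_univ _, d.conjAll _ (d.orderOf_outerElt _)⟩⟩)
    (fun a _ _ b _ _ h => Prod.ext (d.outerElt_injective (congrArg Prod.fst h))
      (d.outerElt_injective (congrArg Prod.snd h))) (fun st hst hne => ?_) fun _ _ _ => rfl)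
  obtain ⟨hs, ht⟩ := Finset.mem_product.1 hst
  obtain ⟨p, q, hp, hq⟩ := d.exists_outer_of_sgn_ne_zero (Finset.mem_filter.1 hs).2
    (Finset.mem_filter.1 ht).2 hne
  exact ⟨(p, q), Finset.mem_univ _, by simpa [hp, hq] using hne, by simp [hp, hq]⟩

/-- The class structure read off the character table. -/
theorem sum_mult_sgn_eq :
    (Nat.card G : ℂ) * ∑ χ : IrrCharacter G,
        χ.1 (σ ^ M₀) * χ.1 (σ ^ M₀) * classInner d.SgnPsi χ.1 / χ.1 1 =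
      (Nat.card d.K : ℂ)⁻¹ *
        ((Nat.card (Subgroup.centralizer ({σ ^ M₀} : Set G)) : ℂ) ^ 2 *
          (4 * (M₀ : ℂ) ^ 2 * d.num 0 * d.num 1)) := by
  classical
  haveI := Fintype.ofFinite d.K
  set J := σ ^ M₀
  rw [← d.sum_pairs_sgn]
  have h1 : ∑ p : G × G, extendByZero d.K d.sgnWt (p.1 * J * p.1⁻¹ * (p.2 * J * p.2⁻¹)) =
      ∑ k : d.K, d.sgnWt k *
        (Nat.card {p : G × G // p.1 * J * p.1⁻¹ * (p.2 * J * p.2⁻¹) = (k : G)} : ℂ) := by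
    rw [← Finset.sum_fiberwise Finset.univ (fun p : G × G => p.1 * J * p.1⁻¹ * (p.2 * J * p.2⁻¹))]
    rw [Finset.sum_congr rfl (g := fun x : G => extendByZero d.K d.sgnWt x *
      (Nat.card {p : G × G // p.1 * J * p.1⁻¹ * (p.2 * J * p.2⁻¹) = x} : ℂ)) fun x _ => ?_,
      Char.sum_extendByZero_mul d.K d.sgnWt fun x =>
        (Nat.card {p : G × G // p.1 * J * p.1⁻¹ * (p.2 * J * p.2⁻¹) = x} : ℂ)]
    rw [Finset.sum_congr rfl fun p hp => congrArg (extendByZero d.K d.sgnWt) (Finset.mem_filter.1 hp).2,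
      Finset.sum_const, nsmul_eq_mul, mul_comm, Nat.card_eq_fintype_card, Fintype.card_subtype]
  rw [h1]
  simp only [Char.card_conj_mul_conj_eq]
  rw [Finset.mul_sum, Finset.mul_sum]
  simp only [Finset.mul_sum]
  rw [Finset.sum_comm]
  refine Finset.sum_congr rfl fun χ _ => ?_
  rw [Core.SgnPsi, Core.Psi, ← Core.sgnWt,
    Char.classInner_indFun d.K d.sgnWt (Char.IsCharacter.isClassFunction (Char.irr_isCharacter χ)),
    classInner, Finset.mul_sum, Finset.mul_sum, Finset.sum_div, Finset.mul_sum]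
  refine Finset.sum_congr rfl fun k _ => ?_
  rw [Char.IsCharacter.conj_apply (Char.irr_isCharacter χ)]
  ring

/-- The inner product with a character of the principal block. -/
theorem classInner_SgnPsi_principal {M : Ideal AlgInt} (hM : IsPModular 2 M) {χ : IrrCharacter G}
    (hχ : χ ∈ principalBlock M G) (δ : ℤ)
    (hval : ∀ l : ℕ, 0 < l → l < 2 * M₀ → l % 2 = 1 → χ.1 (σ ^ l) = δ) :
    classInner d.SgnPsi χ.1 = δ := by
  classical
  haveI := Fintype.ofFinite d.V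
  set hζ := d.isPrimitiveRoot_zeta
  rw [Core.SgnPsi, d.classInner_Psi hζ M₀ (Char.IsCharacter.isClassFunction (Char.irr_isCharacter χ)),
    Finset.sum_congr rfl (g := fun i : Fin (2 * M₀) =>
      (1 - (-1 : ℂ) ^ (i : ℕ)) * (δ : ℂ)) fun i _ => ?_, ← Finset.sum_mul,
    Fin.sum_univ_eq_sum_range (fun i => (1 - (-1 : ℂ) ^ i)), Core.sum_range_two_mul,
    Finset.sum_congr rfl fun m _ => show (1 - (-1 : ℂ) ^ (2 * m)) + (1 - (-1) ^ (2 * m + 1)) = 2 by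
      rw [pow_succ, pow_mul]; norm_num,
    Finset.sum_const, Finset.card_range, nsmul_eq_mul]
  · have h2 : (M₀ : ℂ) ≠ 0 := Nat.cast_ne_zero.2 d.hM0.ne'
    push_cast
    field_simp
  · rw [d.zeta_pow_M]
    rcases Nat.even_or_odd (i : ℕ) with he | ho
    · rw [Even.neg_one_pow he, sub_self, zero_mul, zero_mul]
    · have h0 : 0 < (i : ℕ) := ho.pos
      rw [(d.Favg_principal hζ hM χ h0 i.2).1 hχ, hval _ h0 i.2 (Nat.odd_iff.1 ho), map_intCast]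

/-- **The second order formula**, with the signed degrees of the principal block. -/
theorem sign_formula (P : Sylow 2 G) (hσ : σ ∈ (P : Subgroup G)) (hτ : τ ∈ (P : Subgroup G))
    (hform : ∀ x ∈ (P : Subgroup G), ∃ i : ℕ, x = σ ^ i ∨ x = σ ^ i * τ)
    {M : Ideal AlgInt} (hM : IsPModular 2 M) :
    ∃ (χ₁ χ₂ χ₃ : IrrCharacter G) (δ₁ δ₂ δ₃ : ℤ),
      (δ₁ = 1 ∨ δ₁ = -1) ∧ (δ₂ = 1 ∨ δ₂ = -1) ∧ (δ₃ = 1 ∨ δ₃ = -1) ∧
      χ₁ ∈ principalBlock M G ∧ χ₂ ∈ principalBlock M G ∧ χ₃ ∈ principalBlock M G ∧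
      χ₁ ≠ Char.trivialChar G ∧ χ₂ ≠ Char.trivialChar G ∧ χ₃ ≠ Char.trivialChar G ∧
      χ₁ ≠ χ₂ ∧ χ₁ ≠ χ₃ ∧ χ₂ ≠ χ₃ ∧
      (∀ l : ℕ, 0 < l → l < 2 * M₀ →
        χ₁.1 (σ ^ l) = δ₁ ∧ χ₂.1 (σ ^ l) = δ₂ * (-1) ^ (l + 1) ∧
        χ₃.1 (σ ^ l) = δ₃ * (-1) ^ (l + 1)) ∧
      ∀ (a b c : ℤ), a = δ₁ * charDegree χ₁.1 → b = -δ₂ * charDegree χ₂.1 →
        c = -δ₃ * charDegree χ₃.1 →
        b + c = a + 1 ∧
        (Nat.card G : ℤ) * ((a + 1) * ((b - 1) * (c - 1))) *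
            ((Nat.card (Subgroup.centralizer ({σ ^ M₀, τ} : Set G)) : ℤ) *
              Nat.card (Subgroup.centralizer ({σ ^ M₀, σ * τ} : Set G))) =
          8 * (Nat.card (Subgroup.centralizer ({σ ^ M₀} : Set G)) : ℤ) ^ 3 * (a * (b * c)) := by
  classical
  obtain ⟨-, χ₁, χ₂, χ₃, χ', δ₁, δ₂, δ₃, h1, h2, h3, -, n1, n2, n3, n12, n13, n23, -, hB, hval, -⟩ :=
    d.principal_block d.isPrimitiveRoot_zeta P hσ hτ hform hM
  have hmem : χ₁ ∈ principalBlock M G ∧ χ₂ ∈ principalBlock M G ∧ χ₃ ∈ principalBlock M G := by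
    rw [hB]
    exact ⟨Or.inr (Or.inl rfl), Or.inr (Or.inr (Or.inl rfl)), Or.inr (Or.inr (Or.inr (Or.inl rfl)))⟩
  have ne : ∀ {χ : IrrCharacter G}, (χ : G → ℂ) ≠ (fun _ => 1) → χ ≠ Char.trivialChar G :=
    fun h e => h (by rw [e]; rfl)
  refine ⟨χ₁, χ₂, χ₃, δ₁, δ₂, δ₃, h1, h2, h3, hmem.1, hmem.2.1, hmem.2.2, ne n1, ne n2, ne n3,
    n12, n13, n23, fun l h0 hl => ⟨(hval l h0 hl).1, (hval l h0 hl).2.1, (hval l h0 hl).2.2.1⟩, ?_⟩
  intro a b c ha hb hc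
  haveI := hM.2.1
  obtain ⟨m, hm, hinner⟩ := Char.IsGeneralizedCharacter.exists_decomp
    (d.isGeneralized_Psi d.isPrimitiveRoot_zeta M₀)
  have hmt : m (Char.trivialChar G) = 1 := by
    have h := d.classInner_SgnPsi_principal hM (χ := Char.trivialChar G)
      (Blocks.sameBlock_refl _) 1 (fun l _ _ _ => by simp)
    rw [Core.SgnPsi, hinner] at h; exact_mod_cast h
  have hodd : ∀ {l : ℕ}, l % 2 = 1 → ((-1 : ℂ) ^ (l + 1)) = 1 := fun {l} hl => by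
    rw [Even.neg_one_pow (Nat.even_iff.2 (by omega))]
  have hm1 : m χ₁ = δ₁ := by
    have h := d.classInner_SgnPsi_principal hM hmem.1 δ₁ (fun l h0 hl _ => (hval l h0 hl).1)
    rw [Core.SgnPsi, hinner] at h; exact_mod_cast h
  have hm2 : m χ₂ = δ₂ := by
    have h := d.classInner_SgnPsi_principal hM hmem.2.1 δ₂
      (fun l h0 hl ho => by rw [(hval l h0 hl).2.1, hodd ho, mul_one])
    rw [Core.SgnPsi, hinner] at h; exact_mod_cast h
  have hm3 : m χ₃ = δ₃ := by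
    have h := d.classInner_SgnPsi_principal hM hmem.2.2 δ₃
      (fun l h0 hl ho => by rw [(hval l h0 hl).2.2.1, hodd ho, mul_one])
    rw [Core.SgnPsi, hinner] at h; exact_mod_cast h
  have hnorm : ∑ χ, m χ ^ 2 = 4 := by
    have h := Char.IsGeneralizedCharacter.classInner_self_eq_sum hm
    rw [d.classInner_Psi_Psi d.isPrimitiveRoot_zeta d.hM0 le_rfl d.hM0 le_rfl, if_pos rfl,
      if_pos rfl] at h
    exact_mod_cast h.symm
  set T : Finset (IrrCharacter G) := {Char.trivialChar G, χ₁, χ₂, χ₃} with hT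
  have hsumT : ∀ {R : Type} [AddCommMonoid R] (f : IrrCharacter G → R), ∑ χ ∈ T, f χ =
      f (Char.trivialChar G) + (f χ₁ + (f χ₂ + f χ₃)) := by
    intro R _ f
    rw [hT, Finset.sum_insert (by simp [(ne n1).symm, (ne n2).symm, (ne n3).symm]),
      Finset.sum_insert (by simp [n12, n13]), Finset.sum_pair n23]
  have hz : ∀ χ, χ ∉ T → m χ = 0 := by
    have hsq : ∀ e : ℤ, (e = 1 ∨ e = -1) → e ^ 2 = 1 := by rintro e (rfl | rfl) <;> norm_num
    have hTsum : ∑ χ ∈ T, m χ ^ 2 = 4 := by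
      rw [hsumT, hmt, hm1, hm2, hm3, hsq _ h1, hsq _ h2, hsq _ h3]
      norm_num
    intro χ hχ
    have h := Finset.sum_sdiff (s₁ := T) (s₂ := Finset.univ) (f := fun χ => m χ ^ 2)
      (Finset.subset_univ T)
    rw [hTsum, hnorm] at h
    have h0 : ∑ χ ∈ Finset.univ \ T, m χ ^ 2 = 0 := by linarith
    exact sq_eq_zero_iff.1 ((Finset.sum_eq_zero_iff_of_nonneg fun x _ => sq_nonneg _).1 h0 χ
      (Finset.mem_sdiff.2 ⟨Finset.mem_univ _, hχ⟩))
  have hsum : ∀ f : IrrCharacter G → ℂ, ∑ χ, (m χ : ℂ) * f χ = f (Char.trivialChar G) +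
      ((δ₁ : ℂ) * f χ₁ + ((δ₂ : ℂ) * f χ₂ + (δ₃ : ℂ) * f χ₃)) := by
    intro f
    rw [← Finset.sum_subset (Finset.subset_univ T) fun χ _ hχ => by rw [hz χ hχ, Int.cast_zero,
      zero_mul], hsumT, hmt, hm1, hm2, hm3, Int.cast_one, one_mul]
  -- degree relation
  have hrel : b + c = a + 1 := by
    have h := congrFun hm 1
    rw [d.Psi_odd d.isPrimitiveRoot_zeta M₀ (by rw [orderOf_one]; exact odd_one),
      Finset.sum_apply] at h
    simp only [Pi.smul_apply, smul_eq_mul] at h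
    rw [hsum fun χ => χ.1 1, Char.trivialChar_apply] at h
    simp only [← Char.charDegree_cast] at h
    have h' : (0 : ℤ) = 1 + (δ₁ * charDegree χ₁.1 + (δ₂ * charDegree χ₂.1 + δ₃ * charDegree χ₃.1)) := by
      exact_mod_cast h
    rw [ha, hb, hc]
    linarith
  refine ⟨hrel, ?_⟩
  have key := d.sum_mult_sgn_eq
  have hMlt : M₀ < 2 * M₀ := by have := d.hM0; omega
  have hEven : ((-1 : ℂ) ^ (M₀ + 1)) = -1 := by
    rw [pow_succ, Even.neg_one_pow d.hM, one_mul]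
  have hJ1 : χ₁.1 (σ ^ M₀) = (δ₁ : ℂ) := (hval M₀ d.hM0 hMlt).1
  have hJ2 : χ₂.1 (σ ^ M₀) = -(δ₂ : ℂ) := by rw [(hval M₀ d.hM0 hMlt).2.1, hEven]; ring
  have hJ3 : χ₃.1 (σ ^ M₀) = -(δ₃ : ℂ) := by rw [(hval M₀ d.hM0 hMlt).2.2.1, hEven]; ring
  have hdsq : ∀ e : ℤ, (e = 1 ∨ e = -1) → (e : ℂ) * e = 1 := by rintro e (rfl | rfl) <;> norm_num
  have hdinv : ∀ e : ℤ, (e = 1 ∨ e = -1) → ∀ x : ℂ, (e : ℂ) * x⁻¹ = ((e : ℂ) * x)⁻¹ := by
    rintro e (rfl | rfl) x <;> simp [inv_neg]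
  have hx1 : χ₁.1 1 ≠ 0 := Char.IsIrrCharacter.apply_one_ne_zero χ₁.2
  have hx2 : χ₂.1 1 ≠ 0 := Char.IsIrrCharacter.apply_one_ne_zero χ₂.2
  have hx3 : χ₃.1 1 ≠ 0 := Char.IsIrrCharacter.apply_one_ne_zero χ₃.2
  have hA : (a : ℂ) = (δ₁ : ℂ) * χ₁.1 1 := by rw [ha, ← Char.charDegree_cast]; push_cast; ring
  have hB' : (b : ℂ) = -((δ₂ : ℂ) * χ₂.1 1) := by rw [hb, ← Char.charDegree_cast]; push_cast; ring
  have hC : (c : ℂ) = -((δ₃ : ℂ) * χ₃.1 1) := by rw [hc, ← Char.charDegree_cast]; push_cast; ring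
  have hT' : ∑ χ : IrrCharacter G, χ.1 (σ ^ M₀) * χ.1 (σ ^ M₀) * classInner d.SgnPsi χ.1 / χ.1 1 =
      1 + (1 / (a : ℂ) + (-(1 / (b : ℂ)) + -(1 / (c : ℂ)))) := by
    rw [Finset.sum_congr rfl fun χ _ => show
        χ.1 (σ ^ M₀) * χ.1 (σ ^ M₀) * classInner d.SgnPsi χ.1 / χ.1 1 =
          (m χ : ℂ) * (χ.1 (σ ^ M₀) * χ.1 (σ ^ M₀) / χ.1 1) by
      rw [Core.SgnPsi, hinner χ]; ring,
      hsum fun χ => χ.1 (σ ^ M₀) * χ.1 (σ ^ M₀) / χ.1 1, hJ1, hJ2, hJ3, hA, hB', hC]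
    simp only [Char.trivialChar_apply, one_mul, div_one, neg_mul_neg, hdsq _ h1, hdsq _ h2,
      hdsq _ h3, mul_one_div, hdinv _ h1, hdinv _ h2, hdinv _ h3, one_div,
      inv_neg, neg_neg]
  rw [hT', d.num_eq.1, d.num_eq.2, d.card_K] at key
  have ha0 : (a : ℂ) ≠ 0 := by rw [hA]; exact mul_ne_zero (left_ne_zero_of_mul_eq_one (hdsq _ h1)) hx1
  have hb0 : (b : ℂ) ≠ 0 := by
    rw [hB']; exact neg_ne_zero.2 (mul_ne_zero (left_ne_zero_of_mul_eq_one (hdsq _ h2)) hx2)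
  have hc0 : (c : ℂ) ≠ 0 := by
    rw [hC]; exact neg_ne_zero.2 (mul_ne_zero (left_ne_zero_of_mul_eq_one (hdsq _ h3)) hx3)
  have hV : (Nat.card d.V : ℂ) ≠ 0 := Char.card_ne_zero
  have hM0 : (M₀ : ℂ) ≠ 0 := Nat.cast_ne_zero.2 d.hM0.ne'
  have hc1 : (Nat.card (Subgroup.centralizer ({σ ^ M₀, τ} : Set G)) : ℂ) ≠ 0 := Char.card_ne_zero
  have hc2 : (Nat.card (Subgroup.centralizer ({σ ^ M₀, σ * τ} : Set G)) : ℂ) ≠ 0 :=
    Char.card_ne_zero
  have hrelC : (b : ℂ) + c = a + 1 := by exact_mod_cast hrel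
  rw [d.card_centralizer_J, d.card_K] at key ⊢
  apply (Int.cast_injective (α := ℂ))
  push_cast at key ⊢
  field_simp at key
  linear_combination (1 : ℂ) * key - ((Nat.card G : ℂ) *
    Nat.card (Subgroup.centralizer ({σ ^ M₀, τ} : Set G)) *
    Nat.card (Subgroup.centralizer ({σ ^ M₀, σ * τ} : Set G))) * hrelC

end Data

end Cfsg.Agent.DihedralBlock
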