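import Cfsg.Agent.Lib.DihedralBlock.SignArith

/-!
# The signed degrees of the principal block

`a ≡ 1`, `b ≡ c ≡ 1 + 2M₀ (mod 4M₀)` by restriction to the Sylow 2-subgroup, together with the
combined order equation.
-/

set_option autoImplicit false
set_option linter.style.haveILetI false
set_option linter.unusedSectionVars false

namespace Cfsg.Agent.DihedralBlock

open Cfsg
open scoped ComplexConjugate

universe u

variable {G : Type u} [Group G] [Fintype G] {σ τ : G} {M₀ : ℕ}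

namespace Data

variable (d : Data σ τ M₀) (P : Sylow 2 G) (hσ : σ ∈ (P : Subgroup G)) (hτ : τ ∈ (P : Subgroup G))
  (hform : ∀ x ∈ (P : Subgroup G), ∃ i : ℕ, x = σ ^ i ∨ x = σ ^ i * τ)
include d hσ hτ hform

/-- The sum over the Sylow subgroup, rotations and reflections. -/
theorem sum_sylow [Fintype (P : Subgroup G)] (f : G → ℂ) :
    ∑ x : (P : Subgroup G), f x =
      ∑ i : Fin (2 * M₀), f (σ ^ (i : ℕ)) + ∑ i : Fin (2 * M₀), f (σ ^ (i : ℕ) * τ) := by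
  classical
  have hnot : ∀ i j : ℕ, σ ^ i ≠ σ ^ j * τ := by
    intro i j h
    have hK : ∀ n : ℕ, σ ^ n ∈ d.K := fun n => by
      have := d.mul_pow_mem_K d.V.one_mem n
      rwa [one_mul] at this
    exact d.mul_tau_notin_K (hK j) (h ▸ hK i)
  have hinj : ∀ i j : Fin (2 * M₀), σ ^ (i : ℕ) = σ ^ (j : ℕ) → i = j := fun i j h => by
    have := pow_eq_pow_iff_modEq.1 h
    rw [d.hord] at this
    exact Fin.ext (this.eq_of_lt_of_lt i.2 j.2)
  refine Eq.trans ?_ (Fintype.sum_sum_type (Sum.elim (fun i : Fin (2 * M₀) => f (σ ^ (i : ℕ)))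
    fun i : Fin (2 * M₀) => f (σ ^ (i : ℕ) * τ)))
  refine (Fintype.sum_bijective (fun s : Fin (2 * M₀) ⊕ Fin (2 * M₀) =>
    (Sum.elim (fun i : Fin (2 * M₀) => (⟨σ ^ (i : ℕ), pow_mem hσ _⟩ : (P : Subgroup G)))
      (fun i : Fin (2 * M₀) => ⟨σ ^ (i : ℕ) * τ, mul_mem (pow_mem hσ _) hτ⟩) s)) ⟨?_, ?_⟩ _ _ ?_).symm
  · rintro (i | i) (j | j) h
    · exact congrArg Sum.inl (hinj _ _ (congrArg Subtype.val h))
    · exact absurd (congrArg Subtype.val h) (hnot _ _)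
    · exact absurd (congrArg Subtype.val h).symm (hnot _ _)
    · exact congrArg Sum.inr (hinj _ _ (mul_right_cancel (congrArg Subtype.val h)))
  · rintro ⟨x, hx⟩
    have hpos : 0 < 2 * M₀ := by have := d.hM0; omega
    obtain ⟨i, hi | hi⟩ := hform x hx
    · refine ⟨Sum.inl ⟨i % (2 * M₀), Nat.mod_lt _ hpos⟩, Subtype.ext ?_⟩
      show σ ^ (i % (2 * M₀)) = x
      rw [hi, ← d.hord, pow_mod_orderOf]
    · refine ⟨Sum.inr ⟨i % (2 * M₀), Nat.mod_lt _ hpos⟩, Subtype.ext ?_⟩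
      show σ ^ (i % (2 * M₀)) * τ = x
      rw [hi, ← d.hord, pow_mod_orderOf]
  · rintro (i | i) <;> rfl

theorem card_sylow : Nat.card (P : Subgroup G) = 4 * M₀ := by
  classical
  haveI := Fintype.ofFinite (P : Subgroup G)
  have h := d.sum_sylow P hσ hτ hform fun _ => 1
  simp only [Finset.sum_const, Finset.card_univ, Fintype.card_fin, nsmul_eq_mul, mul_one] at h
  rw [← Nat.card_eq_fintype_card] at h
  have h' : Nat.card (P : Subgroup G) = 2 * M₀ + 2 * M₀ := by exact_mod_cast h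
  omega

/-- The sum of the values of a character on the Sylow subgroup is divisible by its order. -/
theorem dvd_sum_sylow (χ : IrrCharacter G) {r s : ℤ}
    (hrot : ∑ i : Fin (2 * M₀), χ.1 (σ ^ (i : ℕ)) = r) (hJ : χ.1 (σ ^ M₀) = s) :
    (4 * M₀ : ℤ) ∣ r + 2 * M₀ * s := by
  classical
  haveI := Fintype.ofFinite (P : Subgroup G)
  obtain ⟨n, hn⟩ := Char.IsCharacter.exists_nat_classInner
    (Char.IsCharacter.restrict (Char.irr_isCharacter χ) (P : Subgroup G))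
    (Char.isCharacter_one (G := (P : Subgroup G)))
  have hrefl : ∀ i : ℕ, χ.1 (σ ^ i * τ) = s := by
    intro i
    have h2 : orderOf (σ ^ i * τ) = 2 := orderOf_eq_prime (by rw [pow_two]; exact d.mul_tau_sq)
      (fun h => d.mul_tau_notin_K (by simpa using d.mul_pow_mem_K d.V.one_mem i) (h ▸ d.K.one_mem))
    obtain ⟨g, hg⟩ := isConj_iff.1 (d.conjAll _ h2)
    rw [← hg, ← hJ]
    exact Char.IsCharacter.isClassFunction (Char.irr_isCharacter χ) _ _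
  rw [classInner] at hn
  simp only [map_one, mul_one] at hn
  rw [d.sum_sylow P hσ hτ hform χ.1, hrot,
    Finset.sum_congr rfl (g := fun _ : Fin (2 * M₀) => (s : ℂ)) fun i _ => hrefl (i : ℕ),
    Finset.sum_const,
    Finset.card_univ, Fintype.card_fin, nsmul_eq_mul, d.card_sylow P hσ hτ hform] at hn
  refine ⟨n, ?_⟩
  apply (Int.cast_injective (α := ℂ))
  push_cast at hn ⊢
  have hM0 : (M₀ : ℂ) ≠ 0 := Nat.cast_ne_zero.2 d.hM0.ne'
  field_simp at hn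
  linear_combination hn

/-- The signed degrees, their congruences and the combined equation. -/
theorem signed_degrees {M : Ideal AlgInt} (hM : IsPModular 2 M) :
    ∃ (χ₁ χ₂ χ₃ : IrrCharacter G) (δ₁ δ₂ δ₃ a b c : ℤ),
      (δ₁ = 1 ∨ δ₁ = -1) ∧ (δ₂ = 1 ∨ δ₂ = -1) ∧ (δ₃ = 1 ∨ δ₃ = -1) ∧
      χ₁ ∈ principalBlock M G ∧ χ₂ ∈ principalBlock M G ∧ χ₃ ∈ principalBlock M G ∧
      χ₁ ≠ Char.trivialChar G ∧ χ₂ ≠ Char.trivialChar G ∧ χ₃ ≠ Char.trivialChar G ∧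
      χ₁ ≠ χ₂ ∧ χ₁ ≠ χ₃ ∧ χ₂ ≠ χ₃ ∧
      (∀ l : ℕ, 0 < l → l < 2 * M₀ →
        χ₁.1 (σ ^ l) = δ₁ ∧ χ₂.1 (σ ^ l) = δ₂ * (-1) ^ (l + 1) ∧
        χ₃.1 (σ ^ l) = δ₃ * (-1) ^ (l + 1)) ∧
      a = δ₁ * charDegree χ₁.1 ∧ b = -δ₂ * charDegree χ₂.1 ∧ c = -δ₃ * charDegree χ₃.1 ∧
      a ≠ 1 ∧ b + c = a + 1 ∧
      (4 * M₀ : ℤ) ∣ a - 1 ∧ (4 * M₀ : ℤ) ∣ b - (1 + 2 * M₀) ∧ (4 * M₀ : ℤ) ∣ c - (1 + 2 * M₀) ∧
      4 * ((Nat.card (Subgroup.centralizer ({σ ^ M₀, τ} : Set G)) : ℤ) *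
            Nat.card (Subgroup.centralizer ({σ ^ M₀, σ * τ} : Set G))) * (b * c) * (a - 1) ^ 2 =
        ((Nat.card (Subgroup.centralizer ({σ ^ M₀, τ} : Set G)) : ℤ) +
            Nat.card (Subgroup.centralizer ({σ ^ M₀, σ * τ} : Set G))) ^ 2 *
          ((b - 1) * (c - 1)) * (a + 1) ^ 2 := by
  classical
  obtain ⟨χ₁, χ₂, χ₃, δ₁, δ₂, δ₃, h1, h2, h3, m1, m2, m3, n1, n2, n3, n12, n13, n23, hval, hrest⟩ :=
    d.sign_formula P hσ hτ hform hM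
  set a := δ₁ * (charDegree χ₁.1 : ℤ) with ha
  set b := -δ₂ * (charDegree χ₂.1 : ℤ) with hb
  set c := -δ₃ * (charDegree χ₃.1 : ℤ) with hc
  obtain ⟨hrel, heq⟩ := hrest a b c rfl rfl rfl
  have hMlt : M₀ < 2 * M₀ := by have := d.hM0; omega
  have hEven : ((-1 : ℂ) ^ (M₀ + 1)) = -1 := by rw [pow_succ, Even.neg_one_pow d.hM, one_mul]
  have hd1 : δ₁ * δ₁ = 1 := by rcases h1 with rfl | rfl <;> norm_num
  obtain ⟨hne, hord⟩ := d.order_formula hM m1 (fun h => n1 (Subtype.ext h)) h1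
    fun l h0 hl => (hval l h0 hl).1
  have ha1 : a ≠ 1 := by
    intro h
    refine hne ?_
    have h' : (charDegree χ₁.1 : ℤ) = δ₁ := by
      calc (charDegree χ₁.1 : ℤ) = δ₁ * δ₁ * charDegree χ₁.1 := by rw [hd1, one_mul]
        _ = δ₁ := by rw [mul_assoc, ← ha, h, mul_one]
    exact_mod_cast h'
  have hsplit : ∀ (f : ℕ → ℂ), ∑ i : Fin (2 * M₀), f i = f 0 + ∑ i ∈ Finset.Ico 1 (2 * M₀), f i := by
    intro f
    rw [Fin.sum_univ_eq_sum_range f, Finset.range_eq_Ico,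
      Finset.sum_eq_sum_Ico_succ_bot (by have := d.hM0; omega)]
  have hrot1 : ∑ i : Fin (2 * M₀), χ₁.1 (σ ^ (i : ℕ)) =
      ((charDegree χ₁.1 + δ₁ * (2 * M₀ - 1) : ℤ) : ℂ) := by
    rw [hsplit fun i => χ₁.1 (σ ^ i), pow_zero, ← Char.charDegree_cast,
      Finset.sum_congr rfl fun i hi => (hval i (Finset.mem_Ico.1 hi).1 (Finset.mem_Ico.1 hi).2).1,
      Finset.sum_const, Nat.card_Ico, nsmul_eq_mul,
      Nat.cast_sub (show 1 ≤ 2 * M₀ by have := d.hM0; omega)]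
    push_cast
    ring
  have hrot23 : ∀ (χ : IrrCharacter G) (δ : ℤ),
      (∀ l : ℕ, 0 < l → l < 2 * M₀ → χ.1 (σ ^ l) = δ * (-1) ^ (l + 1)) →
      ∑ i : Fin (2 * M₀), χ.1 (σ ^ (i : ℕ)) = ((charDegree χ.1 + δ : ℤ) : ℂ) := by
    intro χ δ hv
    rw [hsplit fun i => χ.1 (σ ^ i), pow_zero, ← Char.charDegree_cast,
      Finset.sum_congr rfl fun i hi => hv i (Finset.mem_Ico.1 hi).1 (Finset.mem_Ico.1 hi).2,
      ← Finset.mul_sum]
    have h0 : ∑ i ∈ Finset.Ico 1 (2 * M₀), ((-1 : ℂ)) ^ (i + 1) = 1 := by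
      have h := Finset.sum_eq_sum_Ico_succ_bot (f := fun i => (-1 : ℂ) ^ (i + 1))
        (show 0 < 2 * M₀ by have := d.hM0; omega)
      rw [← Finset.range_eq_Ico, Core.sum_range_two_mul,
        Finset.sum_eq_zero fun m _ => by simp only [pow_succ, pow_mul]; norm_num] at h
      simp only [zero_add, pow_one] at h
      linear_combination -h
    rw [h0]
    push_cast
    ring
  have hca : (4 * M₀ : ℤ) ∣ a - 1 := by
    have h := d.dvd_sum_sylow P hσ hτ hform χ₁ hrot1 (hval M₀ d.hM0 hMlt).1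
    obtain ⟨k, hk⟩ := h
    exact ⟨δ₁ * k - 1, by rw [ha]; linear_combination δ₁ * hk + (1 - 4 * (M₀ : ℤ)) * hd1⟩
  have hcbc : ∀ (χ : IrrCharacter G) (δ : ℤ), (δ = 1 ∨ δ = -1) →
      (∀ l : ℕ, 0 < l → l < 2 * M₀ → χ.1 (σ ^ l) = δ * (-1) ^ (l + 1)) →
      (4 * M₀ : ℤ) ∣ -δ * charDegree χ.1 - (1 + 2 * M₀) := by
    intro χ δ hδ hv
    have hJ : χ.1 (σ ^ M₀) = ((-δ : ℤ) : ℂ) := by
      rw [hv M₀ d.hM0 hMlt, hEven]; push_cast; ring
    obtain ⟨k, hk⟩ := d.dvd_sum_sylow P hσ hτ hform χ (hrot23 χ δ hv) hJ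
    have hdd : δ * δ = 1 := by rcases hδ with rfl | rfl <;> norm_num
    exact ⟨-δ * k - 1, by linear_combination -δ * hk + (1 - 2 * (M₀ : ℤ)) * hdd⟩
  refine ⟨χ₁, χ₂, χ₃, δ₁, δ₂, δ₃, a, b, c, h1, h2, h3, m1, m2, m3, n1, n2, n3, n12, n13, n23, hval,
    ha, hb, hc, ha1, hrel, hca, hcbc χ₂ δ₂ h2 (fun l h0 hl => (hval l h0 hl).2.1),
    hcbc χ₃ δ₃ h3 (fun l h0 hl => (hval l h0 hl).2.2), ?_⟩
  set p : ℤ := (Nat.card (Subgroup.centralizer ({σ ^ M₀, τ} : Set G)) : ℤ) with hp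
  set q : ℤ := (Nat.card (Subgroup.centralizer ({σ ^ M₀, σ * τ} : Set G)) : ℤ) with hq
  have hp0 : p ≠ 0 := by rw [hp]; exact_mod_cast Nat.card_pos.ne'
  have hq0 : q ≠ 0 := by rw [hq]; exact_mod_cast Nat.card_pos.ne'
  have ha0 : a ≠ 0 := by
    rw [ha]
    exact mul_ne_zero (by rcases h1 with rfl | rfl <;> norm_num)
      (by exact_mod_cast (Char.charDegree_pos χ₁).ne')
  refine SignArith.combine (N := (Nat.card G : ℤ))
    (J := (Nat.card (Subgroup.centralizer ({σ ^ M₀} : Set G)) : ℤ))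
    (by exact_mod_cast Nat.card_pos.ne') (by exact_mod_cast Nat.card_pos.ne') ha0 hp0 hq0 heq ?_
  apply (Int.cast_injective (α := ℂ))
  have hpc : (p : ℂ) ≠ 0 := Int.cast_ne_zero.2 hp0
  have hqc : (q : ℂ) ≠ 0 := Int.cast_ne_zero.2 hq0
  have hp' : (Nat.card (Subgroup.centralizer ({σ ^ M₀, τ} : Set G)) : ℂ) = p := by rw [hp]; norm_cast
  have hq' : (Nat.card (Subgroup.centralizer ({σ ^ M₀, σ * τ} : Set G)) : ℂ) = q := by rw [hq]; norm_cast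
  rw [hp', hq'] at hord
  field_simp at hord
  have hA : (a : ℂ) = (δ₁ : ℂ) * charDegree χ₁.1 := by rw [ha]; push_cast; rfl
  have hdc : (δ₁ : ℂ) * δ₁ = 1 := by exact_mod_cast hd1
  have e1 : ((a : ℂ) - 1) ^ 2 = ((charDegree χ₁.1 : ℂ) - δ₁) ^ 2 := by
    rw [hA]; linear_combination ((charDegree χ₁.1 : ℂ) ^ 2 - 1) * hdc
  have e2 : (a : ℂ) * (a + 1) = (charDegree χ₁.1 : ℂ) * ((charDegree χ₁.1 : ℂ) + δ₁) := by
    rw [hA]; linear_combination ((charDegree χ₁.1 : ℂ) ^ 2) * hdc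
  push_cast
  rw [e1, show (2 : ℂ) * a * (a + 1) = 2 * ((a : ℂ) * (a + 1)) by ring, e2]
  linear_combination hord

end Data

end Cfsg.Agent.DihedralBlock
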